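import Mathlib
import Cfsg.Prelude.Def_LieTypeDatum

set_option autoImplicit false

/-! Similar quadratic forms have isomorphic projective conformal groups. -/

namespace Cfsg.Agent.Lib.Helper5.PslGraph

open Cfsg Matrix

section formequiv
variable {ι₁ ι₂ : Type} [Fintype ι₁] [DecidableEq ι₁] [Fintype ι₂] [DecidableEq ι₂]
  {F : Type*} [Field F]

/-- transport of invertible matrices along a linear equivalence given by a pair of rectangular
matrices -/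
def glTransport (P : Matrix ι₂ ι₁ F) (P' : Matrix ι₁ ι₂ F) (h1 : P' * P = 1) (h2 : P * P' = 1) :
    GL ι₁ F →* GL ι₂ F where
  toFun g := ⟨P * (g : Matrix ι₁ ι₁ F) * P', P * ((g⁻¹ : GL ι₁ F) : Matrix ι₁ ι₁ F) * P', by
      calc P * (g : Matrix ι₁ ι₁ F) * P' * (P * ((g⁻¹ : GL ι₁ F) : Matrix ι₁ ι₁ F) * P')
          = P * ((g : Matrix ι₁ ι₁ F) * (P' * P) * ((g⁻¹ : GL ι₁ F) : Matrix ι₁ ι₁ F)) * P' := by
            simp only [Matrix.mul_assoc]
        _ = 1 := by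
            rw [h1, Matrix.mul_one, ← Units.val_mul, mul_inv_cancel, Units.val_one, Matrix.mul_one,
              h2], by
      calc P * ((g⁻¹ : GL ι₁ F) : Matrix ι₁ ι₁ F) * P' * (P * (g : Matrix ι₁ ι₁ F) * P')
          = P * (((g⁻¹ : GL ι₁ F) : Matrix ι₁ ι₁ F) * (P' * P) * (g : Matrix ι₁ ι₁ F)) * P' := by
            simp only [Matrix.mul_assoc]
        _ = 1 := by
            rw [h1, Matrix.mul_one, ← Units.val_mul, inv_mul_cancel, Units.val_one, Matrix.mul_one,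
              h2]⟩
  map_one' := by
    apply Units.ext
    show P * ((1 : GL ι₁ F) : Matrix ι₁ ι₁ F) * P' = 1
    rw [Units.val_one, Matrix.mul_one, h2]
  map_mul' g h := by
    apply Units.ext
    show P * ((g * h : GL ι₁ F) : Matrix ι₁ ι₁ F) * P' =
      P * (g : Matrix ι₁ ι₁ F) * P' * (P * (h : Matrix ι₁ ι₁ F) * P')
    rw [Units.val_mul]
    calc P * ((g : Matrix ι₁ ι₁ F) * (h : Matrix ι₁ ι₁ F)) * P'
        = P * ((g : Matrix ι₁ ι₁ F) * 1 * (h : Matrix ι₁ ι₁ F)) * P' := by rw [Matrix.mul_one]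
      _ = P * (g : Matrix ι₁ ι₁ F) * P' * (P * (h : Matrix ι₁ ι₁ F) * P') := by
          rw [← h1]
          simp only [Matrix.mul_assoc]

theorem glTransport_coe (P : Matrix ι₂ ι₁ F) (P' : Matrix ι₁ ι₂ F) (h1 : P' * P = 1)
    (h2 : P * P' = 1) (g : GL ι₁ F) :
    ((glTransport P P' h1 h2 g : GL ι₂ F) : Matrix ι₂ ι₂ F) = P * (g : Matrix ι₁ ι₁ F) * P' := rfl

theorem glTransport_glTransport (P : Matrix ι₂ ι₁ F) (P' : Matrix ι₁ ι₂ F) (h1 : P' * P = 1)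
    (h2 : P * P' = 1) (g : GL ι₂ F) :
    glTransport P P' h1 h2 (glTransport P' P h2 h1 g) = g := by
  apply Units.ext
  rw [glTransport_coe, glTransport_coe]
  calc P * (P' * (g : Matrix ι₂ ι₂ F) * P) * P'
      = (P * P') * (g : Matrix ι₂ ι₂ F) * (P * P') := by simp only [Matrix.mul_assoc]
    _ = (g : Matrix ι₂ ι₂ F) := by rw [h2, Matrix.one_mul, Matrix.mul_one]

theorem glTransport_mem (P : Matrix ι₂ ι₁ F) (P' : Matrix ι₁ ι₂ F) (h1 : P' * P = 1)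
    (h2 : P * P' = 1) (Q₁ : (ι₁ → F) → F) (Q₂ : (ι₂ → F) → F) (c : F)
    (hc : ∀ x, Q₂ (P *ᵥ x) = c * Q₁ x) (g : GL ι₁ F)
    (hg : g ∈ Geo.quadSimilarityGroup (F := F) Q₁) :
    glTransport P P' h1 h2 g ∈ Geo.quadSimilarityGroup (F := F) Q₂ := by
  obtain ⟨μ, hμ⟩ := hg
  refine ⟨μ, ?_⟩
  intro y
  have hy : y = P *ᵥ (P' *ᵥ y) := by
    rw [mulVec_mulVec, h2, one_mulVec]
  rw [glTransport_coe, ← mulVec_mulVec, ← mulVec_mulVec, hc, hμ]
  conv_rhs => rw [hy, hc]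
  ring

theorem glTransport_mem_scalars_iff (P : Matrix ι₂ ι₁ F) (P' : Matrix ι₁ ι₂ F) (h1 : P' * P = 1)
    (h2 : P * P' = 1) (g : GL ι₁ F) :
    glTransport P P' h1 h2 g ∈ Geo.scalars ι₂ F ↔ g ∈ Geo.scalars ι₁ F := by
  rw [Geo.mem_scalars_iff, Geo.mem_scalars_iff]
  constructor
  · rintro ⟨z, hz⟩
    refine ⟨z, ?_⟩
    rw [glTransport_coe] at hz
    calc (g : Matrix ι₁ ι₁ F) = (P' * P) * (g : Matrix ι₁ ι₁ F) * (P' * P) := by
          rw [h1, Matrix.one_mul, Matrix.mul_one]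
      _ = P' * (P * (g : Matrix ι₁ ι₁ F) * P') * P := by simp only [Matrix.mul_assoc]
      _ = (z : F) • (1 : Matrix ι₁ ι₁ F) := by
          rw [hz, Matrix.mul_smul, Matrix.mul_one, Matrix.smul_mul, h1]
  · rintro ⟨z, hz⟩
    refine ⟨z, ?_⟩
    rw [glTransport_coe, hz, Matrix.mul_smul, Matrix.mul_one, Matrix.smul_mul, h2]

/-- **similar forms have isomorphic projective conformal groups** -/
theorem pgo_congr (P : Matrix ι₂ ι₁ F) (P' : Matrix ι₁ ι₂ F) (h1 : P' * P = 1) (h2 : P * P' = 1)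
    (Q₁ : (ι₁ → F) → F) (Q₂ : (ι₂ → F) → F) (c : F) (hc0 : c ≠ 0)
    (hc : ∀ x, Q₂ (P *ᵥ x) = c * Q₁ x) :
    Nonempty (PGO F Q₁ ≃* PGO F Q₂) := by
  have hc' : ∀ y, Q₁ (P' *ᵥ y) = c⁻¹ * Q₂ y := by
    intro y
    have hy : y = P *ᵥ (P' *ᵥ y) := by
      rw [mulVec_mulVec, h2, one_mulVec]
    conv_rhs => rw [hy, hc]
    rw [← mul_assoc, inv_mul_cancel₀ hc0, one_mul]
  obtain ⟨f₀, hf₀⟩ : ∃ f₀ : ↥(Geo.quadSimilarityGroup (F := F) Q₁) →*
      ↥(Geo.quadSimilarityGroup (F := F) Q₂),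
      ∀ g, ((f₀ g : ↥(Geo.quadSimilarityGroup (F := F) Q₂)) : GL ι₂ F) =
        glTransport P P' h1 h2 (g : GL ι₁ F) :=
    ⟨((glTransport P P' h1 h2).comp (Subgroup.subtype _)).codRestrict _
      (fun g => glTransport_mem P P' h1 h2 Q₁ Q₂ c hc g g.2), fun _ => rfl⟩
  obtain ⟨f, hf⟩ : ∃ f : ↥(Geo.quadSimilarityGroup (F := F) Q₁) →* PGO F Q₂,
      ∀ g, f g = QuotientGroup.mk (f₀ g) :=
    ⟨(QuotientGroup.mk' _).comp f₀, fun _ => rfl⟩
  have hsurj : Function.Surjective f := by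
    intro y
    induction y using QuotientGroup.induction_on with
    | H y =>
      refine ⟨⟨glTransport P' P h2 h1 (y : GL ι₂ F),
        glTransport_mem P' P h2 h1 Q₂ Q₁ c⁻¹ hc' y y.2⟩, ?_⟩
      rw [hf]
      congr 1
      apply Subtype.ext
      rw [hf₀]
      exact glTransport_glTransport P P' h1 h2 y
  have hker : f.ker = (Geo.scalars ι₁ F).subgroupOf (Geo.quadSimilarityGroup (F := F) Q₁) := by
    ext g
    rw [MonoidHom.mem_ker, hf, QuotientGroup.eq_one_iff, Subgroup.mem_subgroupOf,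
      Subgroup.mem_subgroupOf, hf₀, glTransport_mem_scalars_iff]
  exact ⟨(QuotientGroup.quotientMulEquivOfEq hker).symm.trans
    (QuotientGroup.quotientKerEquivOfSurjective f hsurj)⟩

/-- reindexing -/
theorem pgo_congr_reindex (e : ι₁ ≃ ι₂) (Q₁ : (ι₁ → F) → F) (Q₂ : (ι₂ → F) → F)
    (h : ∀ x : ι₁ → F, Q₂ (x ∘ e.symm) = Q₁ x) : Nonempty (PGO F Q₁ ≃* PGO F Q₂) := by
  have hP : ∀ x : ι₁ → F, ((1 : Matrix ι₂ ι₂ F).submatrix id e) *ᵥ x = x ∘ e.symm := by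
    intro x
    rw [Matrix.submatrix_mulVec_equiv, one_mulVec]
    rfl
  refine pgo_congr ((1 : Matrix ι₂ ι₂ F).submatrix id e) ((1 : Matrix ι₁ ι₁ F).submatrix id e.symm)
    ?_ ?_ Q₁ Q₂ 1 one_ne_zero ?_
  · ext i j
    simp [Matrix.mul_apply, Matrix.one_apply, Matrix.submatrix_apply]
  · ext i j
    simp [Matrix.mul_apply, Matrix.one_apply, Matrix.submatrix_apply]
  · intro x
    rw [hP, h, one_mul]

end formequiv

section sameindex
variable {ι : Type} [Fintype ι] [DecidableEq ι] {F : Type*} [Field F]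

/-- a linear change of variables on a fixed index type -/
theorem pgo_congr_linear (P : Matrix ι ι F) (hinj : ∀ x, P *ᵥ x = 0 → x = 0)
    (Q₁ Q₂ : (ι → F) → F) (c : F) (hc0 : c ≠ 0) (hc : ∀ x, Q₂ (P *ᵥ x) = c * Q₁ x) :
    Nonempty (PGO F Q₁ ≃* PGO F Q₂) := by
  have hunit : IsUnit P := by
    rw [← Matrix.mulVec_injective_iff_isUnit]
    intro x y hxy
    have : P *ᵥ (x - y) = 0 := by rw [mulVec_sub, hxy, sub_self]
    exact sub_eq_zero.1 (hinj _ this)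
  obtain ⟨u, hu⟩ := hunit
  refine pgo_congr P ((u⁻¹ : (Matrix ι ι F)ˣ) : Matrix ι ι F) ?_ ?_ Q₁ Q₂ c hc0 hc
  · rw [← hu, ← Units.val_mul, inv_mul_cancel, Units.val_one]
  · rw [← hu, ← Units.val_mul, mul_inv_cancel, Units.val_one]

end sameindex

end Cfsg.Agent.Lib.Helper5.PslGraph
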