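import Mathlib
import Cfsg.Prelude.Def_LieTypeDatum
import Cfsg.Agent.Lib.Helper5.PslGraph.FormEquiv

set_option autoImplicit false

/-! The bilinear function of a matrix, its similarity group, and transport of projective
quotients. -/

namespace Cfsg.Agent.Lib.Helper5.PslGraph

open Cfsg Matrix

section bf
variable {ι : Type} [Fintype ι] [DecidableEq ι] {F : Type*} [Field F]

/-- the bilinear function of a matrix -/
def bf (S : Matrix ι ι F) (u v : ι → F) : F := u ⬝ᵥ (S *ᵥ v)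

theorem bf_mulVec (S g : Matrix ι ι F) (u v : ι → F) :
    bf S (g *ᵥ u) (g *ᵥ v) = bf (gᵀ * S * g) u v := by
  unfold bf
  calc (g *ᵥ u) ⬝ᵥ (S *ᵥ (g *ᵥ v)) = (u ᵥ* gᵀ) ⬝ᵥ (S *ᵥ (g *ᵥ v)) := by rw [vecMul_transpose]
    _ = u ⬝ᵥ (gᵀ *ᵥ (S *ᵥ (g *ᵥ v))) := (dotProduct_mulVec _ _ _).symm
    _ = u ⬝ᵥ ((gᵀ * S * g) *ᵥ v) := by rw [mulVec_mulVec, mulVec_mulVec, Matrix.mul_assoc]

theorem bf_single (S : Matrix ι ι F) (i j : ι) : bf S (Pi.single i 1) (Pi.single j 1) = S i j := by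
  unfold bf
  simp

theorem bf_smul (S : Matrix ι ι F) (c : F) (u v : ι → F) : bf (c • S) u v = c * bf S u v := by
  unfold bf
  rw [smul_mulVec, dotProduct_smul, smul_eq_mul]

theorem bf_add_left (S : Matrix ι ι F) (u u' v : ι → F) :
    bf S (u + u') v = bf S u v + bf S u' v := by
  unfold bf
  rw [add_dotProduct]

theorem bf_add_right (S : Matrix ι ι F) (u v v' : ι → F) :
    bf S u (v + v') = bf S u v + bf S u v' := by
  unfold bf
  rw [mulVec_add, dotProduct_add]

theorem bf_smul_left (S : Matrix ι ι F) (c : F) (u v : ι → F) :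
    bf S (c • u) v = c * bf S u v := by
  unfold bf
  rw [smul_dotProduct, smul_eq_mul]

theorem bf_smul_right (S : Matrix ι ι F) (c : F) (u v : ι → F) :
    bf S u (c • v) = c * bf S u v := by
  unfold bf
  rw [mulVec_smul, dotProduct_smul, smul_eq_mul]

theorem bf_transpose (S : Matrix ι ι F) (u v : ι → F) : bf Sᵀ u v = bf S v u := by
  unfold bf
  rw [dotProduct_mulVec, vecMul_transpose, dotProduct_comm]

theorem bf_symm (S : Matrix ι ι F) (hS : Sᵀ = S) (u v : ι → F) : bf S u v = bf S v u := by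
  rw [← bf_transpose, hS]

theorem bf_ext (S S' : Matrix ι ι F) (h : ∀ u v, bf S u v = bf S' u v) : S = S' := by
  ext i j
  rw [← bf_single S, ← bf_single S', h]

theorem bf_polarize (S : Matrix ι ι F) (hS : Sᵀ = S) (u v : ι → F) :
    bf S (u + v) (u + v) = bf S u u + bf S v v + 2 * bf S u v := by
  rw [bf_add_left, bf_add_right, bf_add_right, bf_symm S hS v u]
  ring

/-- a symmetric matrix is determined by its quadratic form when `2 ≠ 0` -/
theorem bf_ext_diag (h2 : (2 : F) ≠ 0) (S S' : Matrix ι ι F) (hS : Sᵀ = S) (hS' : S'ᵀ = S')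
    (h : ∀ v, bf S v v = bf S' v v) : S = S' := by
  apply bf_ext
  intro u v
  have h1 := h (u + v)
  rw [bf_polarize S hS, bf_polarize S' hS', h u, h v] at h1
  have h3 : 2 * bf S u v = 2 * bf S' u v := by linear_combination h1
  exact mul_left_cancel₀ h2 h3

theorem bf_reindex {κ : Type} [Fintype κ] [DecidableEq κ] (e : ι ≃ κ) (G : Matrix ι ι F)
    (u v : κ → F) : bf (Matrix.reindex e e G) u v = bf G (u ∘ e) (v ∘ e) := by
  unfold bf
  rw [Matrix.reindex_apply, Matrix.submatrix_mulVec_equiv, dotProduct]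
  rw [← e.sum_comp]
  simp [dotProduct, Function.comp]

end bf

section simquad
variable {ι : Type} [Fintype ι] [DecidableEq ι] {F : Type*} [Field F]

/-- in odd characteristic the similarities of a quadratic function are those of its polar form -/
theorem similarityGroup_eq_quadSimilarityGroup (h2 : (2 : F) ≠ 0) (B : (ι → F) → (ι → F) → F)
    (Q : (ι → F) → F) (hB : ∀ u v, B u v = Q (u + v) - Q u - Q v) (hQ : ∀ v, B v v = 2 * Q v) :
    Geo.similarityGroup (F := F) B = Geo.quadSimilarityGroup (F := F) Q := by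
  ext g
  constructor
  · rintro ⟨c, hc⟩
    refine ⟨c, fun v => ?_⟩
    have h := hc v v
    rw [hQ, hQ] at h
    have h3 : 2 * Q ((g : Matrix ι ι F) *ᵥ v) = 2 * ((c : F) * Q v) := by linear_combination h
    exact mul_left_cancel₀ h2 h3
  · rintro ⟨c, hc⟩
    refine ⟨c, fun u v => ?_⟩
    rw [hB, hB, ← mulVec_add, hc, hc, hc]
    ring

end simquad

section transport
variable {ι₁ ι₂ : Type} [Fintype ι₁] [DecidableEq ι₁] [Fintype ι₂] [DecidableEq ι₂]
  {F : Type*} [Field F]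

/-- transport of projective quotients along a pair of mutually inverse rectangular matrices -/
theorem projQuot_congr (P : Matrix ι₂ ι₁ F) (P' : Matrix ι₁ ι₂ F) (h1 : P' * P = 1)
    (h2 : P * P' = 1) (H₁ : Subgroup (GL ι₁ F)) (H₂ : Subgroup (GL ι₂ F))
    (h12 : ∀ g ∈ H₁, glTransport P P' h1 h2 g ∈ H₂)
    (h21 : ∀ g ∈ H₂, glTransport P' P h2 h1 g ∈ H₁) :
    Nonempty (projQuot H₁ ≃* projQuot H₂) := by
  obtain ⟨f₀, hf₀⟩ : ∃ f₀ : ↥H₁ →* ↥H₂,
      ∀ g, ((f₀ g : ↥H₂) : GL ι₂ F) = glTransport P P' h1 h2 (g : GL ι₁ F) :=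
    ⟨((glTransport P P' h1 h2).comp (Subgroup.subtype _)).codRestrict _
      (fun g => h12 g g.2), fun _ => rfl⟩
  obtain ⟨f, hf⟩ : ∃ f : ↥H₁ →* projQuot H₂, ∀ g, f g = QuotientGroup.mk (f₀ g) :=
    ⟨(QuotientGroup.mk' _).comp f₀, fun _ => rfl⟩
  have hsurj : Function.Surjective f := by
    intro y
    induction y using QuotientGroup.induction_on with
    | H y =>
      refine ⟨⟨glTransport P' P h2 h1 (y : GL ι₂ F), h21 y y.2⟩, ?_⟩
      rw [hf]
      congr 1
      apply Subtype.ext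
      rw [hf₀]
      exact glTransport_glTransport P P' h1 h2 y
  have hker : f.ker = (Geo.scalars ι₁ F).subgroupOf H₁ := by
    ext g
    rw [MonoidHom.mem_ker, hf, QuotientGroup.eq_one_iff, Subgroup.mem_subgroupOf,
      Subgroup.mem_subgroupOf, hf₀, glTransport_mem_scalars_iff]
  exact ⟨(QuotientGroup.quotientMulEquivOfEq hker).symm.trans
    (QuotientGroup.quotientKerEquivOfSurjective f hsurj)⟩

theorem glTransport_mem_sim (P : Matrix ι₂ ι₁ F) (P' : Matrix ι₁ ι₂ F) (h1 : P' * P = 1)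
    (h2 : P * P' = 1) (f₁ : (ι₁ → F) → (ι₁ → F) → F) (f₂ : (ι₂ → F) → (ι₂ → F) → F)
    (hc : ∀ x y, f₂ (P *ᵥ x) (P *ᵥ y) = f₁ x y) (g : GL ι₁ F)
    (hg : g ∈ Geo.similarityGroup (F := F) f₁) :
    glTransport P P' h1 h2 g ∈ Geo.similarityGroup (F := F) f₂ := by
  obtain ⟨μ, hμ⟩ := hg
  refine ⟨μ, ?_⟩
  intro y y'
  have hy : y = P *ᵥ (P' *ᵥ y) := by
    rw [mulVec_mulVec, h2, one_mulVec]
  have hy' : y' = P *ᵥ (P' *ᵥ y') := by
    rw [mulVec_mulVec, h2, one_mulVec]
  rw [glTransport_coe, ← mulVec_mulVec, ← mulVec_mulVec, ← mulVec_mulVec, ← mulVec_mulVec, hc, hμ]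
  conv_rhs => rw [hy, hy', hc]

/-- reindexing the matrix of a bilinear form -/
theorem projQuot_sim_reindex (e : ι₁ ≃ ι₂) (G : Matrix ι₁ ι₁ F) :
    Nonempty (projQuot (Geo.similarityGroup (F := F) (bf (Matrix.reindex e e G))) ≃*
      projQuot (Geo.similarityGroup (F := F) (bf G))) := by
  have hP : ∀ x : ι₁ → F, ((1 : Matrix ι₂ ι₂ F).submatrix id e) *ᵥ x = x ∘ e.symm := by
    intro x
    rw [Matrix.submatrix_mulVec_equiv, one_mulVec]
    rfl
  have hP' : ∀ y : ι₂ → F, ((1 : Matrix ι₁ ι₁ F).submatrix id e.symm) *ᵥ y = y ∘ e := by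
    intro y
    rw [Matrix.submatrix_mulVec_equiv, one_mulVec]
    rfl
  have h1 : ((1 : Matrix ι₁ ι₁ F).submatrix id e.symm) * ((1 : Matrix ι₂ ι₂ F).submatrix id e) = 1 := by
    ext i j
    simp [Matrix.mul_apply, Matrix.one_apply, Matrix.submatrix_apply]
  have h2 : ((1 : Matrix ι₂ ι₂ F).submatrix id e) * ((1 : Matrix ι₁ ι₁ F).submatrix id e.symm) = 1 := by
    ext i j
    simp [Matrix.mul_apply, Matrix.one_apply, Matrix.submatrix_apply]
  refine projQuot_congr ((1 : Matrix ι₁ ι₁ F).submatrix id e.symm)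
    ((1 : Matrix ι₂ ι₂ F).submatrix id e) h2 h1 _ _ ?_ ?_
  · intro g hg
    refine glTransport_mem_sim _ _ h2 h1 _ _ ?_ g hg
    intro x y
    rw [hP', hP', bf_reindex]
  · intro g hg
    refine glTransport_mem_sim _ _ h1 h2 _ _ ?_ g hg
    intro x y
    rw [hP, hP, bf_reindex]
    congr 1 <;> · funext i; simp

end transport

end Cfsg.Agent.Lib.Helper5.PslGraph
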