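import Mathlib
import Cfsg.Prelude.Def_LieTypeDatum
import Cfsg.Agent.Lib.Helper5.PslGraph.FormEquiv

set_option autoImplicit false

/-! The sum of squares in even dimension is of plus or minus type. -/

namespace Cfsg.Agent.Lib.Helper5.PslGraph

open Cfsg Matrix

section sumsq
variable {F : Type*} [Field F]

/-- the sum of squares -/
def sumSq (ι : Type) [Fintype ι] (x : ι → F) : F := ∑ i, x i * x i

/-- the hyperbolic form on a doubled index type -/
def plusOn (ι₀ : Type) [Fintype ι₀] (v : ι₀ ⊕ ι₀ → F) : F := ∑ i, v (Sum.inl i) * v (Sum.inr i)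

/-- the form `Σ xᵢ yᵢ + z₁² + z₂²` -/
def minusOn (ι₀ : Type) [Fintype ι₀] (v : (ι₀ ⊕ ι₀) ⊕ Fin 2 → F) : F :=
  (∑ i, v (Sum.inl (Sum.inl i)) * v (Sum.inl (Sum.inr i))) +
    (v (Sum.inr 0) * v (Sum.inr 0) + v (Sum.inr 1) * v (Sum.inr 1))

theorem quadFormPlus_eq (m : ℕ) : quadFormPlus m F = plusOn (F := F) (Fin m) := rfl

theorem quadFormMinus_eq (k : ℕ) : quadFormMinus k F 0 1 = minusOn (F := F) (Fin k) := by
  funext v
  unfold quadFormMinus minusOn
  ring

theorem sumSq_eq_dot (ι : Type) [Fintype ι] (x : ι → F) : sumSq ι x = x ⬝ᵥ x := rfl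

theorem sumSq_nondeg (h2 : (2 : F) ≠ 0) (ι : Type) [Fintype ι] [DecidableEq ι] (x : ι → F)
    (hx : ∀ w, sumSq ι (x + w) = sumSq ι w) : x = 0 := by
  have hexp : ∀ w, sumSq ι (x + w) = sumSq ι x + 2 * (x ⬝ᵥ w) + sumSq ι w := by
    intro w
    rw [sumSq_eq_dot, sumSq_eq_dot, sumSq_eq_dot, add_dotProduct, dotProduct_add, dotProduct_add,
      dotProduct_comm w x]
    ring
  have h0 : sumSq ι x = 0 := by
    have := hx 0
    rw [add_zero] at this
    rw [this, sumSq_eq_dot, dotProduct_zero]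
  funext j
  have h1 := hx (Pi.single j 1)
  rw [hexp, h0, zero_add, dotProduct_single, mul_one] at h1
  have h4 : 2 * x j = 0 := add_eq_right.1 h1
  exact (mul_eq_zero.1 h4).resolve_left h2

end sumsq

section linear
variable {ι : Type} [Fintype ι] [DecidableEq ι] {F : Type*} [Field F]

/-- a linear change of variables, given as a linear map, from a nondegenerate form -/
theorem pgo_congr_linearMap (L : (ι → F) →ₗ[F] (ι → F)) (Q₁ Q₂ : (ι → F) → F)
    (hnd : ∀ x, (∀ w, Q₁ (x + w) = Q₁ w) → x = 0) (c : F) (hc0 : c ≠ 0)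
    (hc : ∀ x, Q₂ (L x) = c * Q₁ x) : Nonempty (PGO F Q₁ ≃* PGO F Q₂) := by
  apply pgo_congr_linear (LinearMap.toMatrix' L) _ Q₁ Q₂ c hc0
  · intro x
    rw [LinearMap.toMatrix'_mulVec]
    exact hc x
  · intro x hx
    rw [LinearMap.toMatrix'_mulVec] at hx
    apply hnd
    intro w
    have h1 := hc (x + w)
    rw [map_add, hx, zero_add, hc] at h1
    exact (mul_left_cancel₀ hc0 h1).symm

end linear

end Cfsg.Agent.Lib.Helper5.PslGraph
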