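import Mathlib
import Cfsg.Prelude.Def_LieTypeDatum
import Cfsg.Agent.Lib.Helper9.APSL20
import Cfsg.Agent.Lib.Helper5.PslGraph.SumSq

set_option autoImplicit false

/-! The centralizer of inverse-transpose in the inner-diagonal group of `PSL_n`. -/

namespace Cfsg.Agent.Lib.Helper5.PslGraph

open Cfsg Matrix Cfsg.Agent.Lib.Helper9.APSL

section cent
variable {F : Type*} [Field F] {n : ℕ}

local notation "Mn" => Matrix (Fin n) (Fin n) F
local notation "PSLn" => Matrix.ProjectiveSpecialLinearGroup (Fin n) F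
local notation "GLn" => GL (Fin n) F

theorem mem_center_iff_scalar (g : GLn) :
    g ∈ Subgroup.center GLn ↔ ∃ c : F, (g : Mn) = c • (1 : Mn) := by
  rw [Matrix.GeneralLinearGroup.mem_center_iff_val_mem_range_scalar]
  constructor
  · rintro ⟨c, hc⟩
    refine ⟨c, ?_⟩
    rw [← hc, Matrix.smul_one_eq_diagonal]
    rfl
  · rintro ⟨c, hc⟩
    refine ⟨c, ?_⟩
    rw [hc, Matrix.smul_one_eq_diagonal]
    rfl

theorem cG_eq_cG_iff (hn : 2 ≤ n) (g h : GLn) :
    cG g = cG h ↔ ∃ c : F, (g : Mn) = c • (h : Mn) := by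
  have h1 : cG g = cG h ↔ h⁻¹ * g ∈ (cG (F := F) (n := n)).ker := by
    rw [MonoidHom.mem_ker, map_mul, map_inv]
    constructor
    · intro e
      rw [e, inv_mul_cancel]
    · intro e
      rw [← mul_one (cG h), ← e, mul_inv_cancel_left]
  rw [h1, cG_ker hn, mem_center_iff_scalar]
  have hh : (h : Mn) * ((h⁻¹ : GLn) : Mn) = 1 := by
    rw [← Units.val_mul, mul_inv_cancel, Units.val_one]
  constructor
  · rintro ⟨c, hc⟩
    refine ⟨c, ?_⟩
    rw [Units.val_mul] at hc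
    calc (g : Mn) = (h : Mn) * (((h⁻¹ : GLn) : Mn) * (g : Mn)) := by
          rw [← Matrix.mul_assoc, hh, Matrix.one_mul]
      _ = c • (h : Mn) := by rw [hc, Matrix.mul_smul, Matrix.mul_one]
  · rintro ⟨c, hc⟩
    refine ⟨c, ?_⟩
    rw [Units.val_mul, hc, Matrix.mul_smul, ← Units.val_mul, inv_mul_cancel, Units.val_one]

theorem cG_mem_cent_gam_iff (hn : 2 ≤ n) (g : GLn) :
    cG g ∈ Subgroup.centralizer {(gam : MulAut PSLn)} ↔
      ∃ c : F, (g : Mn)ᵀ * (g : Mn) = c • (1 : Mn) := by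
  rw [Subgroup.mem_centralizer_singleton_iff, gam_mul_cG]
  have h1 : cG g * (gam : MulAut PSLn) = cG (tI g) * gam ↔ cG g = cG (tI g) := by
    constructor
    · intro e
      exact mul_right_cancel e
    · intro e
      rw [← e]
  rw [h1, cG_eq_cG_iff hn, tI_coe]
  have hg : ((g⁻¹ : GLn) : Mn) * (g : Mn) = 1 := by
    rw [← Units.val_mul, inv_mul_cancel, Units.val_one]
  have hg' : (g : Mn) * ((g⁻¹ : GLn) : Mn) = 1 := by
    rw [← Units.val_mul, mul_inv_cancel, Units.val_one]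
  constructor
  · rintro ⟨c, hc⟩
    refine ⟨c, ?_⟩
    have h3 : (g : Mn)ᵀ = c • ((g⁻¹ : GLn) : Mn) := by
      have := congrArg Matrix.transpose hc
      rw [Matrix.transpose_smul, Matrix.transpose_transpose] at this
      exact this
    rw [h3, Matrix.smul_mul, hg]
  · rintro ⟨c, hc⟩
    refine ⟨c, ?_⟩
    have h3 : (g : Mn)ᵀ = c • ((g⁻¹ : GLn) : Mn) := by
      calc (g : Mn)ᵀ = (g : Mn)ᵀ * ((g : Mn) * ((g⁻¹ : GLn) : Mn)) := by
            rw [hg', Matrix.mul_one]
        _ = c • ((g⁻¹ : GLn) : Mn) := by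
            rw [← Matrix.mul_assoc, hc, Matrix.smul_mul, Matrix.one_mul]
    have := congrArg Matrix.transpose h3
    rw [Matrix.transpose_smul, Matrix.transpose_transpose] at this
    exact this

theorem sumSq_mulVec (g : Mn) (v : Fin n → F) :
    sumSq (Fin n) (g *ᵥ v) = v ⬝ᵥ ((gᵀ * g) *ᵥ v) := by
  rw [sumSq_eq_dot, ← mulVec_mulVec, dotProduct_mulVec (v := v), vecMul_transpose]

theorem mem_sim_sumSq_iff (hn : 2 ≤ n) (h2 : (2 : F) ≠ 0) (g : GLn) :
    g ∈ Geo.quadSimilarityGroup (F := F) (sumSq (F := F) (Fin n)) ↔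
      ∃ c : F, (g : Mn)ᵀ * (g : Mn) = c • (1 : Mn) := by
  constructor
  · rintro ⟨c, hc⟩
    refine ⟨c, ?_⟩
    have hpol : ∀ v w : Fin n → F, v ⬝ᵥ (((g : Mn)ᵀ * (g : Mn)) *ᵥ w) = v ⬝ᵥ ((c : F) • w) := by
      intro v w
      have h1 := hc (v + w)
      have h3 := hc v
      have h4 := hc w
      rw [sumSq_mulVec] at h1 h3 h4
      rw [sumSq_eq_dot] at h1 h3 h4
      have hsym : w ⬝ᵥ (((g : Mn)ᵀ * (g : Mn)) *ᵥ v) = v ⬝ᵥ (((g : Mn)ᵀ * (g : Mn)) *ᵥ w) := by
        rw [dotProduct_mulVec, ← vecMul_transpose, ← dotProduct_comm]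
        congr 2
        rw [Matrix.transpose_mul, Matrix.transpose_transpose]
      rw [mulVec_add, add_dotProduct, dotProduct_add, dotProduct_add, hsym, h3, h4,
        add_dotProduct, dotProduct_add, dotProduct_add, dotProduct_comm w v] at h1
      rw [dotProduct_smul, smul_eq_mul]
      have h5 : (2 : F) * (v ⬝ᵥ (((g : Mn)ᵀ * (g : Mn)) *ᵥ w)) = 2 * ((c : F) * (v ⬝ᵥ w)) := by
        linear_combination h1
      exact mul_left_cancel₀ h2 h5
    rw [Matrix.ext_iff_mulVec]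
    intro w
    rw [smul_mulVec, one_mulVec]
    apply dotProduct_eq
    intro u
    rw [dotProduct_comm, hpol, dotProduct_comm]
  · rintro ⟨c, hc⟩
    have hc0 : c ≠ 0 := by
      rintro rfl
      rw [zero_smul] at hc
      have : Nonempty (Fin n) := ⟨⟨0, by omega⟩⟩
      have := congrArg Matrix.det hc
      rw [Matrix.det_mul, Matrix.det_transpose, Matrix.det_zero] at this
      have hdet : (g : Mn).det ≠ 0 := Matrix.GeneralLinearGroup.det_ne_zero g
      exact hdet (mul_self_eq_zero.1 this)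
    refine ⟨Units.mk0 c hc0, ?_⟩
    intro v
    rw [sumSq_mulVec, hc, smul_mulVec, one_mulVec, dotProduct_smul, smul_eq_mul, sumSq_eq_dot]
    rfl

/-- **the centralizer of inverse-transpose in `Inndiag(PSL_n)`** -/
theorem cent_gam_equiv (hn : 2 ≤ n) (h2 : (2 : F) ≠ 0) :
    Nonempty (↥(Cfsg.inndiagPSL n F ⊓ Subgroup.centralizer {(gam : MulAut PSLn)}) ≃*
      PGO F (sumSq (F := F) (Fin n))) := by
  obtain ⟨f, hf⟩ : ∃ f : ↥(Geo.quadSimilarityGroup (F := F) (sumSq (F := F) (Fin n))) →*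
      ↥(Cfsg.inndiagPSL n F ⊓ Subgroup.centralizer {(gam : MulAut PSLn)}),
      ∀ g, ((f g : ↥(Cfsg.inndiagPSL n F ⊓ Subgroup.centralizer {(gam : MulAut PSLn)})) :
        MulAut PSLn) = cG (g : GLn) :=
    ⟨((cG (F := F) (n := n)).comp (Subgroup.subtype _)).codRestrict _
      (fun g => ⟨by rw [inndiagPSL_eq]; exact ⟨_, rfl⟩,
        (cG_mem_cent_gam_iff hn _).2 ((mem_sim_sumSq_iff hn h2 _).1 g.2)⟩), fun _ => rfl⟩
  have hsurj : Function.Surjective f := by
    rintro ⟨x, hx1, hx2⟩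
    rw [inndiagPSL_eq] at hx1
    obtain ⟨g, rfl⟩ := hx1
    refine ⟨⟨g, (mem_sim_sumSq_iff hn h2 g).2 ((cG_mem_cent_gam_iff hn g).1 hx2)⟩, ?_⟩
    apply Subtype.ext
    rw [hf]
  have hker : f.ker = (Geo.scalars (Fin n) F).subgroupOf
      (Geo.quadSimilarityGroup (F := F) (sumSq (F := F) (Fin n))) := by
    ext g
    rw [MonoidHom.mem_ker, Subgroup.mem_subgroupOf, Geo.mem_scalars_iff]
    have h1 : f g = 1 ↔ (g : GLn) ∈ (cG (F := F) (n := n)).ker := by
      rw [MonoidHom.mem_ker, ← hf]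
      constructor
      · intro e
        rw [e]
        rfl
      · intro e
        exact Subtype.ext e
    rw [h1, cG_ker hn, mem_center_iff_scalar]
    constructor
    · rintro ⟨c, hc⟩
      have hc0 : c ≠ 0 := by
        rintro rfl
        rw [zero_smul] at hc
        have : Nonempty (Fin n) := ⟨⟨0, by omega⟩⟩
        have hdet : ((g : GLn) : Mn).det ≠ 0 := Matrix.GeneralLinearGroup.det_ne_zero _
        rw [hc, Matrix.det_zero] at hdet
        exact hdet rfl
      exact ⟨Units.mk0 c hc0, hc⟩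
    · rintro ⟨c, hc⟩
      exact ⟨c, hc⟩
  exact ⟨(QuotientGroup.quotientKerEquivOfSurjective f hsurj).symm.trans
    (QuotientGroup.quotientMulEquivOfEq hker)⟩

end cent

end Cfsg.Agent.Lib.Helper5.PslGraph
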