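import Mathlib
import Cfsg.Prelude.Def_LieTypeDatum
import Cfsg.Agent.Lib.Helper9.APSL25
import Cfsg.Agent.Lib.Helper5.PslGraph.Cent
import Cfsg.Agent.Lib.Helper5.PslGraph.Bf

set_option autoImplicit false

/-! Graph automorphisms `γ_S = ι ∘ c_S` of `PSL_n`: squares, conjugacy, centralizers. -/

namespace Cfsg.Agent.Lib.Helper5.PslGraph

open Cfsg Matrix Cfsg.Agent.Lib.Helper9.APSL

section graphaut
variable {F : Type*} [Field F] {n : ℕ}

local notation "Mn" => Matrix (Fin n) (Fin n) F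
local notation "PSLn" => Matrix.ProjectiveSpecialLinearGroup (Fin n) F
local notation "GLn" => GL (Fin n) F

/-- the graph automorphism attached to an invertible matrix: inverse-transpose after
conjugation by `S` -/
noncomputable def gB (S : GLn) : MulAut PSLn := gam * cG S

theorem cG_mul_gam (g : GLn) : cG g * (gam : MulAut PSLn) = gam * cG (tI g) := by
  rw [gam_mul_cG, tI_tI]

theorem gB_mul_gB (S : GLn) : gB S * gB S = cG (tI S * S) := by
  unfold gB
  calc (gam : MulAut PSLn) * cG S * (gam * cG S)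
      = gam * (cG S * gam) * cG S := by simp only [mul_assoc]
    _ = gam * (gam * cG (tI S)) * cG S := by rw [cG_mul_gam]
    _ = (gam * gam) * (cG (tI S) * cG S) := by simp only [mul_assoc]
    _ = cG (tI S * S) := by rw [gam_mul_gam, one_mul, map_mul]

theorem cG_conj_gB (h S : GLn) : cG h * gB S * (cG h)⁻¹ = gB (tI h * S * h⁻¹) := by
  unfold gB
  calc cG h * ((gam : MulAut PSLn) * cG S) * (cG h)⁻¹
      = (cG h * gam) * cG S * (cG h)⁻¹ := by simp only [mul_assoc]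
    _ = gam * (cG (tI h) * cG S * (cG h)⁻¹) := by
        rw [cG_mul_gam]
        simp only [mul_assoc]
    _ = gam * cG (tI h * S * h⁻¹) := by rw [map_mul, map_mul, map_inv]

theorem gB_eq_gB_iff (hn : 2 ≤ n) (S S' : GLn) :
    gB S = gB S' ↔ ∃ c : F, (S : Mn) = c • (S' : Mn) := by
  unfold gB
  rw [mul_right_inj, cG_eq_cG_iff hn]

theorem tI_mul_mul_inv_coe (h S : GLn) :
    ((tI h * S * h⁻¹ : GLn) : Mn) = ((h⁻¹ : GLn) : Mn)ᵀ * (S : Mn) * ((h⁻¹ : GLn) : Mn) := by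
  rw [Units.val_mul, Units.val_mul, tI_coe]

theorem inv_coe_mul (h : GLn) : ((h⁻¹ : GLn) : Mn) * (h : Mn) = 1 := by
  rw [← Units.val_mul, inv_mul_cancel, Units.val_one]

theorem mul_inv_coe (h : GLn) : (h : Mn) * ((h⁻¹ : GLn) : Mn) = 1 := by
  rw [← Units.val_mul, mul_inv_cancel, Units.val_one]

/-- conjugacy of the `γ_S` under the inner-diagonal group is congruence up to scalars -/
theorem isConjUnder_gB_iff (hn : 2 ≤ n) (S S' : GLn) :
    IsConjUnder (Cfsg.inndiagPSL n F) (gB S) (gB S') ↔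
      ∃ (T : GLn) (c : F), (T : Mn)ᵀ * (S' : Mn) * (T : Mn) = c • (S : Mn) := by
  unfold IsConjUnder
  rw [inndiagPSL_eq]
  constructor
  · rintro ⟨_, ⟨T, rfl⟩, e⟩
    rw [cG_conj_gB, gB_eq_gB_iff hn, tI_mul_mul_inv_coe] at e
    obtain ⟨c, hc⟩ := e
    refine ⟨T, c, ?_⟩
    rw [hc, Matrix.mul_smul, Matrix.smul_mul]
    congr 1
    calc (T : Mn)ᵀ * (((T⁻¹ : GLn) : Mn)ᵀ * (S : Mn) * ((T⁻¹ : GLn) : Mn)) * (T : Mn)
        = ((T : Mn)ᵀ * ((T⁻¹ : GLn) : Mn)ᵀ) * (S : Mn) * (((T⁻¹ : GLn) : Mn) * (T : Mn)) := by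
          simp only [Matrix.mul_assoc]
      _ = (S : Mn) := by
          rw [← Matrix.transpose_mul, inv_coe_mul, Matrix.transpose_one, Matrix.one_mul,
            Matrix.mul_one]
  · rintro ⟨T, c, hc⟩
    refine ⟨cG T, ⟨T, rfl⟩, ?_⟩
    rw [cG_conj_gB, gB_eq_gB_iff hn, tI_mul_mul_inv_coe]
    have hc0 : c ≠ 0 := by
      rintro rfl
      rw [zero_smul] at hc
      have h1 := congrArg Matrix.det hc
      rw [Matrix.det_mul, Matrix.det_mul, Matrix.det_transpose] at h1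
      have hT : (T : Mn).det ≠ 0 := Matrix.GeneralLinearGroup.det_ne_zero T
      have hS' : (S' : Mn).det ≠ 0 := Matrix.GeneralLinearGroup.det_ne_zero S'
      have : Nonempty (Fin n) := ⟨⟨0, by omega⟩⟩
      rw [Matrix.det_zero] at h1
      exact mul_ne_zero (mul_ne_zero hT hS') hT h1
    refine ⟨c, ?_⟩
    have hS : (S : Mn) = c⁻¹ • ((T : Mn)ᵀ * (S' : Mn) * (T : Mn)) := by
      rw [hc, smul_smul, inv_mul_cancel₀ hc0, one_smul]
    rw [hS, Matrix.mul_smul, Matrix.smul_mul, smul_smul, mul_inv_cancel₀ hc0, one_smul]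
    calc (S' : Mn)
        = ((T : Mn) * ((T⁻¹ : GLn) : Mn))ᵀ * (S' : Mn) * ((T : Mn) * ((T⁻¹ : GLn) : Mn)) := by
          rw [mul_inv_coe, Matrix.transpose_one, Matrix.one_mul, Matrix.mul_one]
      _ = _ := by
          rw [Matrix.transpose_mul]
          simp only [Matrix.mul_assoc]

theorem gB_sq_eq_one_iff (hn : 2 ≤ n) (S : GLn) :
    gB S * gB S = 1 ↔ ∃ c : F, (S : Mn) = c • (S : Mn)ᵀ := by
  rw [gB_mul_gB, ← map_one (cG (F := F) (n := n)), cG_eq_cG_iff hn, Units.val_one, Units.val_mul,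
    tI_coe]
  have hT : (S : Mn)ᵀ * ((S⁻¹ : GLn) : Mn)ᵀ = 1 := by
    rw [← Matrix.transpose_mul, inv_coe_mul, Matrix.transpose_one]
  constructor
  · rintro ⟨c, hc⟩
    refine ⟨c, ?_⟩
    calc (S : Mn) = ((S : Mn)ᵀ * ((S⁻¹ : GLn) : Mn)ᵀ) * (S : Mn) := by rw [hT, Matrix.one_mul]
      _ = (S : Mn)ᵀ * (((S⁻¹ : GLn) : Mn)ᵀ * (S : Mn)) := by rw [Matrix.mul_assoc]
      _ = c • (S : Mn)ᵀ := by rw [hc, Matrix.mul_smul, Matrix.mul_one]
  · rintro ⟨c, hc⟩
    refine ⟨c, ?_⟩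
    have hT' : ((S⁻¹ : GLn) : Mn)ᵀ * (S : Mn)ᵀ = 1 := by
      rw [← Matrix.transpose_mul, mul_inv_coe, Matrix.transpose_one]
    calc ((S⁻¹ : GLn) : Mn)ᵀ * (S : Mn) = ((S⁻¹ : GLn) : Mn)ᵀ * (c • (S : Mn)ᵀ) := by rw [← hc]
      _ = c • (1 : Mn) := by rw [Matrix.mul_smul, hT']

theorem exists_gB_of_graphAutClass {γ : MulAut PSLn} (hγ : Cfsg.IsGraphAutClassPSL γ) :
    ∃ S : GLn, γ = gB S := by
  obtain ⟨_, δ, γ₀, hδ, hγ₀, rfl⟩ := hγ
  obtain ⟨A, hA⟩ := eq_cG_of_innerDiagonal hδ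
  have hA' : δ = cG A := hA
  have h0 : γ₀ = gam := eq_gam_of_inverseTranspose hγ₀
  refine ⟨tI A, ?_⟩
  unfold gB
  rw [hA', h0, cG_mul_gam]

theorem isGraphAutClass_gB (hn : 3 ≤ n) (S : GLn) : Cfsg.IsGraphAutClassPSL (gB S) := by
  refine ⟨hn, cG (tI S), gam, ?_, ?_, ?_⟩
  · rw [cG_apply]
    exact isInnerDiagonal_liftAut _
  · rw [gam_def]
    exact isInverseTranspose_liftAut
  · unfold gB
    rw [cG_mul_gam, tI_tI]

theorem gB_ne_one [Finite F] (p : ℕ) [Fact p.Prime] [CharP F p] (hn : 3 ≤ n) (S : GLn) :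
    gB S ≠ 1 := by
  intro h
  have h1 := congrArg (epsHom (F := F) p hn) h
  unfold gB at h1
  rw [map_mul, epsHom_gam, epsHom_cG, mul_one, (epsHom (F := F) p hn).map_one] at h1
  exact absurd h1 (by decide)

theorem orderOf_gB_eq_two_iff [Finite F] (p : ℕ) [Fact p.Prime] [CharP F p] (hn : 3 ≤ n)
    (S : GLn) : orderOf (gB S) = 2 ↔ gB S * gB S = 1 := by
  constructor
  · intro h
    rw [← pow_two, ← h, pow_orderOf_eq_one]
  · intro h
    have : Fact (Nat.Prime 2) := ⟨Nat.prime_two⟩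
    exact orderOf_eq_prime (by rw [pow_two, h]) (gB_ne_one p hn S)

theorem mem_similarityGroup_bf_iff (hn : 0 < n) (S : GLn) (g : GLn) :
    g ∈ Geo.similarityGroup (F := F) (bf (S : Mn)) ↔
      ∃ c : F, (g : Mn)ᵀ * (S : Mn) * (g : Mn) = c • (S : Mn) := by
  constructor
  · rintro ⟨c, hc⟩
    refine ⟨c, ?_⟩
    ext i j
    have h := hc (Pi.single i 1) (Pi.single j 1)
    rw [bf_mulVec, bf_single, bf_single] at h
    rw [h, Matrix.smul_apply, smul_eq_mul]
  · rintro ⟨c, hc⟩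
    have hc0 : c ≠ 0 := by
      rintro rfl
      rw [zero_smul] at hc
      have h1 := congrArg Matrix.det hc
      rw [Matrix.det_mul, Matrix.det_mul, Matrix.det_transpose] at h1
      have hg : (g : Mn).det ≠ 0 := Matrix.GeneralLinearGroup.det_ne_zero g
      have hS : (S : Mn).det ≠ 0 := Matrix.GeneralLinearGroup.det_ne_zero S
      have : Nonempty (Fin n) := ⟨⟨0, hn⟩⟩
      rw [Matrix.det_zero] at h1
      exact mul_ne_zero (mul_ne_zero hg hS) hg h1
    refine ⟨Units.mk0 c hc0, fun u v => ?_⟩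
    rw [bf_mulVec, hc, bf_smul]
    rfl

theorem cG_mem_cent_gB_iff (hn : 2 ≤ n) (g S : GLn) :
    cG g ∈ Subgroup.centralizer {gB S} ↔
      ∃ c : F, (g : Mn)ᵀ * (S : Mn) * (g : Mn) = c • (S : Mn) := by
  rw [Subgroup.mem_centralizer_singleton_iff]
  unfold gB
  have h1 : cG g * ((gam : MulAut PSLn) * cG S) = gam * cG (tI g * S) := by
    rw [← mul_assoc, cG_mul_gam, mul_assoc, map_mul]
  have h2 : (gam : MulAut PSLn) * cG S * cG g = gam * cG (S * g) := by
    rw [mul_assoc, map_mul]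
  rw [h1, h2, mul_right_inj, cG_eq_cG_iff hn, Units.val_mul, Units.val_mul, tI_coe]
  have hT : (g : Mn)ᵀ * ((g⁻¹ : GLn) : Mn)ᵀ = 1 := by
    rw [← Matrix.transpose_mul, inv_coe_mul, Matrix.transpose_one]
  have hT' : ((g⁻¹ : GLn) : Mn)ᵀ * (g : Mn)ᵀ = 1 := by
    rw [← Matrix.transpose_mul, mul_inv_coe, Matrix.transpose_one]
  constructor
  · rintro ⟨c, hc⟩
    have hc0 : c ≠ 0 := by
      rintro rfl
      rw [zero_smul] at hc
      have h3 := congrArg Matrix.det hc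
      rw [Matrix.det_mul, Matrix.det_transpose] at h3
      have hg : ((g⁻¹ : GLn) : Mn).det ≠ 0 := Matrix.GeneralLinearGroup.det_ne_zero _
      have hS : (S : Mn).det ≠ 0 := Matrix.GeneralLinearGroup.det_ne_zero S
      have : Nonempty (Fin n) := ⟨⟨0, by omega⟩⟩
      rw [Matrix.det_zero] at h3
      exact mul_ne_zero hg hS h3
    refine ⟨c⁻¹, ?_⟩
    calc (g : Mn)ᵀ * (S : Mn) * (g : Mn) = (g : Mn)ᵀ * ((S : Mn) * (g : Mn)) := by
          rw [Matrix.mul_assoc]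
      _ = c⁻¹ • ((g : Mn)ᵀ * (c • ((S : Mn) * (g : Mn)))) := by
          rw [Matrix.mul_smul, smul_smul, inv_mul_cancel₀ hc0, one_smul]
      _ = c⁻¹ • ((g : Mn)ᵀ * (((g⁻¹ : GLn) : Mn)ᵀ * (S : Mn))) := by rw [hc]
      _ = c⁻¹ • (S : Mn) := by rw [← Matrix.mul_assoc, hT, Matrix.one_mul]
  · rintro ⟨c, hc⟩
    have hc0 : c ≠ 0 := by
      rintro rfl
      rw [zero_smul] at hc
      have h3 := congrArg Matrix.det hc
      rw [Matrix.det_mul, Matrix.det_mul, Matrix.det_transpose] at h3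
      have hg : (g : Mn).det ≠ 0 := Matrix.GeneralLinearGroup.det_ne_zero _
      have hS : (S : Mn).det ≠ 0 := Matrix.GeneralLinearGroup.det_ne_zero S
      have : Nonempty (Fin n) := ⟨⟨0, by omega⟩⟩
      rw [Matrix.det_zero] at h3
      exact mul_ne_zero (mul_ne_zero hg hS) hg h3
    refine ⟨c⁻¹, ?_⟩
    calc ((g⁻¹ : GLn) : Mn)ᵀ * (S : Mn)
        = c⁻¹ • (((g⁻¹ : GLn) : Mn)ᵀ * (c • (S : Mn))) := by
          rw [Matrix.mul_smul, smul_smul, inv_mul_cancel₀ hc0, one_smul]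
      _ = c⁻¹ • (((g⁻¹ : GLn) : Mn)ᵀ * ((g : Mn)ᵀ * (S : Mn) * (g : Mn))) := by rw [hc]
      _ = c⁻¹ • ((S : Mn) * (g : Mn)) := by
          rw [Matrix.mul_assoc (g : Mn)ᵀ, ← Matrix.mul_assoc, hT', Matrix.one_mul]

/-- **the centralizer of `γ_S` in `Inndiag(PSL_n)`**: the similarities of the bilinear form `S`
modulo scalars -/
theorem cent_gB_equiv (hn : 2 ≤ n) (S : GLn) :
    Nonempty (↥(Cfsg.inndiagPSL n F ⊓ Subgroup.centralizer {gB S}) ≃*
      projQuot (Geo.similarityGroup (F := F) (bf (S : Mn)))) := by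
  have hn0 : 0 < n := by omega
  obtain ⟨f, hf⟩ : ∃ f : ↥(Geo.similarityGroup (F := F) (bf (S : Mn))) →*
      ↥(Cfsg.inndiagPSL n F ⊓ Subgroup.centralizer {gB S}),
      ∀ g, ((f g : ↥(Cfsg.inndiagPSL n F ⊓ Subgroup.centralizer {gB S})) :
        MulAut PSLn) = cG (g : GLn) :=
    ⟨((cG (F := F) (n := n)).comp (Subgroup.subtype _)).codRestrict _
      (fun g => ⟨by rw [inndiagPSL_eq]; exact ⟨_, rfl⟩,
        (cG_mem_cent_gB_iff hn _ S).2 ((mem_similarityGroup_bf_iff hn0 S _).1 g.2)⟩),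
      fun _ => rfl⟩
  have hsurj : Function.Surjective f := by
    rintro ⟨x, hx1, hx2⟩
    rw [inndiagPSL_eq] at hx1
    obtain ⟨g, rfl⟩ := hx1
    refine ⟨⟨g, (mem_similarityGroup_bf_iff hn0 S g).2 ((cG_mem_cent_gB_iff hn g S).1 hx2)⟩, ?_⟩
    apply Subtype.ext
    rw [hf]
  have hker : f.ker = (Geo.scalars (Fin n) F).subgroupOf
      (Geo.similarityGroup (F := F) (bf (S : Mn))) := by
    ext g
    rw [MonoidHom.mem_ker, Subgroup.mem_subgroupOf, Geo.mem_scalars_iff]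
    have h1 : f g = 1 ↔ (g : GLn) ∈ (cG (F := F) (n := n)).ker := by
      rw [MonoidHom.mem_ker, ← hf]
      constructor
      · intro e
        rw [e]
        rfl
      · intro e
        exact Subtype.ext e
    rw [h1, cG_ker hn, mem_center_iff_scalar]
    constructor
    · rintro ⟨c, hc⟩
      have hc0 : c ≠ 0 := by
        rintro rfl
        rw [zero_smul] at hc
        have : Nonempty (Fin n) := ⟨⟨0, by omega⟩⟩
        have hdet : ((g : GLn) : Mn).det ≠ 0 := Matrix.GeneralLinearGroup.det_ne_zero _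
        rw [hc, Matrix.det_zero] at hdet
        exact hdet rfl
      exact ⟨Units.mk0 c hc0, hc⟩
    · rintro ⟨c, hc⟩
      exact ⟨c, hc⟩
  exact ⟨(QuotientGroup.quotientKerEquivOfSurjective f hsurj).symm.trans
    (QuotientGroup.quotientMulEquivOfEq hker)⟩

/-- a linear map intertwining the bilinear forms up to a nonzero scalar gives a conjugacy -/
theorem isConjUnder_gB_of_linearMap (hn : 2 ≤ n) (S S' : GLn)
    (ℓ : (Fin n → F) →ₗ[F] (Fin n → F)) (c : F) (hc0 : c ≠ 0)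
    (h : ∀ u v, bf (S' : Mn) (ℓ u) (ℓ v) = c * bf (S : Mn) u v) :
    IsConjUnder (Cfsg.inndiagPSL n F) (gB S) (gB S') := by
  have hT : ∀ v, (LinearMap.toMatrix' ℓ) *ᵥ v = ℓ v := fun v => LinearMap.toMatrix'_mulVec ℓ v
  have hinj : Function.Injective (LinearMap.toMatrix' ℓ).mulVec := by
    intro x y hxy
    have hxy' : ℓ x = ℓ y := by rw [← hT, ← hT]; exact hxy
    have h0 : ℓ (x - y) = 0 := by rw [map_sub, hxy', sub_self]
    have h1 : ∀ v, bf (S : Mn) (x - y) v = 0 := by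
      intro v
      have h3 := h (x - y) v
      rw [h0] at h3
      have h4 : bf (S' : Mn) 0 (ℓ v) = 0 := by
        unfold bf
        rw [zero_dotProduct]
      rw [h4] at h3
      exact (mul_eq_zero.mp h3.symm).resolve_left hc0
    have h5 : (S : Mn)ᵀ *ᵥ (x - y) = 0 := by
      apply dotProduct_eq
      intro v
      have h6 := h1 v
      rw [← bf_transpose] at h6
      unfold bf at h6
      rw [dotProduct_comm, h6, zero_dotProduct]
    have h7 : x - y = 0 := by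
      have h8 : ((S⁻¹ : GLn) : Mn)ᵀ *ᵥ ((S : Mn)ᵀ *ᵥ (x - y)) = x - y := by
        rw [mulVec_mulVec, ← Matrix.transpose_mul, mul_inv_coe, Matrix.transpose_one, one_mulVec]
      rw [← h8, h5, mulVec_zero]
    exact sub_eq_zero.mp h7
  have hunit : IsUnit (LinearMap.toMatrix' ℓ) := Matrix.mulVec_injective_iff_isUnit.mp hinj
  rw [isConjUnder_gB_iff hn]
  refine ⟨hunit.unit, c, ?_⟩
  rw [IsUnit.unit_spec]
  apply bf_ext
  intro u v
  rw [← bf_mulVec, hT, hT, h, bf_smul]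

/-- for symmetric matrices in odd characteristic it is enough to compare the quadratic forms -/
theorem isConjUnder_gB_of_linearMap_diag (hn : 2 ≤ n) (h2 : (2 : F) ≠ 0) (S S' : GLn)
    (hS : (S : Mn)ᵀ = (S : Mn)) (hS' : (S' : Mn)ᵀ = (S' : Mn))
    (ℓ : (Fin n → F) →ₗ[F] (Fin n → F)) (c : F) (hc0 : c ≠ 0)
    (h : ∀ v, bf (S' : Mn) (ℓ v) (ℓ v) = c * bf (S : Mn) v v) :
    IsConjUnder (Cfsg.inndiagPSL n F) (gB S) (gB S') := by
  apply isConjUnder_gB_of_linearMap hn S S' ℓ c hc0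
  intro u v
  have h1 := h (u + v)
  rw [map_add, bf_polarize _ hS', bf_polarize _ hS, h u, h v] at h1
  have h3 : 2 * bf (S' : Mn) (ℓ u) (ℓ v) = 2 * (c * bf (S : Mn) u v) := by linear_combination h1
  exact mul_left_cancel₀ h2 h3

end graphaut

end Cfsg.Agent.Lib.Helper5.PslGraph
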