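import Mathlib
import Cfsg.Prelude.Def_LieTypeDatum
import Cfsg.Agent.S2620
import Cfsg.Agent.S2621
import Cfsg.Agent.Lib.Helper5.PslGraph.GraphAut

set_option autoImplicit false

/-! Standard representatives of the graph automorphisms of `PSL_n` and their centralizers. -/

namespace Cfsg.Agent.Lib.Helper5.PslGraph

open Cfsg Matrix Cfsg.Agent.Lib.Helper9.APSL

section reps
variable {F : Type*} [Field F] {n : ℕ} {ι : Type} [Fintype ι] [DecidableEq ι]

/-- the invertible matrix over `Fin n` obtained by reindexing -/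
noncomputable def repGL (e : ι ≃ Fin n) (G : Matrix ι ι F) (hG : G.det ≠ 0) : GL (Fin n) F :=
  Matrix.GeneralLinearGroup.mkOfDetNeZero (Matrix.reindex e e G)
    (by rw [Matrix.det_reindex_self]; exact hG)

theorem repGL_coe (e : ι ≃ Fin n) (G : Matrix ι ι F) (hG : G.det ≠ 0) :
    ((repGL e G hG : GL (Fin n) F) : Matrix (Fin n) (Fin n) F) = Matrix.reindex e e G := rfl

theorem projQuot_congr_eq {H₁ H₂ : Subgroup (GL ι F)} (h : H₁ = H₂) :
    Nonempty (projQuot H₁ ≃* projQuot H₂) := by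
  subst h
  exact ⟨MulEquiv.refl _⟩

/-- the centralizer of the representative attached to a matrix `G` on another index type -/
theorem cent_rep_equiv (hn : 2 ≤ n) (e : ι ≃ Fin n) (G : Matrix ι ι F) (hG : G.det ≠ 0) :
    Nonempty (↥(Cfsg.inndiagPSL n F ⊓ Subgroup.centralizer {gB (repGL e G hG)}) ≃*
      projQuot (Geo.similarityGroup (F := F) (bf G))) := by
  obtain ⟨e1⟩ := cent_gB_equiv hn (repGL e G hG)
  rw [repGL_coe] at e1
  obtain ⟨e2⟩ := projQuot_sim_reindex e G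
  exact ⟨e1.trans e2⟩

end reps

section std
variable {F : Type*} [Field F] {n : ℕ}

/-- symplectic representative -/
theorem cent_rep_symp (hn : 2 ≤ n) (m : ℕ) (e : Fin m ⊕ Fin m ≃ Fin n)
    (hJ : (Matrix.J (Fin m) F).det ≠ 0) :
    Nonempty (↥(Cfsg.inndiagPSL n F ⊓
      Subgroup.centralizer {gB (repGL e (Matrix.J (Fin m) F) hJ)}) ≃* Cfsg.PGSp m F) := by
  obtain ⟨e1⟩ := cent_rep_equiv hn e (Matrix.J (Fin m) F) hJ
  have h : Geo.similarityGroup (F := F) (bf (Matrix.J (Fin m) F)) = Cfsg.GSp m F := rfl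
  obtain ⟨e2⟩ := projQuot_congr_eq h
  exact ⟨e1.trans e2⟩

/-- Gram matrix of the hyperbolic form -/
def gramPlus (m : ℕ) (F : Type*) [Field F] : Matrix (Fin m ⊕ Fin m) (Fin m ⊕ Fin m) F :=
  Matrix.fromBlocks 0 1 1 0

theorem bf_gramPlus (m : ℕ) (u v : Fin m ⊕ Fin m → F) :
    bf (gramPlus m F) u v = QuadraticMap.polar (Cfsg.quadFormPlus m F) u v := by
  rw [Cfsg.Agent.S2620.polar_eq, Matrix.toBilin'_apply']
  rfl

theorem det_gramPlus (m : ℕ) : (gramPlus m F).det = (-1) ^ m :=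
  Cfsg.Agent.Lib.Helper5.det_hyp m

theorem det_gramPlus_ne_zero (m : ℕ) : (gramPlus m F).det ≠ 0 := by
  rw [det_gramPlus]
  exact pow_ne_zero _ (neg_ne_zero.mpr one_ne_zero)

theorem polar_self_plus (m : ℕ) (v : Fin m ⊕ Fin m → F) :
    QuadraticMap.polar (Cfsg.quadFormPlus m F) v v = 2 * Cfsg.quadFormPlus m F v := by
  unfold QuadraticMap.polar Cfsg.quadFormPlus
  simp only [Pi.add_apply]
  rw [Finset.mul_sum, ← Finset.sum_sub_distrib, ← Finset.sum_sub_distrib]
  apply Finset.sum_congr rfl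
  intro i _
  ring

/-- plus-type representative -/
theorem cent_rep_plus (hn : 2 ≤ n) (h2 : (2 : F) ≠ 0) (m : ℕ) (e : Fin m ⊕ Fin m ≃ Fin n) :
    Nonempty (↥(Cfsg.inndiagPSL n F ⊓
      Subgroup.centralizer {gB (repGL e (gramPlus m F) (det_gramPlus_ne_zero m))}) ≃*
        Cfsg.PGO F (Cfsg.quadFormPlus m F)) := by
  obtain ⟨e1⟩ := cent_rep_equiv hn e (gramPlus m F) (det_gramPlus_ne_zero m)
  have h : Geo.similarityGroup (F := F) (bf (gramPlus m F)) =
      Geo.quadSimilarityGroup (F := F) (Cfsg.quadFormPlus m F) := by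
    apply similarityGroup_eq_quadSimilarityGroup h2
    · intro u v
      rw [bf_gramPlus]
      rfl
    · intro v
      rw [bf_gramPlus, polar_self_plus]
  obtain ⟨e2⟩ := projQuot_congr_eq h
  exact ⟨e1.trans e2⟩

theorem bf_gramMinus (k : ℕ) (a c : F) (u v : (Fin k ⊕ Fin k) ⊕ Fin 2 → F) :
    bf (Cfsg.Agent.S2621.gramMinus k a c) u v =
      QuadraticMap.polar (Cfsg.quadFormMinus k F a c) u v := by
  rw [Cfsg.Agent.S2621.polar_eq, Matrix.toBilin'_apply']
  rfl

theorem polar_self_minus (k : ℕ) (a c : F) (v : (Fin k ⊕ Fin k) ⊕ Fin 2 → F) :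
    QuadraticMap.polar (Cfsg.quadFormMinus k F a c) v v = 2 * Cfsg.quadFormMinus k F a c v := by
  unfold QuadraticMap.polar Cfsg.quadFormMinus
  simp only [Pi.add_apply]
  have h1 : ∑ i : Fin k, (v (Sum.inl (Sum.inl i)) + v (Sum.inl (Sum.inl i))) *
      (v (Sum.inl (Sum.inr i)) + v (Sum.inl (Sum.inr i))) =
      4 * ∑ i : Fin k, v (Sum.inl (Sum.inl i)) * v (Sum.inl (Sum.inr i)) := by
    rw [Finset.mul_sum]
    apply Finset.sum_congr rfl
    intro i _
    ring
  rw [h1]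
  ring

/-- minus-type representative -/
theorem cent_rep_minus (hn : 2 ≤ n) (h2 : (2 : F) ≠ 0) (k : ℕ) (a c : F)
    (e : (Fin k ⊕ Fin k) ⊕ Fin 2 ≃ Fin n) (hdet : (Cfsg.Agent.S2621.gramMinus k a c).det ≠ 0) :
    Nonempty (↥(Cfsg.inndiagPSL n F ⊓
      Subgroup.centralizer {gB (repGL e (Cfsg.Agent.S2621.gramMinus k a c) hdet)}) ≃*
        Cfsg.PGO F (Cfsg.quadFormMinus k F a c)) := by
  obtain ⟨e1⟩ := cent_rep_equiv hn e (Cfsg.Agent.S2621.gramMinus k a c) hdet
  have h : Geo.similarityGroup (F := F) (bf (Cfsg.Agent.S2621.gramMinus k a c)) =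
      Geo.quadSimilarityGroup (F := F) (Cfsg.quadFormMinus k F a c) := by
    apply similarityGroup_eq_quadSimilarityGroup h2
    · intro u v
      rw [bf_gramMinus]
      rfl
    · intro v
      rw [bf_gramMinus, polar_self_minus]
  obtain ⟨e2⟩ := projQuot_congr_eq h
  exact ⟨e1.trans e2⟩

end std

end Cfsg.Agent.Lib.Helper5.PslGraph
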