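import Mathlib
import Cfsg.Prelude.Def_LieTypeDatum
import Cfsg.Agent.S2616
import Cfsg.Agent.Lib.Helper5.QuadStd
import Cfsg.Agent.Lib.Helper5.Discriminant
import Cfsg.Agent.Lib.Helper5.AltForm
import Cfsg.Agent.Lib.Helper5.PslGraph.GraphReps

set_option autoImplicit false

/-! Classification of the involutory graph automorphisms of `PSL_n`, `n` even, `q` odd. -/

namespace Cfsg.Agent.Lib.Helper5.PslGraph

open Cfsg Matrix Cfsg.Agent.Lib.Helper9.APSL

section adjust
variable {F : Type*} [Field F]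

/-- change of the anisotropic parameter: `(z₁, z₂) ↦ (z₁ + α z₂, s z₂)` -/
def adjMap (k : ℕ) (α s : F) :
    ((Fin k ⊕ Fin k) ⊕ Fin 2 → F) →ₗ[F] ((Fin k ⊕ Fin k) ⊕ Fin 2 → F) where
  toFun x := Sum.elim (fun i => x (Sum.inl i))
    (fun j => if j = 0 then x (Sum.inr 0) + α * x (Sum.inr 1) else s * x (Sum.inr 1))
  map_add' x y := by
    funext j
    rcases j with i | j
    · simp
    · by_cases hj : j = 0
      · simp only [Sum.elim_inr, if_pos hj, Pi.add_apply]
        ring
      · simp only [Sum.elim_inr, if_neg hj, Pi.add_apply]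
        ring
  map_smul' c x := by
    funext j
    rcases j with i | j
    · simp
    · by_cases hj : j = 0
      · simp only [Sum.elim_inr, if_pos hj, Pi.smul_apply, smul_eq_mul, RingHom.id_apply]
        ring
      · simp only [Sum.elim_inr, if_neg hj, Pi.smul_apply, smul_eq_mul, RingHom.id_apply]
        ring

theorem quadFormMinus_adjMap (k : ℕ) (α s ζ ζ₀ : F) (h1 : 2 * α + s = 1)
    (h2 : α ^ 2 + α * s + ζ₀ * s ^ 2 = ζ) (x : (Fin k ⊕ Fin k) ⊕ Fin 2 → F) :
    Cfsg.quadFormMinus k F 1 ζ₀ (adjMap k α s x) = Cfsg.quadFormMinus k F 1 ζ x := by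
  unfold Cfsg.quadFormMinus adjMap
  simp only [LinearMap.coe_mk, AddHom.coe_mk, Sum.elim_inl, Sum.elim_inr, if_true,
    one_ne_zero, if_false]
  have h3 : s = 1 - 2 * α := by linear_combination h1
  rw [← h2]
  subst h3
  ring

/-- two irreducible parameters differ by an admissible substitution -/
theorem exists_adjust [Fintype F] (hq : Odd (Fintype.card F)) (ζ ζ₀ : F)
    (hζ : ∀ t : F, t ^ 2 + t + ζ ≠ 0) (hζ₀ : ∀ t : F, t ^ 2 + t + ζ₀ ≠ 0) :
    ∃ α s : F, 2 * α + s = 1 ∧ α ^ 2 + α * s + ζ₀ * s ^ 2 = ζ := by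
  have h2 : (2 : F) ≠ 0 := Cfsg.Agent.Lib.Helper5.two_ne_zero_of_odd_card hq
  have h4 : (4 : F) ≠ 0 := by
    have : (4 : F) = 2 * 2 := by norm_num
    rw [this]
    exact mul_ne_zero h2 h2
  -- `1 - 4ζ` is not a square
  have hns : ∀ z : F, (∀ t : F, t ^ 2 + t + z ≠ 0) → ¬ IsSquare (1 - 4 * z) := by
    intro z hz
    rintro ⟨r, hr⟩
    apply hz ((-1 + r) / 2)
    field_simp
    linear_combination (-1 : F) * hr
  have hn0 : 1 - 4 * ζ₀ ≠ 0 := by
    intro h
    exact hns ζ₀ hζ₀ ⟨0, by rw [h]; ring⟩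
  have hx0 : (1 - 4 * ζ) / (1 - 4 * ζ₀) ≠ 0 := by
    apply div_ne_zero _ hn0
    intro h
    exact hns ζ hζ ⟨0, by rw [h]; ring⟩
  have hsq : IsSquare ((1 - 4 * ζ) / (1 - 4 * ζ₀)) := by
    by_contra hcon
    have := (Cfsg.Agent.Lib.Helper5.isSquare_mul_nonsquare_iff hq _ _ hx0 (hns ζ₀ hζ₀)).mpr hcon
    rw [div_mul_cancel₀ _ hn0] at this
    exact hns ζ hζ this
  obtain ⟨s, hs⟩ := hsq
  refine ⟨(1 - s) / 2, s, ?_, ?_⟩
  · have h6 : 2 * ((1 - s) / 2) = 1 - s := by field_simp
    rw [h6]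
    ring
  · have hs' : 1 - 4 * ζ = s * s * (1 - 4 * ζ₀) := by
      rw [← hs, div_mul_cancel₀ _ hn0]
    have h5 : 4 * (((1 - s) / 2) ^ 2 + (1 - s) / 2 * s + ζ₀ * s ^ 2) = 4 * ζ := by
      field_simp
      linear_combination hs'
    exact mul_left_cancel₀ h4 h5

end adjust

section symclass
variable {F : Type*} [Field F] {n : ℕ}

local notation "Mn" => Matrix (Fin n) (Fin n) F
local notation "GLn" => GL (Fin n) F

theorem gramPlus_transpose (m : ℕ) : (gramPlus m F)ᵀ = gramPlus m F := by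
  unfold gramPlus
  rw [Matrix.fromBlocks_transpose]
  simp

theorem gramMinus_transpose (k : ℕ) (a c : F) :
    (Cfsg.Agent.S2621.gramMinus k a c)ᵀ = Cfsg.Agent.S2621.gramMinus k a c := by
  unfold Cfsg.Agent.S2621.gramMinus
  rw [Matrix.fromBlocks_transpose, Matrix.fromBlocks_transpose]
  simp only [Matrix.transpose_zero, Matrix.transpose_one]
  congr 1
  ext i j
  fin_cases i <;> fin_cases j <;> rfl

theorem repGL_transpose {ι : Type} [Fintype ι] [DecidableEq ι] (e : ι ≃ Fin n)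
    (G : Matrix ι ι F) (hG : G.det ≠ 0) (hGt : Gᵀ = G) :
    ((repGL e G hG : GLn) : Mn)ᵀ = ((repGL e G hG : GLn) : Mn) := by
  rw [repGL_coe]
  ext i j
  simp only [Matrix.transpose_apply, Matrix.reindex_apply, Matrix.submatrix_apply]
  exact congrFun (congrFun hGt _) _

/-- the quadratic form of a symmetric matrix, and its nondegeneracy -/
theorem exists_quadForm_of_symm (h2 : (2 : F) ≠ 0) (S : GLn) (hS : (S : Mn)ᵀ = (S : Mn)) :
    ∃ Q : QuadraticForm F (Fin n → F), (∀ v, Q v = bf (S : Mn) v v) ∧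
      (QuadraticMap.polarBilin Q).Nondegenerate := by
  let B : LinearMap.BilinForm F (Fin n → F) := Matrix.toBilin' (S : Mn)
  have hB : ∀ u v, B u v = bf (S : Mn) u v := fun u v => Matrix.toBilin'_apply' _ u v
  refine ⟨LinearMap.BilinMap.toQuadraticMap B, fun v => ?_, ?_⟩
  · rw [LinearMap.BilinMap.toQuadraticMap_apply, hB]
  · have hpol : ∀ x y, QuadraticMap.polar (LinearMap.BilinMap.toQuadraticMap B) x y
        = 2 * bf (S : Mn) x y := by
      intro x y
      rw [LinearMap.BilinMap.polar_toQuadraticMap, hB, hB, bf_symm _ hS y x]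
      ring
    have hdet : (S : Mn).det ≠ 0 := Matrix.GeneralLinearGroup.det_ne_zero S
    have hnd : ∀ x, (∀ y, bf (S : Mn) x y = 0) → x = 0 := by
      intro x hx
      have h5 : (S : Mn)ᵀ *ᵥ x = 0 := by
        apply dotProduct_eq
        intro v
        have h6 := hx v
        rw [← bf_transpose] at h6
        unfold bf at h6
        rw [dotProduct_comm, h6, zero_dotProduct]
      have h8 : ((S⁻¹ : GLn) : Mn)ᵀ *ᵥ ((S : Mn)ᵀ *ᵥ x) = x := by
        rw [mulVec_mulVec, ← Matrix.transpose_mul, mul_inv_coe, Matrix.transpose_one, one_mulVec]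
      rw [← h8, h5, mulVec_zero]
    constructor
    · intro x hx
      apply hnd x
      intro y
      have := hx y
      rw [QuadraticMap.polarBilin_apply_apply, hpol] at this
      exact (mul_eq_zero.mp this).resolve_left h2
    · intro x hx
      apply hnd x
      intro y
      have := hx y
      rw [QuadraticMap.polarBilin_apply_apply, hpol, bf_symm _ hS] at this
      exact (mul_eq_zero.mp this).resolve_left h2

/-- **classification of the symmetric type**: every symmetric invertible matrix gives a graph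
automorphism conjugate to the plus-type or to the minus-type representative -/
theorem sym_class [Fintype F] (hq : Odd (Fintype.card F)) {m : ℕ} (hm : 1 ≤ m) (hnm : n = 2 * m)
    (ep : Fin m ⊕ Fin m ≃ Fin n) (em : (Fin (m - 1) ⊕ Fin (m - 1)) ⊕ Fin 2 ≃ Fin n)
    (ζ₀ : F) (hζ₀ : ∀ t : F, t ^ 2 + t + ζ₀ ≠ 0)
    (hdet : (Cfsg.Agent.S2621.gramMinus (m - 1) 1 ζ₀).det ≠ 0)
    (S : GLn) (hS : (S : Mn)ᵀ = (S : Mn)) :
    IsConjUnder (Cfsg.inndiagPSL n F) (gB S)
        (gB (repGL ep (gramPlus m F) (det_gramPlus_ne_zero m))) ∨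
      IsConjUnder (Cfsg.inndiagPSL n F) (gB S)
        (gB (repGL em (Cfsg.Agent.S2621.gramMinus (m - 1) 1 ζ₀) hdet)) := by
  have h2 : (2 : F) ≠ 0 := Cfsg.Agent.Lib.Helper5.two_ne_zero_of_odd_card hq
  have hn : 2 ≤ n := by omega
  obtain ⟨Q, hQv, hQnd⟩ := exists_quadForm_of_symm h2 S hS
  have hV : Module.finrank F (Fin n → F) = 2 * m := by
    rw [Module.finrank_fin_fun, hnm]
  rcases Cfsg.Agent.S2616.result hm hV Q hQnd with
    ⟨b, h1, h2', h3⟩ | ⟨b, ζ, hirr, h1, h2', h3, h4, hx, hxy, hy⟩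
  · left
    have hQb := Cfsg.Agent.Lib.Helper5.eq_quadFormPlus_of_basis Q b h1 h2' h3
    apply isConjUnder_gB_of_linearMap_diag hn h2 S _ hS
      (repGL_transpose ep _ _ (gramPlus_transpose m))
      ((LinearMap.funLeft F F ep.symm) ∘ₗ b.equivFun.toLinearMap) 2 h2
    intro v
    rw [repGL_coe, bf_reindex]
    have h5 : (((LinearMap.funLeft F F ep.symm) ∘ₗ b.equivFun.toLinearMap) v) ∘ ep
        = b.equivFun v := by
      funext i
      simp [LinearMap.funLeft_apply]
    rw [h5, bf_gramPlus, polar_self_plus, ← hQb, hQv]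
  · right
    have hQb := Cfsg.Agent.Lib.Helper5.eq_quadFormMinus_of_basis Q b ζ h1 h2' h3 h4 hx hxy hy
    obtain ⟨α, s, ha1, ha2⟩ := exists_adjust hq ζ ζ₀ hirr hζ₀
    apply isConjUnder_gB_of_linearMap_diag hn h2 S _ hS
      (repGL_transpose em _ _ (gramMinus_transpose _ _ _))
      ((LinearMap.funLeft F F em.symm) ∘ₗ (adjMap (m - 1) α s) ∘ₗ b.equivFun.toLinearMap) 2 h2
    intro v
    rw [repGL_coe, bf_reindex]
    have h5 : (((LinearMap.funLeft F F em.symm) ∘ₗ (adjMap (m - 1) α s) ∘ₗ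
        b.equivFun.toLinearMap) v) ∘ em = adjMap (m - 1) α s (b.equivFun v) := by
      funext i
      simp [LinearMap.funLeft_apply]
    rw [h5, bf_gramMinus, polar_self_minus, quadFormMinus_adjMap (m - 1) α s ζ ζ₀ ha1 ha2,
      ← hQb, hQv]

end symclass

section skewclass
variable {F : Type*} [Field F] {n : ℕ}

local notation "Mn" => Matrix (Fin n) (Fin n) F
local notation "GLn" => GL (Fin n) F

theorem bf_left_nondeg (S : GLn) (x : Fin n → F) (hx : ∀ y, bf (S : Mn) x y = 0) : x = 0 := by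
  have h5 : (S : Mn)ᵀ *ᵥ x = 0 := by
    apply dotProduct_eq
    intro v
    have h6 := hx v
    rw [← bf_transpose] at h6
    unfold bf at h6
    rw [dotProduct_comm, h6, zero_dotProduct]
  have h8 : ((S⁻¹ : GLn) : Mn)ᵀ *ᵥ ((S : Mn)ᵀ *ᵥ x) = x := by
    rw [mulVec_mulVec, ← Matrix.transpose_mul, mul_inv_coe, Matrix.transpose_one, one_mulVec]
  rw [← h8, h5, mulVec_zero]

/-- **classification of the skew type**: every skew invertible matrix gives a graph automorphism
conjugate to the symplectic representative -/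
theorem skew_class (h2 : (2 : F) ≠ 0) {m : ℕ} (hnm : n = 2 * m) (hn : 2 ≤ n)
    (ep : Fin m ⊕ Fin m ≃ Fin n) (hJ : (Matrix.J (Fin m) F).det ≠ 0)
    (S : GLn) (hS : (S : Mn)ᵀ = -(S : Mn)) :
    IsConjUnder (Cfsg.inndiagPSL n F) (gB S) (gB (repGL ep (Matrix.J (Fin m) F) hJ)) := by
  let B : LinearMap.BilinForm F (Fin n → F) := Matrix.toBilin' (S : Mn)
  have hB : ∀ u v, B u v = bf (S : Mn) u v := fun u v => Matrix.toBilin'_apply' _ u v
  have hA : B.IsAlt := by
    intro v
    rw [hB]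
    have h1 : bf (S : Mn) v v = - bf (S : Mn) v v := by
      conv_lhs => rw [← bf_transpose, hS]
      unfold bf
      rw [neg_mulVec, dotProduct_neg]
    have h3 : 2 * bf (S : Mn) v v = 0 := by linear_combination h1
    exact (mul_eq_zero.mp h3).resolve_left h2
  obtain ⟨m', k, b, g1, g2, g3, g4, hdim, hk⟩ :=
    Cfsg.Agent.Lib.Helper5.AltForm.exists_darboux_basis B hA
  have hker : LinearMap.ker B = ⊥ := by
    rw [LinearMap.ker_eq_bot']
    intro x hx
    apply bf_left_nondeg S x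
    intro y
    rw [← hB, hx]
    rfl
  have hk0 : k = 0 := by
    rw [hk, hker, finrank_bot]
  subst hk0
  have hm' : m' = m := by
    rw [Module.finrank_fin_fun] at hdim
    omega
  subst hm'
  -- the coordinate map
  let ℓ' : (Fin n → F) →ₗ[F] (Fin m' ⊕ Fin m' → F) :=
    (LinearMap.funLeft F F Sum.inl) ∘ₗ b.equivFun.toLinearMap
  have hℓ' : ∀ a : Fin m' ⊕ Fin m', ℓ' (b (Sum.inl a)) = Pi.single a 1 := by
    intro a
    funext j
    simp only [ℓ', LinearMap.comp_apply, LinearMap.funLeft_apply, LinearEquiv.coe_coe,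
      Cfsg.Agent.Lib.Helper5.equivFun_basis, Pi.single_apply, Sum.inl.injEq]
  have key : (Matrix.toBilin' (Matrix.J (Fin m') F)).compl₁₂ ℓ' ℓ' = -B := by
    apply LinearMap.BilinForm.ext_basis b
    intro a a'
    rw [LinearMap.compl₁₂_apply, LinearMap.neg_apply, LinearMap.neg_apply]
    rcases a with a | z
    swap
    · exact z.elim0
    rcases a' with a' | z
    swap
    · exact z.elim0
    rw [hℓ', hℓ', Matrix.toBilin'_single]
    rcases a with i | i <;> rcases a' with j | j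
    · rw [g2]
      simp [Matrix.J]
    · rw [g1]
      by_cases hij : i = j
      · simp [Matrix.J, hij]
      · simp [Matrix.J, hij]
    · rw [← hA.neg_eq, g1, neg_neg]
      by_cases hij : i = j
      · simp [Matrix.J, hij]
      · have hji : ¬ j = i := fun h => hij h.symm
        simp [Matrix.J, hij, hji]
    · rw [g3]
      simp [Matrix.J]
  apply isConjUnder_gB_of_linearMap hn S _
    ((LinearMap.funLeft F F (fun j => Sum.inl (ep.symm j))) ∘ₗ b.equivFun.toLinearMap) (-1)
    (neg_ne_zero.mpr one_ne_zero)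
  intro u v
  rw [repGL_coe, bf_reindex]
  have h5 : ∀ w, (((LinearMap.funLeft F F (fun j => Sum.inl (ep.symm j))) ∘ₗ
      b.equivFun.toLinearMap) w) ∘ ep = ℓ' w := by
    intro w
    funext i
    simp [ℓ', LinearMap.funLeft_apply]
  rw [h5, h5]
  have h6 := LinearMap.congr_fun₂ key u v
  rw [LinearMap.compl₁₂_apply, LinearMap.neg_apply, LinearMap.neg_apply,
    Matrix.toBilin'_apply', hB] at h6
  rw [neg_one_mul, ← h6]
  rfl

end skewclass

end Cfsg.Agent.Lib.Helper5.PslGraph
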