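import Mathlib
import Cfsg.Prelude.Def_LieTypeDatum
import Cfsg.Agent.Lib.Helper5.PslGraph.GraphClass

set_option autoImplicit false

/-! The three classes of involutory graph automorphisms of `PSL_n`, `n` even, `q` odd. -/

namespace Cfsg.Agent.Lib.Helper5.PslGraph

open Cfsg Matrix Cfsg.Agent.Lib.Helper9.APSL

section main
variable {F : Type*} [Field F] {n : ℕ}

local notation "Mn" => Matrix (Fin n) (Fin n) F
local notation "PSLn" => Matrix.ProjectiveSpecialLinearGroup (Fin n) F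
local notation "GLn" => GL (Fin n) F

theorem isConjUnder_symm {X : Type*} [Group X] (H : Subgroup X) {x y : X}
    (h : IsConjUnder H x y) : IsConjUnder H y x := by
  obtain ⟨g, hg, rfl⟩ := h
  refine ⟨g⁻¹, H.inv_mem hg, ?_⟩
  group

/-- a symmetric and a skew matrix give non-conjugate graph automorphisms -/
theorem not_isConjUnder_skew_sym (hn : 2 ≤ n) (h2 : (2 : F) ≠ 0) (S₁ S₂ : GLn)
    (h1 : (S₁ : Mn)ᵀ = -(S₁ : Mn)) (hS₂ : (S₂ : Mn)ᵀ = (S₂ : Mn)) :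
    ¬ IsConjUnder (Cfsg.inndiagPSL n F) (gB S₁) (gB S₂) := by
  rw [isConjUnder_gB_iff hn]
  rintro ⟨T, c, hc⟩
  have hsym : ((T : Mn)ᵀ * (S₂ : Mn) * (T : Mn))ᵀ = (T : Mn)ᵀ * (S₂ : Mn) * (T : Mn) := by
    rw [Matrix.transpose_mul, Matrix.transpose_mul, Matrix.transpose_transpose, hS₂,
      Matrix.mul_assoc]
  have hskew : ((T : Mn)ᵀ * (S₂ : Mn) * (T : Mn))ᵀ = -((T : Mn)ᵀ * (S₂ : Mn) * (T : Mn)) := by
    rw [hc, Matrix.transpose_smul, h1, smul_neg]
  rw [hsym] at hskew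
  have hzero : (T : Mn)ᵀ * (S₂ : Mn) * (T : Mn) = 0 := by
    ext i j
    have h3 := congrFun (congrFun hskew i) j
    rw [Matrix.neg_apply] at h3
    have h4 : 2 * ((T : Mn)ᵀ * (S₂ : Mn) * (T : Mn)) i j = 0 := by linear_combination h3
    exact (mul_eq_zero.mp h4).resolve_left h2
  have h5 := congrArg Matrix.det hzero
  rw [Matrix.det_mul, Matrix.det_mul, Matrix.det_transpose] at h5
  have hT : (T : Mn).det ≠ 0 := Matrix.GeneralLinearGroup.det_ne_zero T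
  have hS : (S₂ : Mn).det ≠ 0 := Matrix.GeneralLinearGroup.det_ne_zero S₂
  have : Nonempty (Fin n) := ⟨⟨0, by omega⟩⟩
  rw [Matrix.det_zero] at h5
  exact mul_ne_zero (mul_ne_zero hT hS) hT h5

/-- conjugate graph automorphisms of symmetric type have the same discriminant class -/
theorem isSquare_det_iff_of_isConjUnder (hn : 2 ≤ n) {m : ℕ} (hnm : n = 2 * m) (S₁ S₂ : GLn)
    (h : IsConjUnder (Cfsg.inndiagPSL n F) (gB S₁) (gB S₂)) :
    IsSquare (S₁ : Mn).det ↔ IsSquare (S₂ : Mn).det := by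
  rw [isConjUnder_gB_iff hn] at h
  obtain ⟨T, c, hc⟩ := h
  have h5 := congrArg Matrix.det hc
  rw [Matrix.det_mul, Matrix.det_mul, Matrix.det_transpose, Matrix.det_smul, Fintype.card_fin]
    at h5
  have hT : (T : Mn).det ≠ 0 := Matrix.GeneralLinearGroup.det_ne_zero T
  have hS₁ : (S₁ : Mn).det ≠ 0 := Matrix.GeneralLinearGroup.det_ne_zero S₁
  have hS₂ : (S₂ : Mn).det ≠ 0 := Matrix.GeneralLinearGroup.det_ne_zero S₂
  have hc0 : c ^ m ≠ 0 := by
    intro h0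
    have : c ^ n = 0 := by rw [hnm, mul_comm, pow_mul, h0, zero_pow (by norm_num)]
    rw [this, zero_mul] at h5
    exact mul_ne_zero (mul_ne_zero hT hS₂) hT h5
  have h6 : (T : Mn).det * (T : Mn).det * (S₂ : Mn).det
      = c ^ m * c ^ m * (S₁ : Mn).det := by
    rw [← pow_add, ← two_mul, ← hnm, ← h5]
    ring
  rw [← Cfsg.Agent.Lib.Helper5.isSquare_mul_sq_iff _ _ hc0, ← h6,
    Cfsg.Agent.Lib.Helper5.isSquare_mul_sq_iff _ _ hT]

theorem not_isSquare_of_irred (h2 : (2 : F) ≠ 0) (z : F) (hz : ∀ t : F, t ^ 2 + t + z ≠ 0) :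
    ¬ IsSquare (1 - 4 * z) := by
  rintro ⟨r, hr⟩
  apply hz ((-1 + r) / 2)
  field_simp
  linear_combination (-1 : F) * hr

/-- **the three classes of involutory graph automorphisms of `PSL_n`, `n` even, `q` odd** -/
theorem graph_classes_even_odd [Fintype F] (hodd : Odd (Fintype.card F)) {m : ℕ} (hm : 2 ≤ m)
    (hnm : n = 2 * m) :
    ∃ (γ₁ γ₂ γ₃ : MulAut PSLn) (a b : F),
      (∀ z₁ z₂ : F, z₁ ^ 2 + a * z₁ * z₂ + b * z₂ ^ 2 = 0 → z₁ = 0 ∧ z₂ = 0) ∧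
      Cfsg.IsGraphAutClassPSL γ₁ ∧ orderOf γ₁ = 2 ∧ Cfsg.IsGraphAutClassPSL γ₂ ∧ orderOf γ₂ = 2 ∧
      Cfsg.IsGraphAutClassPSL γ₃ ∧ orderOf γ₃ = 2 ∧
      ¬ Cfsg.IsConjUnder (Cfsg.inndiagPSL n F) γ₁ γ₂ ∧
      ¬ Cfsg.IsConjUnder (Cfsg.inndiagPSL n F) γ₁ γ₃ ∧
      ¬ Cfsg.IsConjUnder (Cfsg.inndiagPSL n F) γ₂ γ₃ ∧
      (∀ γ : MulAut PSLn, Cfsg.IsGraphAutClassPSL γ → orderOf γ = 2 →
        Cfsg.IsConjUnder (Cfsg.inndiagPSL n F) γ₁ γ ∨ Cfsg.IsConjUnder (Cfsg.inndiagPSL n F) γ₂ γ ∨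
          Cfsg.IsConjUnder (Cfsg.inndiagPSL n F) γ₃ γ) ∧
      Nonempty (↥(Cfsg.inndiagPSL n F ⊓ Subgroup.centralizer {γ₁}) ≃* Cfsg.PGSp m F) ∧
      Nonempty (↥(Cfsg.inndiagPSL n F ⊓ Subgroup.centralizer {γ₂}) ≃*
        Cfsg.PGO F (Cfsg.quadFormPlus m F)) ∧
      Nonempty (↥(Cfsg.inndiagPSL n F ⊓ Subgroup.centralizer {γ₃}) ≃*
        Cfsg.PGO F (Cfsg.quadFormMinus (m - 1) F a b)) := by
  classical
  have h2 : (2 : F) ≠ 0 := Cfsg.Agent.Lib.Helper5.two_ne_zero_of_odd_card hodd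
  have h4 : (4 : F) ≠ 0 := by
    have : (4 : F) = 2 * 2 := by norm_num
    rw [this]
    exact mul_ne_zero h2 h2
  have hn3 : 3 ≤ n := by omega
  have hn2 : 2 ≤ n := by omega
  obtain ⟨p, hp⟩ := CharP.exists F
  have hpp : p.Prime := CharP.char_is_prime F p
  have : Fact p.Prime := ⟨hpp⟩
  -- a nonsquare and the parameter of the minus form
  have hchar : ringChar F ≠ 2 := by
    intro h
    have h3 : (2 : F) = 0 := by
      have := ringChar.Nat.cast_ringChar (R := F)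
      rw [h] at this
      exact_mod_cast this
    exact h2 h3
  obtain ⟨d, hd⟩ := FiniteField.exists_nonsquare hchar
  obtain ⟨ζ₀, hζd⟩ : ∃ ζ₀ : F, 1 - 4 * ζ₀ = d := ⟨(1 - d) / 4, by field_simp; ring⟩
  have hζ₀ : ∀ t : F, t ^ 2 + t + ζ₀ ≠ 0 := by
    intro t ht
    apply hd
    refine ⟨2 * t + 1, ?_⟩
    rw [← hζd]
    linear_combination (-4 : F) * ht
  have hd0 : d ≠ 0 := by
    rintro rfl
    exact hd ⟨0, by ring⟩
  -- the index equivalences
  have hcp : Fintype.card (Fin m ⊕ Fin m) = n := by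
    rw [Fintype.card_sum, Fintype.card_fin]
    omega
  have hcm : Fintype.card ((Fin (m - 1) ⊕ Fin (m - 1)) ⊕ Fin 2) = n := by
    rw [Fintype.card_sum, Fintype.card_sum, Fintype.card_fin, Fintype.card_fin]
    omega
  obtain ⟨ep⟩ : Nonempty (Fin m ⊕ Fin m ≃ Fin n) := ⟨Fintype.equivFinOfCardEq hcp⟩
  obtain ⟨em⟩ : Nonempty ((Fin (m - 1) ⊕ Fin (m - 1)) ⊕ Fin 2 ≃ Fin n) :=
    ⟨Fintype.equivFinOfCardEq hcm⟩
  have hJ : (Matrix.J (Fin m) F).det ≠ 0 := by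
    intro h
    have := Matrix.J_det_mul_J_det (Fin m) F
    rw [h, zero_mul] at this
    exact zero_ne_one this
  have hdetm_eq : (Cfsg.Agent.S2621.gramMinus (m - 1) (1 : F) ζ₀).det = (-1) ^ m * d := by
    rw [Cfsg.Agent.S2621.det_gramMinus, ← hζd]
    obtain ⟨k, rfl⟩ : ∃ k, m = k + 1 := ⟨m - 1, by omega⟩
    rw [Nat.add_sub_cancel, pow_succ]
    ring
  have hdetm : (Cfsg.Agent.S2621.gramMinus (m - 1) (1 : F) ζ₀).det ≠ 0 := by
    rw [hdetm_eq]
    exact mul_ne_zero (pow_ne_zero _ (neg_ne_zero.mpr one_ne_zero)) hd0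
  -- the three matrices
  obtain ⟨S₁, hS₁⟩ : ∃ S₁ : GLn, S₁ = repGL ep (Matrix.J (Fin m) F) hJ := ⟨_, rfl⟩
  obtain ⟨S₂, hS₂⟩ : ∃ S₂ : GLn, S₂ = repGL ep (gramPlus m F) (det_gramPlus_ne_zero m) :=
    ⟨_, rfl⟩
  obtain ⟨S₃, hS₃⟩ : ∃ S₃ : GLn,
      S₃ = repGL em (Cfsg.Agent.S2621.gramMinus (m - 1) (1 : F) ζ₀) hdetm := ⟨_, rfl⟩
  have hS₁t : (S₁ : Mn)ᵀ = -(S₁ : Mn) := by
    rw [hS₁, repGL_coe]
    ext i j
    simp only [Matrix.transpose_apply, Matrix.reindex_apply, Matrix.submatrix_apply,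
      Matrix.neg_apply]
    have := congrFun (congrFun (Matrix.J_transpose (Fin m) F) (ep.symm i)) (ep.symm j)
    rw [Matrix.transpose_apply, Matrix.neg_apply] at this
    exact this
  have hS₂t : (S₂ : Mn)ᵀ = (S₂ : Mn) := by
    rw [hS₂]
    exact repGL_transpose ep _ _ (gramPlus_transpose m)
  have hS₃t : (S₃ : Mn)ᵀ = (S₃ : Mn) := by
    rw [hS₃]
    exact repGL_transpose em _ _ (gramMinus_transpose _ _ _)
  have hdet₂ : (S₂ : Mn).det = (-1) ^ m := by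
    rw [hS₂, repGL_coe, Matrix.det_reindex_self, det_gramPlus]
  have hdet₃ : (S₃ : Mn).det = (-1) ^ m * d := by
    rw [hS₃, repGL_coe, Matrix.det_reindex_self, hdetm_eq]
  have hord : ∀ S : GLn, (∃ c : F, (S : Mn) = c • (S : Mn)ᵀ) → orderOf (gB S) = 2 := by
    intro S hS
    rw [orderOf_gB_eq_two_iff p hn3, gB_sq_eq_one_iff hn2]
    exact hS
  refine ⟨gB S₁, gB S₂, gB S₃, 1, ζ₀, ?_, isGraphAutClass_gB hn3 S₁, ?_,
    isGraphAutClass_gB hn3 S₂, ?_, isGraphAutClass_gB hn3 S₃, ?_, ?_, ?_, ?_, ?_, ?_, ?_, ?_⟩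
  · intro z₁ z₂ hz
    by_cases hz2 : z₂ = 0
    · subst hz2
      simp at hz
      exact ⟨hz, rfl⟩
    · exfalso
      apply hζ₀ (z₁ / z₂)
      field_simp
      linear_combination hz
  · apply hord
    refine ⟨-1, ?_⟩
    rw [hS₁t, smul_neg, neg_smul, one_smul, neg_neg]
  · apply hord
    exact ⟨1, by rw [hS₂t, one_smul]⟩
  · apply hord
    exact ⟨1, by rw [hS₃t, one_smul]⟩
  · exact not_isConjUnder_skew_sym hn2 h2 S₁ S₂ hS₁t hS₂t
  · exact not_isConjUnder_skew_sym hn2 h2 S₁ S₃ hS₁t hS₃t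
  · intro hcon
    have h5 := isSquare_det_iff_of_isConjUnder hn2 hnm S₂ S₃ hcon
    rw [hdet₂, hdet₃, Cfsg.Agent.Lib.Helper5.isSquare_mul_nonsquare_iff hodd _ _
      (pow_ne_zero _ (neg_ne_zero.mpr one_ne_zero)) hd] at h5
    exact (iff_not_self h5).elim
  · intro γ hγ hγ2
    obtain ⟨S, rfl⟩ := exists_gB_of_graphAutClass hγ
    rw [orderOf_gB_eq_two_iff p hn3, gB_sq_eq_one_iff hn2] at hγ2
    obtain ⟨c, hc⟩ := hγ2
    have hc2 : c * c = 1 := by
      have h5 : (S : Mn) = (c * c) • (S : Mn) := by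
        conv_lhs => rw [hc]
        rw [show (S : Mn)ᵀ = c • (S : Mn) from by
          conv_lhs => rw [hc]
          rw [Matrix.transpose_smul, Matrix.transpose_transpose], smul_smul]
      by_contra hne
      have h6 : (1 - c * c) • (S : Mn) = 0 := by
        rw [sub_smul, one_smul, ← h5, sub_self]
      have h7 : (S : Mn) = 0 := by
        rcases smul_eq_zero.mp h6 with h8 | h8
        · exact absurd (sub_eq_zero.mp h8).symm hne
        · exact h8
      have hdet : (S : Mn).det ≠ 0 := Matrix.GeneralLinearGroup.det_ne_zero S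
      have : Nonempty (Fin n) := ⟨⟨0, by omega⟩⟩
      rw [h7, Matrix.det_zero] at hdet
      exact hdet rfl
    have hc' : c = 1 ∨ c = -1 := by
      have h5 : (c - 1) * (c + 1) = 0 := by linear_combination hc2
      rcases mul_eq_zero.mp h5 with h6 | h6
      · left
        exact sub_eq_zero.mp h6
      · right
        exact eq_neg_of_add_eq_zero_left h6
    rcases hc' with hc1 | hc1
    · have hSt : (S : Mn)ᵀ = (S : Mn) := by
        rw [hc1, one_smul] at hc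
        exact hc.symm
      rcases sym_class hodd (by omega : 1 ≤ m) hnm ep em ζ₀ hζ₀ hdetm S hSt with h5 | h5
      · right; left
        rw [hS₂]
        exact isConjUnder_symm _ h5
      · right; right
        rw [hS₃]
        exact isConjUnder_symm _ h5
    · have hSt : (S : Mn)ᵀ = -(S : Mn) := by
        rw [hc1, neg_smul, one_smul] at hc
        conv_rhs => rw [hc]
        rw [neg_neg]
      left
      rw [hS₁]
      exact isConjUnder_symm _ (skew_class h2 hnm hn2 ep hJ S hSt)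
  · rw [hS₁]
    exact cent_rep_symp hn2 m ep hJ
  · rw [hS₂]
    exact cent_rep_plus hn2 h2 m ep
  · rw [hS₃]
    exact cent_rep_minus hn2 h2 (m - 1) 1 ζ₀ em hdetm

end main

end Cfsg.Agent.Lib.Helper5.PslGraph
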