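import Mathlib
import Cfsg.Prelude.Def_LieTypeDatum
import Cfsg.Agent.S2622
import Cfsg.Agent.Lib.Helper5.SympTv
import Cfsg.Agent.Lib.Helper5.SympBridge
import Cfsg.Agent.Lib.Helper5.PslGraph.GraphMain

set_option autoImplicit false

/-! Involutory graph automorphisms of `PSL_n` in characteristic two: alternating and
non-alternating symmetric matrices. -/

namespace Cfsg.Agent.Lib.Helper5.PslGraph

open Cfsg Matrix Cfsg.Agent.Lib.Helper9.APSL

section altclass
variable {F : Type*} [Field F] {n : ℕ}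

local notation "Mn" => Matrix (Fin n) (Fin n) F
local notation "GLn" => GL (Fin n) F

theorem isConjUnder_trans {X : Type*} [Group X] (H : Subgroup X) {x y z : X}
    (h1 : IsConjUnder H x y) (h2 : IsConjUnder H y z) : IsConjUnder H x z := by
  obtain ⟨g, hg, rfl⟩ := h1
  obtain ⟨k, hk, rfl⟩ := h2
  refine ⟨k * g, H.mul_mem hk hg, ?_⟩
  group

/-- **classification of the alternating type** (any characteristic): an invertible matrix whose
bilinear form is alternating gives a graph automorphism conjugate to the symplectic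
representative -/
theorem alt_class {m : ℕ} (hnm : n = 2 * m) (hn : 2 ≤ n)
    (ep : Fin m ⊕ Fin m ≃ Fin n) (hJ : (Matrix.J (Fin m) F).det ≠ 0)
    (S : GLn) (hSalt : ∀ v, bf (S : Mn) v v = 0) :
    IsConjUnder (Cfsg.inndiagPSL n F) (gB S) (gB (repGL ep (Matrix.J (Fin m) F) hJ)) := by
  let B : LinearMap.BilinForm F (Fin n → F) := Matrix.toBilin' (S : Mn)
  have hB : ∀ u v, B u v = bf (S : Mn) u v := fun u v => Matrix.toBilin'_apply' _ u v
  have hA : B.IsAlt := by
    intro v
    rw [hB]
    exact hSalt v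
  obtain ⟨m', k, b, g1, g2, g3, g4, hdim, hk⟩ :=
    Cfsg.Agent.Lib.Helper5.AltForm.exists_darboux_basis B hA
  have hker : LinearMap.ker B = ⊥ := by
    rw [LinearMap.ker_eq_bot']
    intro x hx
    apply bf_left_nondeg S x
    intro y
    rw [← hB, hx]
    rfl
  have hk0 : k = 0 := by
    rw [hk, hker, finrank_bot]
  subst hk0
  have hm' : m' = m := by
    rw [Module.finrank_fin_fun] at hdim
    omega
  subst hm'
  let ℓ' : (Fin n → F) →ₗ[F] (Fin m' ⊕ Fin m' → F) :=
    (LinearMap.funLeft F F Sum.inl) ∘ₗ b.equivFun.toLinearMap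
  have hℓ' : ∀ a : Fin m' ⊕ Fin m', ℓ' (b (Sum.inl a)) = Pi.single a 1 := by
    intro a
    funext j
    simp only [ℓ', LinearMap.comp_apply, LinearMap.funLeft_apply, LinearEquiv.coe_coe,
      Cfsg.Agent.Lib.Helper5.equivFun_basis, Pi.single_apply, Sum.inl.injEq]
  have key : (Matrix.toBilin' (Matrix.J (Fin m') F)).compl₁₂ ℓ' ℓ' = -B := by
    apply LinearMap.BilinForm.ext_basis b
    intro a a'
    rw [LinearMap.compl₁₂_apply, LinearMap.neg_apply, LinearMap.neg_apply]
    rcases a with a | z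
    swap
    · exact z.elim0
    rcases a' with a' | z
    swap
    · exact z.elim0
    rw [hℓ', hℓ', Matrix.toBilin'_single]
    rcases a with i | i <;> rcases a' with j | j
    · rw [g2]
      simp [Matrix.J]
    · rw [g1]
      by_cases hij : i = j
      · simp [Matrix.J, hij]
      · simp [Matrix.J, hij]
    · rw [← hA.neg_eq, g1, neg_neg]
      by_cases hij : i = j
      · simp [Matrix.J, hij]
      · have hji : ¬ j = i := fun h => hij h.symm
        simp [Matrix.J, hij, hji]
    · rw [g3]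
      simp [Matrix.J]
  apply isConjUnder_gB_of_linearMap hn S _
    ((LinearMap.funLeft F F (fun j => Sum.inl (ep.symm j))) ∘ₗ b.equivFun.toLinearMap) (-1)
    (neg_ne_zero.mpr one_ne_zero)
  intro u v
  rw [repGL_coe, bf_reindex]
  have h5 : ∀ w, (((LinearMap.funLeft F F (fun j => Sum.inl (ep.symm j))) ∘ₗ
      b.equivFun.toLinearMap) w) ∘ ep = ℓ' w := by
    intro w
    funext i
    simp [ℓ', LinearMap.funLeft_apply]
  rw [h5, h5]
  have h6 := LinearMap.congr_fun₂ key u v
  rw [LinearMap.compl₁₂_apply, LinearMap.neg_apply, LinearMap.neg_apply,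
    Matrix.toBilin'_apply', hB] at h6
  rw [neg_one_mul, ← h6]
  rfl

/-- **classification of the non-alternating type** in characteristic two: every symmetric
non-alternating invertible matrix gives a graph automorphism conjugate to that of the identity
matrix -/
theorem nonalt_class [Finite F] [CharP F 2] (hn : 2 ≤ n) (S : GLn)
    (hS : (S : Mn)ᵀ = (S : Mn)) (hna : ∃ v, bf (S : Mn) v v ≠ 0) :
    IsConjUnder (Cfsg.inndiagPSL n F) (gB S) (gB (1 : GLn)) := by
  let B : LinearMap.BilinForm F (Fin n → F) := Matrix.toBilin' (S : Mn)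
  have hB : ∀ u v, B u v = bf (S : Mn) u v := fun u v => Matrix.toBilin'_apply' _ u v
  have hsymm : B.IsSymm := by
    constructor
    intro u v
    rw [hB, hB, bf_symm _ hS]
  have hnd : B.Nondegenerate := by
    constructor
    · intro x hx
      apply bf_left_nondeg S x
      intro y
      rw [← hB]
      exact hx y
    · intro x hx
      apply bf_left_nondeg S x
      intro y
      rw [bf_symm _ hS, ← hB]
      exact hx y
  obtain ⟨v, hv⟩ := hna
  obtain ⟨b, hb⟩ := Cfsg.Agent.S2622.result (Module.finrank_fin_fun F) B hsymm hnd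
    ⟨v, by rw [hB]; exact hv⟩
  apply isConjUnder_gB_of_linearMap hn S 1 b.equivFun.toLinearMap 1 one_ne_zero
  intro u w
  rw [one_mul, Units.val_one, ← hB]
  -- both sides are bilinear forms agreeing on the basis
  have key : (Matrix.toBilin' (1 : Mn)).compl₁₂ b.equivFun.toLinearMap b.equivFun.toLinearMap
      = B := by
    apply LinearMap.BilinForm.ext_basis b
    intro i j
    rw [LinearMap.compl₁₂_apply]
    simp only [LinearEquiv.coe_coe]
    rw [Cfsg.Agent.Lib.Helper5.equivFun_basis, Cfsg.Agent.Lib.Helper5.equivFun_basis,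
      Matrix.toBilin'_single, hb, Matrix.one_apply]
  have h6 := LinearMap.congr_fun₂ key u w
  rw [LinearMap.compl₁₂_apply, Matrix.toBilin'_apply'] at h6
  exact h6

end altclass

section pgsp
variable {F : Type*} [Field F] (m : ℕ)

local notation "M2" => Matrix (Fin m ⊕ Fin m) (Fin m ⊕ Fin m) F

/-- the symplectic group inside the general linear group -/
noncomputable def spToGL : ↥(Matrix.symplecticGroup (Fin m) F) →* GL (Fin m ⊕ Fin m) F :=
  (Matrix.symplecticGroup (Fin m) F).subtype.toHomUnits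

theorem spToGL_coe (h : ↥(Matrix.symplecticGroup (Fin m) F)) :
    ((spToGL m h : GL (Fin m ⊕ Fin m) F) : M2) = (h : M2) := rfl

theorem spToGL_mem_GSp (h : ↥(Matrix.symplecticGroup (Fin m) F)) :
    spToGL m h ∈ Cfsg.GSp m F := by
  refine ⟨1, fun u v => ?_⟩
  rw [spToGL_coe, Cfsg.Agent.Lib.Helper5.SympTv.sympForm_mulVec m h.2, Units.val_one, one_mul]

theorem sympForm_pair (hm : 1 ≤ m) :
    sympForm m F (Pi.single (Sum.inr ⟨0, hm⟩) 1) (Pi.single (Sum.inl ⟨0, hm⟩) 1) = 1 := by
  unfold sympForm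
  rw [Matrix.mulVec_single_one, single_dotProduct, one_mul]
  simp [Matrix.J]

theorem char_two_eq_one_of_mul_self [CharP F 2] (c : F) (h : c * c = 1) : c = 1 := by
  have h2 : (2 : F) = 0 := CharP.cast_eq_zero F 2
  have h3 : (c - 1) * (c - 1) = 0 := by
    have : (c - 1) * (c - 1) = c * c - 2 * c + 1 := by ring
    rw [this, h]
    linear_combination (1 - c) * h2
  exact sub_eq_zero.mp (mul_self_eq_zero.mp h3)

theorem exists_mul_self_char_two [Fintype F] [CharP F 2] (c : F) : ∃ l : F, l * l = c := by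
  obtain ⟨l, hl⟩ := FiniteField.isSquare_of_char_two (ringChar.eq F 2) c
  exact ⟨l, hl.symm⟩

/-- a symplectic similitude divided by a square root of its multiplier is symplectic -/
theorem exists_sp_of_gsp (g : GL (Fin m ⊕ Fin m) F) (l : Fˣ)
    (hg : ∀ u v, sympForm m F ((g : M2) *ᵥ u) ((g : M2) *ᵥ v) = ((l : F) * l) * sympForm m F u v) :
    ∃ h : ↥(Matrix.symplecticGroup (Fin m) F), (g : M2) = (l : F) • (h : M2) := by
  refine ⟨⟨((l⁻¹ : Fˣ) : F) • (g : M2), ?_⟩, ?_⟩
  · rw [Cfsg.Agent.Lib.Helper5.SympBridge.mem_symplectic_iff]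
    intro u v
    rw [smul_mulVec, smul_mulVec, Cfsg.Agent.Lib.Helper5.SympTv.sympForm_smul_left,
      Cfsg.Agent.Lib.Helper5.SympTv.sympForm_smul_right, hg, ← mul_assoc, ← mul_assoc]
    have : ((l⁻¹ : Fˣ) : F) * ((l⁻¹ : Fˣ) : F) * (l : F) * (l : F) = 1 := by
      have h1 : ((l⁻¹ : Fˣ) : F) * (l : F) = 1 := by rw [← Units.val_mul, inv_mul_cancel, Units.val_one]
      calc ((l⁻¹ : Fˣ) : F) * ((l⁻¹ : Fˣ) : F) * (l : F) * (l : F)
          = (((l⁻¹ : Fˣ) : F) * (l : F)) * (((l⁻¹ : Fˣ) : F) * (l : F)) := by ring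
        _ = 1 := by rw [h1, one_mul]
    linear_combination (sympForm m F u v) * this
  · show (g : M2) = (l : F) • (((l⁻¹ : Fˣ) : F) • (g : M2))
    rw [smul_smul, ← Units.val_mul, mul_inv_cancel, Units.val_one, one_smul]

/-- **in characteristic two the projective conformal symplectic group is the symplectic group** -/
theorem pgsp_equiv_sp [Fintype F] [CharP F 2] (hm : 1 ≤ m) :
    Nonempty (Cfsg.PGSp m F ≃* ↥(Matrix.symplecticGroup (Fin m) F)) := by
  obtain ⟨ψ₁, hψ₁⟩ : ∃ ψ₁ : ↥(Matrix.symplecticGroup (Fin m) F) →* ↥(Cfsg.GSp m F),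
      ∀ h, ((ψ₁ h : ↥(Cfsg.GSp m F)) : GL (Fin m ⊕ Fin m) F) = spToGL m h :=
    ⟨(spToGL m).codRestrict _ (spToGL_mem_GSp m), fun _ => rfl⟩
  obtain ⟨ψ, hψ⟩ : ∃ ψ : ↥(Matrix.symplecticGroup (Fin m) F) →* Cfsg.PGSp m F,
      ∀ h, ψ h = QuotientGroup.mk (ψ₁ h) := ⟨(QuotientGroup.mk' _).comp ψ₁, fun _ => rfl⟩
  have hinj : Function.Injective ψ := by
    rw [injective_iff_map_eq_one]
    intro h hh
    rw [hψ, QuotientGroup.eq_one_iff, Subgroup.mem_subgroupOf, hψ₁, Geo.mem_scalars_iff] at hh
    obtain ⟨c, hc⟩ := hh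
    rw [spToGL_coe] at hc
    have h1 := Cfsg.Agent.Lib.Helper5.SympTv.sympForm_mulVec m h.2
      (Pi.single (Sum.inr ⟨0, hm⟩) 1) (Pi.single (Sum.inl ⟨0, hm⟩) 1)
    rw [hc, smul_mulVec, smul_mulVec, one_mulVec, one_mulVec,
      Cfsg.Agent.Lib.Helper5.SympTv.sympForm_smul_left,
      Cfsg.Agent.Lib.Helper5.SympTv.sympForm_smul_right, sympForm_pair m hm, mul_one] at h1
    have hc1 : (c : F) = 1 := char_two_eq_one_of_mul_self _ h1
    apply Subtype.ext
    rw [hc, hc1, one_smul]
    rfl
  have hsurj : Function.Surjective ψ := by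
    intro y
    induction y using QuotientGroup.induction_on with
    | H g =>
      obtain ⟨c, hc⟩ := g.2
      obtain ⟨l, hl⟩ := exists_mul_self_char_two (c : F)
      have hl0 : l ≠ 0 := by
        rintro rfl
        rw [mul_zero] at hl
        exact c.ne_zero hl.symm
      obtain ⟨h, hh⟩ := exists_sp_of_gsp m (g : GL (Fin m ⊕ Fin m) F) (Units.mk0 l hl0) (by
        intro u v
        rw [Units.val_mk0, hl]
        exact hc u v)
      refine ⟨h, ?_⟩
      rw [hψ]
      apply QuotientGroup.eq.mpr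
      rw [Subgroup.mem_subgroupOf, Geo.mem_scalars_iff]
      refine ⟨Units.mk0 l hl0, ?_⟩
      rw [Subgroup.coe_mul, Subgroup.coe_inv, hψ₁, Units.val_mul]
      have h3 : ((spToGL m h)⁻¹ : GL (Fin m ⊕ Fin m) F) = spToGL m h⁻¹ := (map_inv _ _).symm
      rw [h3, spToGL_coe, hh, Units.val_mk0, Matrix.mul_smul]
      congr 1
      have h4 : ((h⁻¹ * h : ↥(Matrix.symplecticGroup (Fin m) F)) : M2) = 1 := by
        rw [inv_mul_cancel]
        rfl
      exact h4
  exact ⟨(MulEquiv.ofBijective ψ ⟨hinj, hsurj⟩).symm⟩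

end pgsp

section centtv
variable {F : Type*} [Field F] (m : ℕ)

open Cfsg.Agent.Lib.Helper5.SympTv Cfsg.Agent.Lib.Helper5.SympBridge

local notation "M2" => Matrix (Fin m ⊕ Fin m) (Fin m ⊕ Fin m) F
local notation "V2" => (Fin m ⊕ Fin m → F)

/-- the symmetric non-alternating matrix `J + (Ja)(Ja)ᵀ` -/
def gramTv (a : V2) : M2 :=
  Matrix.J (Fin m) F + Matrix.vecMulVec (Matrix.J (Fin m) F *ᵥ a) (Matrix.J (Fin m) F *ᵥ a)

theorem bf_gramTv (a u v : V2) :
    bf (gramTv m a) u v = sympForm m F u v + sympForm m F u a * sympForm m F v a := by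
  unfold bf gramTv sympForm
  rw [add_mulVec, dotProduct_add, vecMulVec_mulVec]
  congr 1
  rw [op_smul_eq_smul, dotProduct_smul, smul_eq_mul, dotProduct_comm _ v, mul_comm]

theorem gramTv_transpose [CharP F 2] (a : V2) : (gramTv m a)ᵀ = gramTv m a := by
  unfold gramTv
  rw [Matrix.transpose_add, Matrix.J_transpose, Matrix.transpose_vecMulVec]
  congr 1
  ext i j
  rw [Matrix.neg_apply, CharTwo.neg_eq]

theorem sympForm_eq_zero_of_left (x : V2) (h : ∀ u, sympForm m F u x = 0) : x = 0 := by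
  apply eq_zero_of_sympForm_right m x
  intro v
  rw [sympForm_swap, h, neg_zero]

theorem det_gramTv_ne_zero (a : V2) : (gramTv m a).det ≠ 0 := by
  have hinj : Function.Injective (gramTv m a).mulVec := by
    intro x y hxy
    have h0 : (gramTv m a) *ᵥ (x - y) = 0 := by
      rw [mulVec_sub]
      exact sub_eq_zero.mpr hxy
    have h1 : ∀ u, bf (gramTv m a) u (x - y) = 0 := by
      intro u
      unfold bf
      rw [h0, dotProduct_zero]
    have h2 : sympForm m F (x - y) a = 0 := by
      have := h1 (x - y)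
      rw [bf_gramTv, sympForm_self, zero_add] at this
      exact mul_self_eq_zero.mp this
    have h3 : x - y = 0 := by
      apply sympForm_eq_zero_of_left m
      intro u
      have := h1 u
      rw [bf_gramTv, h2, mul_zero, add_zero] at this
      exact this
    exact sub_eq_zero.mp h3
  have hunit : IsUnit (gramTv m a) := Matrix.mulVec_injective_iff_isUnit.mp hinj
  exact ((Matrix.isUnit_iff_isUnit_det _).mp hunit).ne_zero

/-- the symplectic transvection with centre `a` -/
noncomputable def tvSp (a : V2) : ↥(Matrix.symplecticGroup (Fin m) F) :=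
  ⟨sympTransvection m a 1, sympTransvection_mem m a 1⟩

theorem tvSp_mulVec (a x : V2) :
    ((tvSp m a : ↥(Matrix.symplecticGroup (Fin m) F)) : M2) *ᵥ x = x + sympForm m F x a • a := by
  show sympTransvection m a 1 *ᵥ x = _
  rw [sympTransvection_mulVec, one_mul]

/-- in characteristic two the centralizer of a symplectic transvection is the stabilizer of its
centre -/
theorem mem_cent_tvSp_iff [CharP F 2] (a x₀ : V2) (hx₀ : sympForm m F x₀ a = 1)
    (h : ↥(Matrix.symplecticGroup (Fin m) F)) :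
    h ∈ Subgroup.centralizer {tvSp m a} ↔ (h : M2) *ᵥ a = a := by
  rw [Subgroup.mem_centralizer_singleton_iff]
  constructor
  · intro e
    have e' : (h : M2) * ((tvSp m a : ↥(Matrix.symplecticGroup (Fin m) F)) : M2)
        = ((tvSp m a : ↥(Matrix.symplecticGroup (Fin m) F)) : M2) * (h : M2) :=
      congrArg Subtype.val e
    have h1 := congrArg (fun M : M2 => M *ᵥ x₀) e'
    simp only [← mulVec_mulVec] at h1
    rw [tvSp_mulVec, tvSp_mulVec, mulVec_add, mulVec_smul, hx₀, one_smul] at h1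
    have h2 : (h : M2) *ᵥ a = sympForm m F ((h : M2) *ᵥ x₀) a • a := add_left_cancel h1
    have h3 : sympForm m F ((h : M2) *ᵥ x₀) ((h : M2) *ᵥ a) = 1 := by
      rw [sympForm_mulVec m h.2, hx₀]
    rw [h2, sympForm_smul_right] at h3
    have h4 : sympForm m F ((h : M2) *ᵥ x₀) a = 1 := char_two_eq_one_of_mul_self _ h3
    rw [h2, h4, one_smul]
  · intro e
    apply Subtype.ext
    show (h : M2) * ((tvSp m a : ↥(Matrix.symplecticGroup (Fin m) F)) : M2)
        = ((tvSp m a : ↥(Matrix.symplecticGroup (Fin m) F)) : M2) * (h : M2)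
    rw [Matrix.ext_iff_mulVec]
    intro x
    rw [← mulVec_mulVec, ← mulVec_mulVec, tvSp_mulVec, tvSp_mulVec, mulVec_add, mulVec_smul, e]
    congr 2
    conv_rhs => rw [← e]
    rw [sympForm_mulVec m h.2]

theorem char_two_eq_of_mul_self_eq [CharP F 2] (x y : F) (h : x * x = y * y) : x = y := by
  have h2 : (2 : F) = 0 := CharP.cast_eq_zero F 2
  have h3 : (x - y) * (x - y) = 0 := by
    linear_combination h + (y * y - x * y) * h2
  exact sub_eq_zero.mp (mul_self_eq_zero.mp h3)

/-- **the similarities of `J + (Ja)(Ja)ᵀ` modulo scalars are the centralizer of the transvection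
with centre `a`** (characteristic two) -/
theorem cent_tv_equiv [Fintype F] [CharP F 2] (hm : 1 ≤ m) (a x₀ : V2)
    (hx₀ : sympForm m F x₀ a = 1) :
    Nonempty (projQuot (Geo.similarityGroup (F := F) (bf (gramTv m a))) ≃*
      ↥(Subgroup.centralizer {tvSp m a})) := by
  have hmem : ∀ h : ↥(Matrix.symplecticGroup (Fin m) F), (h : M2) *ᵥ a = a →
      spToGL m h ∈ Geo.similarityGroup (F := F) (bf (gramTv m a)) := by
    intro h ha
    refine ⟨1, fun u v => ?_⟩
    have h1 : ∀ w, sympForm m F ((h : M2) *ᵥ w) a = sympForm m F w a := by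
      intro w
      conv_lhs => rw [← ha]
      rw [sympForm_mulVec m h.2]
    rw [spToGL_coe, bf_gramTv, bf_gramTv, sympForm_mulVec m h.2, Units.val_one, one_mul, h1, h1]
  obtain ⟨Φ₁, hΦ₁⟩ : ∃ Φ₁ : ↥(Subgroup.centralizer {tvSp m a}) →*
      ↥(Geo.similarityGroup (F := F) (bf (gramTv m a))),
      ∀ h, ((Φ₁ h : ↥(Geo.similarityGroup (F := F) (bf (gramTv m a)))) :
        GL (Fin m ⊕ Fin m) F) = spToGL m (h : ↥(Matrix.symplecticGroup (Fin m) F)) :=
    ⟨((spToGL m).comp (Subgroup.subtype _)).codRestrict _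
      (fun h => hmem h.1 ((mem_cent_tvSp_iff m a x₀ hx₀ h.1).mp h.2)), fun _ => rfl⟩
  obtain ⟨Φ, hΦ⟩ : ∃ Φ : ↥(Subgroup.centralizer {tvSp m a}) →*
      projQuot (Geo.similarityGroup (F := F) (bf (gramTv m a))),
      ∀ h, Φ h = QuotientGroup.mk (Φ₁ h) := ⟨(QuotientGroup.mk' _).comp Φ₁, fun _ => rfl⟩
  have hinj : Function.Injective Φ := by
    rw [injective_iff_map_eq_one]
    intro h hh
    rw [hΦ, QuotientGroup.eq_one_iff, Subgroup.mem_subgroupOf, hΦ₁, Geo.mem_scalars_iff] at hh
    obtain ⟨c, hc⟩ := hh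
    rw [spToGL_coe] at hc
    have h1 := sympForm_mulVec m h.1.2
      (Pi.single (Sum.inr ⟨0, hm⟩) 1) (Pi.single (Sum.inl ⟨0, hm⟩) 1)
    rw [hc, smul_mulVec, smul_mulVec, one_mulVec, one_mulVec, sympForm_smul_left,
      sympForm_smul_right, sympForm_pair m hm, mul_one] at h1
    have hc1 : (c : F) = 1 := char_two_eq_one_of_mul_self _ h1
    apply Subtype.ext
    apply Subtype.ext
    rw [hc, hc1, one_smul]
    rfl
  have hsurj : Function.Surjective Φ := by
    intro y
    induction y using QuotientGroup.induction_on with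
    | H g =>
      obtain ⟨c, hc⟩ := g.2
      obtain ⟨l, hl⟩ := exists_mul_self_char_two (c : F)
      have hl0 : l ≠ 0 := by
        rintro rfl
        rw [mul_zero] at hl
        exact c.ne_zero hl.symm
      have h1 : ∀ u, sympForm m F (((g : GL (Fin m ⊕ Fin m) F) : M2) *ᵥ u) a
          = l * sympForm m F u a := by
        intro u
        have h5 := hc u u
        rw [bf_gramTv, bf_gramTv, sympForm_self, sympForm_self, zero_add, zero_add, ← hl] at h5
        apply char_two_eq_of_mul_self_eq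
        rw [h5]
        ring
      have h2 : ∀ u v, sympForm m F (((g : GL (Fin m ⊕ Fin m) F) : M2) *ᵥ u)
          (((g : GL (Fin m ⊕ Fin m) F) : M2) *ᵥ v) = (l * l) * sympForm m F u v := by
        intro u v
        have h5 := hc u v
        rw [bf_gramTv, bf_gramTv, h1, h1, ← hl] at h5
        linear_combination h5
      obtain ⟨h, hh⟩ := exists_sp_of_gsp m (g : GL (Fin m ⊕ Fin m) F) (Units.mk0 l hl0) (by
        intro u v
        rw [Units.val_mk0]
        exact h2 u v)
      rw [Units.val_mk0] at hh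
      have h3 : ∀ u, sympForm m F ((h : M2) *ᵥ u) a = sympForm m F u a := by
        intro u
        have h5 := h1 u
        rw [hh, smul_mulVec, sympForm_smul_left] at h5
        exact mul_left_cancel₀ hl0 h5
      have ha : (h : M2) *ᵥ a = a := by
        have h6 : a - (h : M2) *ᵥ a = 0 := by
          apply sympForm_eq_zero_of_left m
          intro w
          have hw : (h : M2) *ᵥ (((h⁻¹ : ↥(Matrix.symplecticGroup (Fin m) F)) : M2) *ᵥ w) = w := by
            rw [mulVec_mulVec]
            have h7 : (h : M2) * ((h⁻¹ : ↥(Matrix.symplecticGroup (Fin m) F)) : M2) = 1 := by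
              have : ((h * h⁻¹ : ↥(Matrix.symplecticGroup (Fin m) F)) : M2) = 1 := by
                rw [mul_inv_cancel]
                rfl
              exact this
            rw [h7, one_mulVec]
          rw [sympForm_sub_right]
          conv_lhs => rw [← hw]
          rw [h3, sympForm_mulVec m h.2, sub_self]
        exact (sub_eq_zero.mp h6).symm
      refine ⟨⟨h, (mem_cent_tvSp_iff m a x₀ hx₀ h).mpr ha⟩, ?_⟩
      rw [hΦ]
      apply QuotientGroup.eq.mpr
      rw [Subgroup.mem_subgroupOf, Geo.mem_scalars_iff]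
      refine ⟨Units.mk0 l hl0, ?_⟩
      rw [Subgroup.coe_mul, Subgroup.coe_inv, hΦ₁, Units.val_mul]
      have h8 : ((spToGL m h)⁻¹ : GL (Fin m ⊕ Fin m) F) = spToGL m h⁻¹ := (map_inv _ _).symm
      show ((spToGL m h)⁻¹ : GL (Fin m ⊕ Fin m) F).val * _ = _
      rw [h8, spToGL_coe, hh, Units.val_mk0, Matrix.mul_smul]
      congr 1
      have h4 : ((h⁻¹ * h : ↥(Matrix.symplecticGroup (Fin m) F)) : M2) = 1 := by
        rw [inv_mul_cancel]
        rfl
      exact h4
  exact ⟨(MulEquiv.ofBijective Φ ⟨hinj, hsurj⟩).symm⟩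

end centtv

end Cfsg.Agent.Lib.Helper5.PslGraph
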