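import Mathlib
import Cfsg.Prelude.Def_LieTypeDatum
import Cfsg.Agent.Lib.Helper5.PslGraph.CharTwo

set_option autoImplicit false

/-! The two classes of involutory graph automorphisms of `PSL_n`, `n` even, `q` even. -/

namespace Cfsg.Agent.Lib.Helper5.PslGraph

open Cfsg Matrix Cfsg.Agent.Lib.Helper9.APSL

section main2
variable {F : Type*} [Field F] {n : ℕ}

local notation "Mn" => Matrix (Fin n) (Fin n) F
local notation "PSLn" => Matrix.ProjectiveSpecialLinearGroup (Fin n) F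
local notation "GLn" => GL (Fin n) F

theorem mul_self_eq_one_of_eq_smul_transpose (hn : 0 < n) (S : GLn) (c : F)
    (hc : (S : Mn) = c • (S : Mn)ᵀ) : c * c = 1 := by
  have h5 : (S : Mn) = (c * c) • (S : Mn) := by
    conv_lhs => rw [hc]
    rw [show (S : Mn)ᵀ = c • (S : Mn) from by
      conv_lhs => rw [hc]
      rw [Matrix.transpose_smul, Matrix.transpose_transpose], smul_smul]
  by_contra hne
  have h6 : (1 - c * c) • (S : Mn) = 0 := by
    rw [sub_smul, one_smul, ← h5, sub_self]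
  have h7 : (S : Mn) = 0 := by
    rcases smul_eq_zero.mp h6 with h8 | h8
    · exact absurd (sub_eq_zero.mp h8).symm hne
    · exact h8
  have hdet : (S : Mn).det ≠ 0 := Matrix.GeneralLinearGroup.det_ne_zero S
  have : Nonempty (Fin n) := ⟨⟨0, hn⟩⟩
  rw [h7, Matrix.det_zero] at hdet
  exact hdet rfl

theorem isTransvection_tvSp (m : ℕ) (a : Fin m ⊕ Fin m → F) (ha : a ≠ 0) :
    Cfsg.IsTransvection ((tvSp m a : ↥(Matrix.symplecticGroup (Fin m) F)) :
      Matrix (Fin m ⊕ Fin m) (Fin m ⊕ Fin m) F) := by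
  have h1 : ((tvSp m a : ↥(Matrix.symplecticGroup (Fin m) F)) :
      Matrix (Fin m ⊕ Fin m) (Fin m ⊕ Fin m) F) - 1
      = Matrix.vecMulVec a (Matrix.J (Fin m) F *ᵥ a) := by
    show sympTransvection m a 1 - 1 = _
    unfold sympTransvection
    rw [one_smul, add_sub_cancel_left]
  have hJa : Matrix.J (Fin m) F *ᵥ a ≠ 0 := by
    intro h
    apply ha
    have h2 : Matrix.J (Fin m) F *ᵥ (Matrix.J (Fin m) F *ᵥ a) = -a := by
      rw [mulVec_mulVec, Matrix.J_squared, neg_mulVec, one_mulVec]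
    rw [h, mulVec_zero] at h2
    exact neg_eq_zero.mp h2.symm
  unfold Cfsg.IsTransvection
  rw [h1]
  constructor
  · apply le_antisymm (Matrix.rank_vecMulVec_le _ _)
    rw [Matrix.rank, Nat.succ_le_iff, Module.finrank_pos_iff_exists_ne_zero]
    obtain ⟨j, hj⟩ : ∃ j, (Matrix.J (Fin m) F *ᵥ a) j ≠ 0 := by
      by_contra hcon
      push Not at hcon
      exact hJa (funext hcon)
    refine ⟨⟨(Matrix.vecMulVec a (Matrix.J (Fin m) F *ᵥ a)).mulVecLin (Pi.single j 1),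
      LinearMap.mem_range_self _ _⟩, ?_⟩
    intro h
    have h3 := congrArg Subtype.val h
    simp only [Matrix.mulVecLin_apply, ZeroMemClass.coe_zero] at h3
    rw [vecMulVec_mulVec, op_smul_eq_smul, dotProduct_single, mul_one] at h3
    rcases smul_eq_zero.mp h3 with h4 | h4
    · exact hj h4
    · exact ha h4
  · rw [vecMulVec_mul_vecMulVec]
    have h5 : (Matrix.J (Fin m) F *ᵥ a) ⬝ᵥ a = 0 := by
      have := Cfsg.Agent.Lib.Helper5.SympTv.sympForm_self m a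
      unfold sympForm at this
      rw [dotProduct_comm]
      exact this
    rw [h5, zero_smul, vecMulVec_zero]

/-- **the two classes of involutory graph automorphisms of `PSL_n`, `n` even, `q` even** -/
theorem graph_classes_even_char_two [Fintype F] [CharP F 2] {m : ℕ} (hm : 2 ≤ m)
    (hnm : n = 2 * m) :
    ∃ (γ₁ γ₃ : MulAut PSLn) (t : ↥(Matrix.symplecticGroup (Fin m) F)),
      Cfsg.IsTransvection (t : Matrix (Fin m ⊕ Fin m) (Fin m ⊕ Fin m) F) ∧
      Cfsg.IsGraphAutClassPSL γ₁ ∧ orderOf γ₁ = 2 ∧ Cfsg.IsGraphAutClassPSL γ₃ ∧ orderOf γ₃ = 2 ∧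
      ¬ Cfsg.IsConjUnder (Cfsg.inndiagPSL n F) γ₁ γ₃ ∧
      (∀ γ : MulAut PSLn, Cfsg.IsGraphAutClassPSL γ → orderOf γ = 2 →
        Cfsg.IsConjUnder (Cfsg.inndiagPSL n F) γ₁ γ ∨
          Cfsg.IsConjUnder (Cfsg.inndiagPSL n F) γ₃ γ) ∧
      Nonempty (↥(Cfsg.inndiagPSL n F ⊓ Subgroup.centralizer {γ₁}) ≃*
        ↥(Matrix.symplecticGroup (Fin m) F)) ∧
      Nonempty (↥(Cfsg.inndiagPSL n F ⊓ Subgroup.centralizer {γ₃}) ≃*
        ↥(Subgroup.centralizer ({t} : Set ↥(Matrix.symplecticGroup (Fin m) F)))) := by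
  classical
  have hn3 : 3 ≤ n := by omega
  have hn2 : 2 ≤ n := by omega
  have hm1 : 1 ≤ m := by omega
  have : Fact (Nat.Prime 2) := ⟨Nat.prime_two⟩
  have hcp : Fintype.card (Fin m ⊕ Fin m) = n := by
    rw [Fintype.card_sum, Fintype.card_fin]
    omega
  obtain ⟨ep⟩ : Nonempty (Fin m ⊕ Fin m ≃ Fin n) := ⟨Fintype.equivFinOfCardEq hcp⟩
  have hJ : (Matrix.J (Fin m) F).det ≠ 0 := by
    intro h
    have := Matrix.J_det_mul_J_det (Fin m) F
    rw [h, zero_mul] at this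
    exact zero_ne_one this
  -- the centre of the transvection and its partner
  obtain ⟨a, ha⟩ : ∃ a : Fin m ⊕ Fin m → F, a = Pi.single (Sum.inl ⟨0, hm1⟩) 1 := ⟨_, rfl⟩
  obtain ⟨x₀, hx₀⟩ : ∃ x₀ : Fin m ⊕ Fin m → F, x₀ = Pi.single (Sum.inr ⟨0, hm1⟩) 1 := ⟨_, rfl⟩
  have hpair : sympForm m F x₀ a = 1 := by
    rw [ha, hx₀]
    exact sympForm_pair m hm1
  have ha0 : a ≠ 0 := by
    rintro rfl
    unfold sympForm at hpair
    rw [mulVec_zero, dotProduct_zero] at hpair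
    exact zero_ne_one hpair
  obtain ⟨S₁, hS₁⟩ : ∃ S₁ : GLn, S₁ = repGL ep (Matrix.J (Fin m) F) hJ := ⟨_, rfl⟩
  obtain ⟨S₃, hS₃⟩ : ∃ S₃ : GLn, S₃ = repGL ep (gramTv m a) (det_gramTv_ne_zero m a) := ⟨_, rfl⟩
  have hS₁t : (S₁ : Mn)ᵀ = -(S₁ : Mn) := by
    rw [hS₁, repGL_coe]
    ext i j
    simp only [Matrix.transpose_apply, Matrix.reindex_apply, Matrix.submatrix_apply,
      Matrix.neg_apply]
    have := congrFun (congrFun (Matrix.J_transpose (Fin m) F) (ep.symm i)) (ep.symm j)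
    rw [Matrix.transpose_apply, Matrix.neg_apply] at this
    exact this
  have hS₃t : (S₃ : Mn)ᵀ = (S₃ : Mn) := by
    rw [hS₃]
    exact repGL_transpose ep _ _ (gramTv_transpose m a)
  have hS₁alt : ∀ v, bf (S₁ : Mn) v v = 0 := by
    intro v
    rw [hS₁, repGL_coe, bf_reindex]
    exact Cfsg.Agent.Lib.Helper5.SympTv.sympForm_self m _
  have hS₃na : ∃ v, bf (S₃ : Mn) v v ≠ 0 := by
    refine ⟨x₀ ∘ ep.symm, ?_⟩
    rw [hS₃, repGL_coe, bf_reindex]
    have : (x₀ ∘ ep.symm) ∘ ep = x₀ := by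
      funext i
      simp
    rw [this, bf_gramTv, Cfsg.Agent.Lib.Helper5.SympTv.sympForm_self, hpair, zero_add, one_mul]
    exact one_ne_zero
  have hord : ∀ S : GLn, (∃ c : F, (S : Mn) = c • (S : Mn)ᵀ) → orderOf (gB S) = 2 := by
    intro S hS
    rw [orderOf_gB_eq_two_iff 2 hn3, gB_sq_eq_one_iff hn2]
    exact hS
  refine ⟨gB S₁, gB S₃, tvSp m a, isTransvection_tvSp m a ha0, isGraphAutClass_gB hn3 S₁, ?_,
    isGraphAutClass_gB hn3 S₃, ?_, ?_, ?_, ?_, ?_⟩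
  · apply hord
    refine ⟨-1, ?_⟩
    rw [hS₁t, smul_neg, neg_smul, one_smul, neg_neg]
  · apply hord
    exact ⟨1, by rw [hS₃t, one_smul]⟩
  · rw [isConjUnder_gB_iff hn2]
    rintro ⟨T, c, hc⟩
    obtain ⟨w, hw⟩ := hS₃na
    apply hw
    have hTw : (T : Mn) *ᵥ (((T⁻¹ : GLn) : Mn) *ᵥ w) = w := by
      rw [mulVec_mulVec, mul_inv_coe, one_mulVec]
    rw [← hTw, bf_mulVec, hc, bf_smul, hS₁alt, mul_zero]
  · intro γ hγ hγ2
    obtain ⟨S, rfl⟩ := exists_gB_of_graphAutClass hγ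
    rw [orderOf_gB_eq_two_iff 2 hn3, gB_sq_eq_one_iff hn2] at hγ2
    obtain ⟨c, hc⟩ := hγ2
    have hc1 : c = 1 :=
      char_two_eq_one_of_mul_self c (mul_self_eq_one_of_eq_smul_transpose (by omega) S c hc)
    have hSt : (S : Mn)ᵀ = (S : Mn) := by
      rw [hc1, one_smul] at hc
      exact hc.symm
    by_cases halt : ∀ v, bf (S : Mn) v v = 0
    · left
      rw [hS₁]
      exact isConjUnder_symm _ (alt_class hnm hn2 ep hJ S halt)
    · right
      push Not at halt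
      have h1 := nonalt_class hn2 S hSt halt
      have h3 := nonalt_class hn2 S₃ hS₃t hS₃na
      exact isConjUnder_trans _ h3 (isConjUnder_symm _ h1)
  · rw [hS₁]
    obtain ⟨e1⟩ := cent_rep_symp (F := F) hn2 m ep hJ
    obtain ⟨e2⟩ := pgsp_equiv_sp (F := F) m hm1
    exact ⟨e1.trans e2⟩
  · rw [hS₃]
    obtain ⟨e1⟩ := cent_rep_equiv hn2 ep (gramTv m a) (det_gramTv_ne_zero m a)
    obtain ⟨e2⟩ := cent_tv_equiv m hm1 a x₀ hpair
    exact ⟨e1.trans e2⟩

end main2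

end Cfsg.Agent.Lib.Helper5.PslGraph
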