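import Mathlib
import Cfsg.Prelude.Def_LieTypeDatum
import Cfsg.Agent.S2618
import Cfsg.Agent.S2619
import Cfsg.Agent.Lib.Helper5.PslGraph.CharTwoMain
import Cfsg.Agent.Lib.Helper5.SpinorHyp2

set_option autoImplicit false

/-! Involutory graph automorphisms of `PSL_n`, `n` odd: the case of odd `q`. -/

namespace Cfsg.Agent.Lib.Helper5.PslGraph

open Cfsg Matrix Cfsg.Agent.Lib.Helper9.APSL

section general

/-- centralizers (inside a subgroup `D`) of `D`-conjugate elements are isomorphic -/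
theorem cent_equiv_of_isConjUnder {X : Type*} [Group X] (D : Subgroup X) {x y : X}
    (h : IsConjUnder D x y) :
    Nonempty (↥(D ⊓ Subgroup.centralizer {x}) ≃* ↥(D ⊓ Subgroup.centralizer {y})) := by
  obtain ⟨α, hα, rfl⟩ := h
  refine ⟨{
    toFun := fun d => ⟨α * d.1 * α⁻¹, D.mul_mem (D.mul_mem hα d.2.1) (D.inv_mem hα), by
      have h := Subgroup.mem_centralizer_singleton_iff.mp d.2.2
      refine Subgroup.mem_centralizer_singleton_iff.mpr ?_
      calc α * d.1 * α⁻¹ * (α * x * α⁻¹) = α * (d.1 * x) * α⁻¹ := by group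
        _ = α * (x * d.1) * α⁻¹ := by rw [h]
        _ = α * x * α⁻¹ * (α * d.1 * α⁻¹) := by group⟩
    invFun := fun e => ⟨α⁻¹ * e.1 * α, D.mul_mem (D.mul_mem (D.inv_mem hα) e.2.1) hα, by
      have h := Subgroup.mem_centralizer_singleton_iff.mp e.2.2
      refine Subgroup.mem_centralizer_singleton_iff.mpr ?_
      calc α⁻¹ * e.1 * α * x = α⁻¹ * (e.1 * (α * x * α⁻¹)) * α := by group
        _ = α⁻¹ * (α * x * α⁻¹ * e.1) * α := by rw [h]
        _ = x * (α⁻¹ * e.1 * α) := by group⟩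
    left_inv := fun d => by
      apply Subtype.ext
      show α⁻¹ * (α * d.1 * α⁻¹) * α = d.1
      group
    right_inv := fun e => by
      apply Subtype.ext
      show α * (α⁻¹ * e.1 * α) * α⁻¹ = e.1
      group
    map_mul' := fun d₁ d₂ => by
      apply Subtype.ext
      show α * (d₁.1 * d₂.1) * α⁻¹ = α * d₁.1 * α⁻¹ * (α * d₂.1 * α⁻¹)
      group }⟩

end general

section oddform
variable {F : Type*} [Field F]

/-- the form `d x₀² + Σ xᵢ yᵢ` as a bundled quadratic form -/
noncomputable def oddFormD (m : ℕ) (d : F) : QuadraticForm F (Unit ⊕ (Fin m ⊕ Fin m) → F) :=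
  d • QuadraticMap.proj (Sum.inl ()) (Sum.inl ()) +
    ∑ i : Fin m, QuadraticMap.proj (Sum.inr (Sum.inl i)) (Sum.inr (Sum.inr i))

theorem oddFormD_apply (m : ℕ) (d : F) (v : Unit ⊕ (Fin m ⊕ Fin m) → F) :
    oddFormD m d v = d * (v (Sum.inl ()) * v (Sum.inl ())) +
      ∑ i : Fin m, v (Sum.inr (Sum.inl i)) * v (Sum.inr (Sum.inr i)) := by
  simp [oddFormD]

theorem polar_oddFormD (m : ℕ) (d : F) (u v : Unit ⊕ (Fin m ⊕ Fin m) → F) :
    QuadraticMap.polar (oddFormD m d) u v = 2 * d * (u (Sum.inl ()) * v (Sum.inl ())) +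
      ∑ i : Fin m, (u (Sum.inr (Sum.inl i)) * v (Sum.inr (Sum.inr i)) +
        v (Sum.inr (Sum.inl i)) * u (Sum.inr (Sum.inr i))) := by
  simp only [QuadraticMap.polar, oddFormD_apply, Pi.add_apply]
  have h2 : ∑ i : Fin m, (u (Sum.inr (Sum.inl i)) * v (Sum.inr (Sum.inr i)) +
        v (Sum.inr (Sum.inl i)) * u (Sum.inr (Sum.inr i))) =
      ∑ i : Fin m, (u (Sum.inr (Sum.inl i)) + v (Sum.inr (Sum.inl i))) *
        (u (Sum.inr (Sum.inr i)) + v (Sum.inr (Sum.inr i))) -
      ∑ i : Fin m, u (Sum.inr (Sum.inl i)) * u (Sum.inr (Sum.inr i)) -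
      ∑ i : Fin m, v (Sum.inr (Sum.inl i)) * v (Sum.inr (Sum.inr i)) := by
    rw [← Finset.sum_sub_distrib, ← Finset.sum_sub_distrib]
    apply Finset.sum_congr rfl
    intro i _
    ring
  rw [h2]
  ring

end oddform

section gramq
variable {F : Type*} [Field F] {ι : Type} [Fintype ι] [DecidableEq ι]

/-- the Gram matrix of the polar form of a quadratic form on `F^ι` -/
noncomputable def gramQ (Q : QuadraticForm F (ι → F)) : Matrix ι ι F :=
  LinearMap.BilinForm.toMatrix' (QuadraticMap.polarBilin Q)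

theorem bf_gramQ (Q : QuadraticForm F (ι → F)) (u v : ι → F) :
    bf (gramQ Q) u v = QuadraticMap.polar Q u v := by
  have h := Matrix.toBilin'_toMatrix' (QuadraticMap.polarBilin Q)
  have h1 := LinearMap.congr_fun₂ h u v
  rw [Matrix.toBilin'_apply', QuadraticMap.polarBilin_apply_apply] at h1
  exact h1

theorem gramQ_transpose (Q : QuadraticForm F (ι → F)) : (gramQ Q)ᵀ = gramQ Q := by
  apply bf_ext
  intro u v
  rw [bf_transpose, bf_gramQ, bf_gramQ, QuadraticMap.polar_comm]

theorem det_gramQ_ne_zero (Q : QuadraticForm F (ι → F))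
    (hQ : (QuadraticMap.polarBilin Q).Nondegenerate) : (gramQ Q).det ≠ 0 := by
  rw [← Matrix.nondegenerate_iff_det_ne_zero]
  exact LinearMap.BilinForm.Nondegenerate.toMatrix' hQ

theorem polar_self_eq (Q : QuadraticForm F (ι → F)) (v : ι → F) :
    QuadraticMap.polar Q v v = 2 * Q v := by
  rw [QuadraticMap.polar_self, two_smul, two_mul]

/-- the centralizer of the representative attached to a nondegenerate quadratic form -/
theorem cent_rep_quad {n : ℕ} (hn : 2 ≤ n) (h2 : (2 : F) ≠ 0) (Q : QuadraticForm F (ι → F))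
    (hQ : (QuadraticMap.polarBilin Q).Nondegenerate) (e : ι ≃ Fin n) :
    Nonempty (↥(Cfsg.inndiagPSL n F ⊓
      Subgroup.centralizer {gB (repGL e (gramQ Q) (det_gramQ_ne_zero Q hQ))}) ≃*
        Cfsg.PGO F ⇑Q) := by
  obtain ⟨e1⟩ := cent_rep_equiv hn e (gramQ Q) (det_gramQ_ne_zero Q hQ)
  have h : Geo.similarityGroup (F := F) (bf (gramQ Q)) =
      Geo.quadSimilarityGroup (F := F) ⇑Q := by
    apply similarityGroup_eq_quadSimilarityGroup h2
    · intro u v
      rw [bf_gramQ]
      rfl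
    · intro v
      rw [bf_gramQ, polar_self_eq]
  obtain ⟨e2⟩ := projQuot_congr_eq h
  exact ⟨e1.trans e2⟩

end gramq

section oddclass
variable {F : Type*} [Field F] {n : ℕ}

local notation "Mn" => Matrix (Fin n) (Fin n) F
local notation "GLn" => GL (Fin n) F

open Cfsg.Agent.Lib.Helper5.SpinorHyp2 (oddForm oddForm_apply coe_oddForm polar_oddForm
  oddForm_nondegenerate)

/-- a quadratic form with an orthogonal vector and hyperbolic pairs, in coordinates -/
theorem eq_oddFormD_of_basis {V : Type*} [AddCommGroup V] [Module F V] (Q : QuadraticForm F V)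
    {m : ℕ} (b : Module.Basis (Unit ⊕ (Fin m ⊕ Fin m)) F V)
    (h0 : ∀ i, QuadraticMap.polar ⇑Q (b (Sum.inl ())) (b (Sum.inr (Sum.inl i))) = 0 ∧
      QuadraticMap.polar ⇑Q (b (Sum.inl ())) (b (Sum.inr (Sum.inr i))) = 0)
    (h1 : ∀ i, Q (b (Sum.inr (Sum.inl i))) = 0 ∧ Q (b (Sum.inr (Sum.inr i))) = 0)
    (h2 : ∀ i j, QuadraticMap.polar ⇑Q (b (Sum.inr (Sum.inl i))) (b (Sum.inr (Sum.inr j))) =
      if i = j then 1 else 0)
    (h3 : ∀ i j, QuadraticMap.polar ⇑Q (b (Sum.inr (Sum.inl i))) (b (Sum.inr (Sum.inl j))) = 0 ∧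
      QuadraticMap.polar ⇑Q (b (Sum.inr (Sum.inr i))) (b (Sum.inr (Sum.inr j))) = 0) :
    ∀ v, Q v = oddFormD m (Q (b (Sum.inl ()))) (b.equivFun v) := by
  classical
  obtain ⟨d, hd⟩ : ∃ d, d = Q (b (Sum.inl ())) := ⟨_, rfl⟩
  rw [← hd]
  have : Q = (oddFormD m d).comp b.equivFun.toLinearMap := by
    apply Cfsg.Agent.S2619.unique_aux b
    · apply LinearMap.ext_basis b b
      intro j l
      simp only [QuadraticMap.polarBilin_apply_apply]
      have hc : QuadraticMap.polar
          ((oddFormD m d).comp b.equivFun.toLinearMap) (b j) (b l) =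
          QuadraticMap.polar (oddFormD m d) (Pi.single j 1)
            (Pi.single l 1) := by
        simp only [QuadraticMap.polar, QuadraticMap.comp_apply, LinearEquiv.coe_coe, map_add,
          Cfsg.Agent.Lib.Helper5.equivFun_basis]
      rw [hc, polar_oddFormD]
      rcases j with ⟨⟩ | j | j <;> rcases l with ⟨⟩ | l | l
      · rw [QuadraticMap.polar_self, two_smul, ← hd]
        simp
        ring
      · rw [(h0 l).1]
        simp
      · rw [(h0 l).2]
        simp
      · rw [QuadraticMap.polar_comm, (h0 j).1]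
        simp
      · rw [(h3 j l).1]
        simp
      · rw [h2]
        simp [Pi.single_apply, eq_comm]
      · rw [QuadraticMap.polar_comm, (h0 j).2]
        simp
      · rw [QuadraticMap.polar_comm, h2]
        simp [Pi.single_apply, eq_comm]
      · rw [(h3 j l).2]
        simp
    · intro j
      simp only [QuadraticMap.comp_apply, LinearEquiv.coe_coe,
        Cfsg.Agent.Lib.Helper5.equivFun_basis, oddFormD_apply]
      rcases j with ⟨⟩ | j | j
      · rw [← hd]
        simp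
      · rw [(h1 j).1]
        simp
      · rw [(h1 j).2]
        simp
  intro v
  conv_lhs => rw [this]
  rfl

/-- scaling the second halves of the hyperbolic pairs -/
def scaleMap (m : ℕ) (c : F) :
    (Unit ⊕ (Fin m ⊕ Fin m) → F) →ₗ[F] (Unit ⊕ (Fin m ⊕ Fin m) → F) where
  toFun x := Sum.elim (fun i => x (Sum.inl i))
    (Sum.elim (fun i => x (Sum.inr (Sum.inl i))) (fun i => c * x (Sum.inr (Sum.inr i))))
  map_add' x y := by
    funext j
    rcases j with j | j | j
    · simp
    · simp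
    · simp only [Sum.elim_inr, Pi.add_apply]
      ring
  map_smul' a x := by
    funext j
    rcases j with j | j | j
    · simp
    · simp
    · simp only [Sum.elim_inr, Pi.smul_apply, smul_eq_mul, RingHom.id_apply]
      ring

theorem oddForm_scaleMap (m : ℕ) (d : F) (hd : d ≠ 0) (x : Unit ⊕ (Fin m ⊕ Fin m) → F) :
    oddForm m F (scaleMap m d⁻¹ x) = d⁻¹ * oddFormD m d x := by
  rw [oddForm_apply, oddFormD_apply]
  unfold Cfsg.quadFormOdd scaleMap
  simp only [LinearMap.coe_mk, AddHom.coe_mk, Sum.elim_inl, Sum.elim_inr]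
  rw [mul_add, ← mul_assoc, inv_mul_cancel₀ hd, one_mul, Finset.mul_sum, sq]
  congr 1
  apply Finset.sum_congr rfl
  intro i _
  ring

/-- **classification in odd dimension, odd `q`**: every symmetric invertible matrix gives a graph
automorphism conjugate to the standard one -/
theorem odd_class [Fintype F] (hq : Odd (Fintype.card F)) {m : ℕ} (hnm : n = 2 * m + 1)
    (hn : 2 ≤ n) (eo : Unit ⊕ (Fin m ⊕ Fin m) ≃ Fin n) (S : GLn)
    (hS : (S : Mn)ᵀ = (S : Mn)) :
    IsConjUnder (Cfsg.inndiagPSL n F) (gB S)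
      (gB (repGL eo (gramQ (oddForm m F)) (det_gramQ_ne_zero _
        (oddForm_nondegenerate (Cfsg.Agent.Lib.Helper5.two_ne_zero_of_odd_card hq) m)))) := by
  have h2 : (2 : F) ≠ 0 := Cfsg.Agent.Lib.Helper5.two_ne_zero_of_odd_card hq
  obtain ⟨Q, hQv, hQnd⟩ := exists_quadForm_of_symm h2 S hS
  have hV : Module.finrank F (Fin n → F) = 2 * m + 1 := by
    rw [Module.finrank_fin_fun, hnm]
  obtain ⟨b, hd, g0, g1, g2, g3⟩ := Cfsg.Agent.S2618.result hV Q hQnd
  have hQb := eq_oddFormD_of_basis Q b g0 g1 g2 g3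
  obtain ⟨d, hdd⟩ : ∃ d, d = Q (b (Sum.inl ())) := ⟨_, rfl⟩
  rw [← hdd] at hQb hd
  have hd2 : (2 : F) * d⁻¹ ≠ 0 := mul_ne_zero h2 (inv_ne_zero hd)
  apply isConjUnder_gB_of_linearMap_diag hn h2 S _ hS
    (repGL_transpose eo _ _ (gramQ_transpose _))
    ((LinearMap.funLeft F F eo.symm) ∘ₗ (scaleMap m d⁻¹) ∘ₗ
      b.equivFun.toLinearMap) (2 * d⁻¹) hd2
  intro v
  rw [repGL_coe, bf_reindex]
  have h5 : (((LinearMap.funLeft F F eo.symm) ∘ₗ (scaleMap m d⁻¹) ∘ₗ
      b.equivFun.toLinearMap) v) ∘ eo = scaleMap m d⁻¹ (b.equivFun v) := by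
    funext i
    simp [LinearMap.funLeft_apply]
  rw [h5, bf_gramQ, polar_self_eq, oddForm_scaleMap m _ hd, ← hQb, hQv]
  ring

end oddclass

end Cfsg.Agent.Lib.Helper5.PslGraph
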