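import Mathlib
import Cfsg.Prelude.Def_LieTypeDatum
import Cfsg.Agent.S0304
import Cfsg.Agent.Lib.Helper5.PslGraph.OddDim

set_option autoImplicit false

/-! Involutory graph automorphisms of `PSL_n`, `n` odd: the case of even `q`. -/

namespace Cfsg.Agent.Lib.Helper5.PslGraph

open Cfsg Matrix Cfsg.Agent.Lib.Helper9.APSL

section nonalt
variable {F : Type*} [Field F] {n : ℕ}

/-- in odd dimension an invertible matrix is not alternating -/
theorem exists_nonalt_of_odd {m : ℕ} (hnm : n = 2 * m + 1) (S : GL (Fin n) F) :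
    ∃ v, bf (S : Matrix (Fin n) (Fin n) F) v v ≠ 0 := by
  by_contra hcon
  push Not at hcon
  let B : LinearMap.BilinForm F (Fin n → F) := Matrix.toBilin' (S : Matrix (Fin n) (Fin n) F)
  have hB : ∀ u v, B u v = bf (S : Matrix (Fin n) (Fin n) F) u v :=
    fun u v => Matrix.toBilin'_apply' _ u v
  have hA : B.IsAlt := by
    intro v
    rw [hB]
    exact hcon v
  obtain ⟨m', k, b, g1, g2, g3, g4, hdim, hk⟩ :=
    Cfsg.Agent.Lib.Helper5.AltForm.exists_darboux_basis B hA
  have hker : LinearMap.ker B = ⊥ := by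
    rw [LinearMap.ker_eq_bot']
    intro x hx
    apply bf_left_nondeg S x
    intro y
    rw [← hB, hx]
    rfl
  have hk0 : k = 0 := by
    rw [hk, hker, finrank_bot]
  subst hk0
  rw [Module.finrank_fin_fun] at hdim
  omega

end nonalt

section blockform
variable {F : Type*} [Field F] (m : ℕ)

local notation "I3" => Unit ⊕ (Fin m ⊕ Fin m)
local notation "M3" => Matrix (Unit ⊕ (Fin m ⊕ Fin m)) (Unit ⊕ (Fin m ⊕ Fin m)) F
local notation "M2" => Matrix (Fin m ⊕ Fin m) (Fin m ⊕ Fin m) F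
local notation "V3" => (Unit ⊕ (Fin m ⊕ Fin m) → F)

/-- the matrix `1 ⊕ A` -/
def blockMat (A : M2) : M3 := Matrix.fromBlocks 1 0 0 A

theorem blockMat_mulVec (A : M2) (u : V3) :
    blockMat m A *ᵥ u = Sum.elim (u ∘ Sum.inl) (A *ᵥ (u ∘ Sum.inr)) := by
  unfold blockMat
  rw [Matrix.fromBlocks_mulVec, one_mulVec, zero_mulVec, zero_mulVec, add_zero, zero_add]

theorem blockMat_mul (A B : M2) : blockMat m A * blockMat m B = blockMat m (A * B) := by
  unfold blockMat
  rw [Matrix.fromBlocks_multiply]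
  simp

theorem blockMat_one : blockMat m (1 : M2) = 1 := by
  unfold blockMat
  exact Matrix.fromBlocks_one

/-- the Gram matrix `1 ⊕ J` -/
def gramB : M3 := blockMat m (Matrix.J (Fin m) F)

theorem bf_gramB (u v : V3) :
    bf (gramB (F := F) m) u v =
      u (Sum.inl ()) * v (Sum.inl ()) + sympForm m F (u ∘ Sum.inr) (v ∘ Sum.inr) := by
  unfold bf gramB sympForm
  rw [blockMat_mulVec]
  simp only [dotProduct, Fintype.sum_sum_type, Sum.elim_inl, Sum.elim_inr, Function.comp_apply,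
    Finset.univ_unique, Finset.sum_singleton]

theorem det_gramB_ne_zero : (gramB (F := F) m).det ≠ 0 := by
  unfold gramB blockMat
  rw [Matrix.det_fromBlocks_zero₂₁, Matrix.det_one, one_mul]
  intro h
  have := Matrix.J_det_mul_J_det (Fin m) F
  rw [h, zero_mul] at this
  exact zero_ne_one this

theorem gramB_transpose [CharP F 2] : (gramB (F := F) m)ᵀ = gramB m := by
  unfold gramB blockMat
  rw [Matrix.fromBlocks_transpose, Matrix.transpose_one, Matrix.transpose_zero,
    Matrix.transpose_zero, Matrix.J_transpose]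
  congr 1
  ext i j
  rw [Matrix.neg_apply, CharTwo.neg_eq]

/-- `h ↦ 1 ⊕ h` on the symplectic group, as matrices -/
noncomputable def spBlockMat : ↥(Matrix.symplecticGroup (Fin m) F) →* M3 where
  toFun h := blockMat m (h : M2)
  map_one' := blockMat_one m
  map_mul' a b := (blockMat_mul m _ _).symm

/-- `h ↦ 1 ⊕ h` on the symplectic group -/
noncomputable def spBlock : ↥(Matrix.symplecticGroup (Fin m) F) →* GL I3 F :=
  (spBlockMat m).toHomUnits

theorem spBlock_coe (h : ↥(Matrix.symplecticGroup (Fin m) F)) :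
    ((spBlock m h : GL I3 F) : M3) = blockMat m (h : M2) := rfl

theorem spBlock_mem (h : ↥(Matrix.symplecticGroup (Fin m) F)) :
    spBlock m h ∈ Geo.similarityGroup (F := F) (bf (gramB (F := F) m)) := by
  refine ⟨1, fun u v => ?_⟩
  rw [spBlock_coe, bf_gramB, bf_gramB, blockMat_mulVec, blockMat_mulVec, Units.val_one, one_mul]
  have h1 : ∀ w : V3, (Sum.elim (w ∘ Sum.inl) ((h : M2) *ᵥ (w ∘ Sum.inr)) : V3) ∘ Sum.inr =
      (h : M2) *ᵥ (w ∘ Sum.inr) := fun w => rfl
  rw [h1, h1, Cfsg.Agent.Lib.Helper5.SympTv.sympForm_mulVec m h.2]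
  rfl

/-- **structure of the similitudes of `x₀y₀ + ⟨x', y'⟩`** in characteristic two -/
theorem sim_gramB_structure [CharP F 2] (g : GL I3 F) (l : Fˣ)
    (hg : ∀ u v, bf (gramB (F := F) m) ((g : M3) *ᵥ u) ((g : M3) *ᵥ v) =
      ((l : F) * l) * bf (gramB (F := F) m) u v) :
    ∃ h : ↥(Matrix.symplecticGroup (Fin m) F), (g : M3) = (l : F) • blockMat m (h : M2) := by
  have hl0 : (l : F) ≠ 0 := l.ne_zero
  -- (a) the first coordinate is scaled
  have ha : ∀ u : V3, ((g : M3) *ᵥ u) (Sum.inl ()) = (l : F) * u (Sum.inl ()) := by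
    intro u
    have h1 := hg u u
    rw [bf_gramB, bf_gramB, Cfsg.Agent.Lib.Helper5.SympTv.sympForm_self,
      Cfsg.Agent.Lib.Helper5.SympTv.sympForm_self, add_zero, add_zero] at h1
    apply char_two_eq_of_mul_self_eq
    rw [h1]
    ring
  -- (b) the first basis vector is an eigenvector
  have hb : ((g : M3) *ᵥ (Pi.single (Sum.inl ()) 1 : V3)) ∘ Sum.inr = 0 := by
    apply Cfsg.Agent.Lib.Helper5.SympBridge.eq_zero_of_sympForm_right
    intro w
    obtain ⟨v, hv⟩ : ∃ v : V3, (g : M3) *ᵥ v = (Sum.elim (0 : Unit → F) w : V3) :=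
      ⟨((g⁻¹ : GL I3 F) : M3) *ᵥ (Sum.elim (0 : Unit → F) w : V3), by
        rw [mulVec_mulVec, ← Units.val_mul, mul_inv_cancel, Units.val_one, one_mulVec]⟩
    have h1 := hg (Pi.single (Sum.inl ()) 1 : V3) v
    have h2 := ha v
    rw [hv, Sum.elim_inl, Pi.zero_apply] at h2
    rw [bf_gramB, bf_gramB, hv, Sum.elim_inl, Pi.zero_apply, mul_zero, zero_add] at h1
    have h3 : (Sum.elim (0 : Unit → F) w : V3) ∘ Sum.inr = w := rfl
    rw [h3] at h1
    rw [h1]
    have h4 : (Pi.single (Sum.inl ()) 1 : V3) ∘ Sum.inr = 0 := by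
      funext i
      simp
    rw [h4]
    have h5 : sympForm m F 0 (v ∘ Sum.inr) = 0 := by
      unfold sympForm
      rw [zero_dotProduct]
    rw [h5, add_zero, Pi.single_eq_same, one_mul, mul_assoc, ← h2, mul_zero]
  -- (c) the lower right block
  obtain ⟨A, hA⟩ : ∃ A : M2, A = (g : M3).toBlocks₂₂ := ⟨_, rfl⟩
  have hc : ∀ y : Fin m ⊕ Fin m → F,
      ((g : M3) *ᵥ (Sum.elim (0 : Unit → F) y : V3)) ∘ Sum.inr = A *ᵥ y := by
    intro y
    conv_lhs => rw [← Matrix.fromBlocks_toBlocks (g : M3), Matrix.fromBlocks_mulVec]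
    rw [hA]
    funext i
    simp
  have hAs : ∀ y z, sympForm m F (A *ᵥ y) (A *ᵥ z) = ((l : F) * l) * sympForm m F y z := by
    intro y z
    have h1 := hg (Sum.elim (0 : Unit → F) y : V3) (Sum.elim (0 : Unit → F) z : V3)
    rw [bf_gramB, bf_gramB, ha, ha, hc, hc] at h1
    simp only [Sum.elim_inl, Pi.zero_apply, mul_zero, zero_add] at h1
    exact h1
  refine ⟨⟨((l⁻¹ : Fˣ) : F) • A, ?_⟩, ?_⟩
  · rw [Cfsg.Agent.Lib.Helper5.SympBridge.mem_symplectic_iff]
    intro u v
    rw [smul_mulVec, smul_mulVec, Cfsg.Agent.Lib.Helper5.SympTv.sympForm_smul_left,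
      Cfsg.Agent.Lib.Helper5.SympTv.sympForm_smul_right, hAs, ← mul_assoc, ← mul_assoc]
    have h1 : ((l⁻¹ : Fˣ) : F) * (l : F) = 1 := by
      rw [← Units.val_mul, inv_mul_cancel, Units.val_one]
    have : ((l⁻¹ : Fˣ) : F) * ((l⁻¹ : Fˣ) : F) * (l : F) * (l : F) = 1 := by
      calc ((l⁻¹ : Fˣ) : F) * ((l⁻¹ : Fˣ) : F) * (l : F) * (l : F)
          = (((l⁻¹ : Fˣ) : F) * (l : F)) * (((l⁻¹ : Fˣ) : F) * (l : F)) := by ring
        _ = 1 := by rw [h1, one_mul]
    linear_combination (sympForm m F u v) * this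
  · have h1 : (l : F) * ((l⁻¹ : Fˣ) : F) = 1 := by
      rw [← Units.val_mul, mul_inv_cancel, Units.val_one]
    ext i j
    have hij : (g : M3) i j = ((g : M3) *ᵥ (Pi.single j 1 : V3)) i := by
      rw [Matrix.mulVec_single_one]
      rfl
    rw [Matrix.smul_apply, smul_eq_mul]
    rcases i with ⟨⟩ | i
    · rw [hij, ha]
      congr 1
      rcases j with ⟨⟩ | j
      · simp [blockMat]
      · simp [blockMat]
    · rcases j with ⟨⟩ | j
      · have := congrFun hb i
        rw [Function.comp_apply, Pi.zero_apply] at this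
        rw [hij, this]
        simp [blockMat]
      · have h2 : (g : M3) (Sum.inr i) (Sum.inr j) = A i j := by
          rw [hA]
          rfl
        rw [h2]
        show A i j = (l : F) * (blockMat m (((l⁻¹ : Fˣ) : F) • A)) (Sum.inr i) (Sum.inr j)
        unfold blockMat
        rw [Matrix.fromBlocks_apply₂₂, Matrix.smul_apply, smul_eq_mul, ← mul_assoc, h1, one_mul]

/-- **the projective similitude group of `x₀y₀ + ⟨x', y'⟩` is the symplectic group**, in
characteristic two -/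
theorem projQuot_gramB_equiv [Fintype F] [CharP F 2] :
    Nonempty (Cfsg.projQuot (Geo.similarityGroup (F := F) (bf (gramB (F := F) m))) ≃*
      ↥(Matrix.symplecticGroup (Fin m) F)) := by
  obtain ⟨ψ₁, hψ₁⟩ : ∃ ψ₁ : ↥(Matrix.symplecticGroup (Fin m) F) →*
      ↥(Geo.similarityGroup (F := F) (bf (gramB (F := F) m))),
      ∀ h, ((ψ₁ h : ↥(Geo.similarityGroup (F := F) (bf (gramB (F := F) m)))) : GL I3 F) =
        spBlock m h :=
    ⟨(spBlock m).codRestrict _ (spBlock_mem m), fun _ => rfl⟩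
  obtain ⟨ψ, hψ⟩ : ∃ ψ : ↥(Matrix.symplecticGroup (Fin m) F) →*
      Cfsg.projQuot (Geo.similarityGroup (F := F) (bf (gramB (F := F) m))),
      ∀ h, ψ h = QuotientGroup.mk (ψ₁ h) := ⟨(QuotientGroup.mk' _).comp ψ₁, fun _ => rfl⟩
  have hinj : Function.Injective ψ := by
    rw [injective_iff_map_eq_one]
    intro h hh
    rw [hψ, QuotientGroup.eq_one_iff, Subgroup.mem_subgroupOf, hψ₁, Geo.mem_scalars_iff] at hh
    obtain ⟨c, hc⟩ := hh
    rw [spBlock_coe] at hc
    have hc1 : (c : F) = 1 := by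
      have := congrFun (congrFun hc (Sum.inl ())) (Sum.inl ())
      simp [blockMat] at this
      exact this.symm
    apply Subtype.ext
    ext i j
    have := congrFun (congrFun hc (Sum.inr i)) (Sum.inr j)
    rw [hc1, one_smul] at this
    unfold blockMat at this
    rw [Matrix.fromBlocks_apply₂₂] at this
    rw [this]
    show (1 : M3) (Sum.inr i) (Sum.inr j) = (1 : M2) i j
    simp [Matrix.one_apply]
  have hsurj : Function.Surjective ψ := by
    intro y
    induction y using QuotientGroup.induction_on with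
    | H g =>
      obtain ⟨c, hc⟩ := g.2
      obtain ⟨l, hl⟩ := exists_mul_self_char_two (c : F)
      have hl0 : l ≠ 0 := by
        rintro rfl
        rw [mul_zero] at hl
        exact c.ne_zero hl.symm
      obtain ⟨h, hh⟩ := sim_gramB_structure m (g : GL I3 F) (Units.mk0 l hl0) (by
        intro u v
        rw [Units.val_mk0, hl]
        exact hc u v)
      refine ⟨h, ?_⟩
      rw [hψ]
      apply QuotientGroup.eq.mpr
      rw [Subgroup.mem_subgroupOf, Geo.mem_scalars_iff]
      refine ⟨Units.mk0 l hl0, ?_⟩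
      rw [Subgroup.coe_mul, Subgroup.coe_inv, hψ₁, Units.val_mul]
      have h3 : ((spBlock m h)⁻¹ : GL I3 F) = spBlock m h⁻¹ := (map_inv _ _).symm
      rw [h3, spBlock_coe, hh, Units.val_mk0, Matrix.mul_smul, blockMat_mul]
      congr 1
      have h4 : ((h⁻¹ * h : ↥(Matrix.symplecticGroup (Fin m) F)) : M2) = 1 := by
        rw [inv_mul_cancel]
        rfl
      rw [show ((h⁻¹ : ↥(Matrix.symplecticGroup (Fin m) F)) : M2) * (h : M2) =
        ((h⁻¹ * h : ↥(Matrix.symplecticGroup (Fin m) F)) : M2) from rfl, h4, blockMat_one]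
  exact ⟨(MulEquiv.ofBijective ψ ⟨hinj, hsurj⟩).symm⟩

end blockform

section pgo
variable {F : Type*} [Field F] (m : ℕ)

open Cfsg.Agent.Lib.Helper5.SpinorHyp2 (oddForm coe_oddForm)

local notation "I3" => Unit ⊕ (Fin m ⊕ Fin m)
local notation "M3" => Matrix (Unit ⊕ (Fin m ⊕ Fin m)) (Unit ⊕ (Fin m ⊕ Fin m)) F
local notation "V3" => (Unit ⊕ (Fin m ⊕ Fin m) → F)

theorem quadFormOdd_smul (c : F) (v : V3) :
    Cfsg.quadFormOdd m F (c • v) = c * c * Cfsg.quadFormOdd m F v := by
  rw [← coe_oddForm, QuadraticMap.map_smul, smul_eq_mul]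

theorem quadFormOdd_single : Cfsg.quadFormOdd m F (Pi.single (Sum.inl ()) 1 : V3) = 1 := by
  unfold Cfsg.quadFormOdd
  simp

/-- the scalar matrices as elements of the general linear group -/
noncomputable def scalarGL (c : Fˣ) : GL I3 F :=
  Units.map (Matrix.scalar I3 : F →+* M3).toMonoidHom c

theorem scalarGL_coe (c : Fˣ) : ((scalarGL m c : GL I3 F) : M3) = (c : F) • (1 : M3) := by
  unfold scalarGL
  rw [Units.coe_map, Matrix.smul_one_eq_diagonal]
  rfl

/-- **in characteristic two the projective conformal orthogonal group in odd dimension is the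
orthogonal group** -/
theorem pgo_odd_equiv [Fintype F] [CharP F 2] :
    Nonempty (Cfsg.PGO F (Cfsg.quadFormOdd m F) ≃*
      ↥(Cfsg.isometryGroup F (Cfsg.quadFormOdd m F))) := by
  have hle : Cfsg.isometryGroup F (Cfsg.quadFormOdd m F) ≤
      Geo.quadSimilarityGroup (F := F) (Cfsg.quadFormOdd m F) := by
    intro g hg
    refine ⟨1, fun v => ?_⟩
    rw [Units.val_one, one_mul]
    exact hg v v
  obtain ⟨ψ, hψ⟩ : ∃ ψ : ↥(Cfsg.isometryGroup F (Cfsg.quadFormOdd m F)) →*
      Cfsg.PGO F (Cfsg.quadFormOdd m F),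
      ∀ g, ψ g = QuotientGroup.mk (Subgroup.inclusion hle g) :=
    ⟨(QuotientGroup.mk' _).comp (Subgroup.inclusion hle), fun _ => rfl⟩
  have hinj : Function.Injective ψ := by
    rw [injective_iff_map_eq_one]
    intro g hg
    rw [hψ, QuotientGroup.eq_one_iff, Subgroup.mem_subgroupOf, Subgroup.coe_inclusion,
      Geo.mem_scalars_iff] at hg
    obtain ⟨c, hc⟩ := hg
    have h1 : Cfsg.quadFormOdd m F (((g : GL I3 F) : M3) *ᵥ (Pi.single (Sum.inl ()) 1 : V3)) =
        Cfsg.quadFormOdd m F (Pi.single (Sum.inl ()) 1 : V3) := g.2 _ (Pi.single (Sum.inl ()) 1)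
    rw [hc, smul_mulVec, one_mulVec, quadFormOdd_smul, quadFormOdd_single, mul_one] at h1
    have hc1 : (c : F) = 1 := char_two_eq_one_of_mul_self _ h1
    apply Subtype.ext
    apply Units.ext
    rw [hc, hc1, one_smul]
    rfl
  have hsurj : Function.Surjective ψ := by
    intro y
    induction y using QuotientGroup.induction_on with
    | H g =>
      obtain ⟨c, hc⟩ := g.2
      obtain ⟨l, hl⟩ := exists_mul_self_char_two (c : F)
      have hl0 : l ≠ 0 := by
        rintro rfl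
        rw [mul_zero] at hl
        exact c.ne_zero hl.symm
      obtain ⟨lu, hlu⟩ : ∃ lu : Fˣ, (lu : F) = l := ⟨Units.mk0 l hl0, rfl⟩
      have h1 : ((lu⁻¹ : Fˣ) : F) * (lu : F) = 1 := by
        rw [← Units.val_mul, inv_mul_cancel, Units.val_one]
      have hmem : scalarGL m lu⁻¹ * (g : GL I3 F) ∈
          Cfsg.isometryGroup F (Cfsg.quadFormOdd m F) := by
        intro u _
        show Cfsg.quadFormOdd m F (((scalarGL m lu⁻¹ * (g : GL I3 F) : GL I3 F) : M3) *ᵥ u) =
          Cfsg.quadFormOdd m F u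
        rw [Units.val_mul, scalarGL_coe, Matrix.smul_mul, Matrix.one_mul, smul_mulVec,
          quadFormOdd_smul, hc, ← hl, ← hlu]
        have : ((lu⁻¹ : Fˣ) : F) * ((lu⁻¹ : Fˣ) : F) * ((lu : F) * (lu : F)) = 1 := by
          calc ((lu⁻¹ : Fˣ) : F) * ((lu⁻¹ : Fˣ) : F) * ((lu : F) * (lu : F))
              = (((lu⁻¹ : Fˣ) : F) * (lu : F)) * (((lu⁻¹ : Fˣ) : F) * (lu : F)) := by ring
            _ = 1 := by rw [h1, one_mul]
        rw [← mul_assoc, this, one_mul]
      refine ⟨⟨_, hmem⟩, ?_⟩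
      rw [hψ]
      symm
      apply QuotientGroup.eq.mpr
      rw [Subgroup.mem_subgroupOf, Geo.mem_scalars_iff]
      refine ⟨lu⁻¹, ?_⟩
      rw [Subgroup.coe_mul, Subgroup.coe_inv, Subgroup.coe_inclusion, Units.val_mul]
      show (((g : GL I3 F)⁻¹ : GL I3 F) : M3) *
        ((scalarGL m lu⁻¹ * (g : GL I3 F) : GL I3 F) : M3) = _
      rw [Units.val_mul, scalarGL_coe, Matrix.smul_mul, Matrix.one_mul, Matrix.mul_smul,
        ← Units.val_mul, inv_mul_cancel, Units.val_one]
  exact ⟨(MulEquiv.ofBijective ψ ⟨hinj, hsurj⟩).symm⟩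

end pgo

section final
variable {F : Type*} [Field F] {n : ℕ}

local notation "Mn" => Matrix (Fin n) (Fin n) F
local notation "GLn" => GL (Fin n) F

/-- in characteristic two and odd dimension, all symmetric invertible matrices give conjugate
graph automorphisms -/
theorem odd_conj_char_two [Fintype F] [CharP F 2] {m : ℕ} (hnm : n = 2 * m + 1) (hn : 2 ≤ n)
    (S S' : GLn) (hS : (S : Mn)ᵀ = (S : Mn)) (hS' : (S' : Mn)ᵀ = (S' : Mn)) :
    IsConjUnder (Cfsg.inndiagPSL n F) (gB S) (gB S') := by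
  have h1 := nonalt_class hn S hS (exists_nonalt_of_odd hnm S)
  have h3 := nonalt_class hn S' hS' (exists_nonalt_of_odd hnm S')
  exact isConjUnder_trans _ h1 (isConjUnder_symm _ h3)

/-- in characteristic two and odd dimension `2m+1`, the centralizer of an involutory graph
automorphism is `PGO_{2m+1}(q) ≃ Sp_{2m}(q)` -/
theorem odd_cent_char_two [Fintype F] [CharP F 2] {m : ℕ} (hnm : n = 2 * m + 1) (hn : 2 ≤ n)
    (S : GLn) (hS : (S : Mn)ᵀ = (S : Mn)) :
    Nonempty (↥(Cfsg.inndiagPSL n F ⊓ Subgroup.centralizer {gB S}) ≃*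
      Cfsg.PGO F (Cfsg.quadFormOdd m F)) := by
  classical
  have hcp : Fintype.card (Unit ⊕ (Fin m ⊕ Fin m)) = n := by
    rw [Fintype.card_sum, Fintype.card_sum, Fintype.card_fin, Fintype.card_unit]
    omega
  obtain ⟨eo⟩ : Nonempty (Unit ⊕ (Fin m ⊕ Fin m) ≃ Fin n) := ⟨Fintype.equivFinOfCardEq hcp⟩
  obtain ⟨S', hS'⟩ : ∃ S' : GLn, S' = repGL eo (gramB (F := F) m) (det_gramB_ne_zero m) :=
    ⟨_, rfl⟩
  have hS't : (S' : Mn)ᵀ = (S' : Mn) := by
    rw [hS']
    exact repGL_transpose eo _ _ (gramB_transpose m)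
  have hconj := odd_conj_char_two hnm hn S S' hS hS't
  obtain ⟨e0⟩ := cent_equiv_of_isConjUnder _ hconj
  rw [hS'] at e0
  obtain ⟨e1⟩ := cent_rep_equiv hn eo (gramB (F := F) m) (det_gramB_ne_zero m)
  obtain ⟨e2⟩ := projQuot_gramB_equiv (F := F) m
  obtain ⟨e3⟩ := Cfsg.Agent.S0304.result (F := F) m
  obtain ⟨e4⟩ := pgo_odd_equiv (F := F) m
  exact ⟨e0.trans (e1.trans (e2.trans (e3.symm.trans e4.symm)))⟩

end final

end Cfsg.Agent.Lib.Helper5.PslGraph
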