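import Mathlib
import Cfsg.Prelude.Def_LieTypeDatum
import Cfsg.Agent.Lib.Helper5.PslGraph.OddDimTwo

set_option autoImplicit false

/-! Involutory graph automorphisms of `PSL_n`, `n` odd: one class, centralizer `PGO_n(q)`. -/

namespace Cfsg.Agent.Lib.Helper5.PslGraph

open Cfsg Matrix Cfsg.Agent.Lib.Helper9.APSL

section main3
variable {F : Type*} [Field F] {n : ℕ}

local notation "Mn" => Matrix (Fin n) (Fin n) F
local notation "GLn" => GL (Fin n) F
local notation "PSLn" => Matrix.ProjectiveSpecialLinearGroup (Fin n) F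

open Cfsg.Agent.Lib.Helper5.SpinorHyp2 (oddForm coe_oddForm oddForm_nondegenerate)

/-- in odd dimension and odd characteristic there are no invertible skew-symmetric matrices -/
theorem not_skew_of_odd (h2 : (2 : F) ≠ 0) {m : ℕ} (hnm : n = 2 * m + 1) (S : GLn)
    (hS : (S : Mn) = (-1 : F) • (S : Mn)ᵀ) : False := by
  have hd : (S : Mn).det ≠ 0 := by
    have := (Matrix.isUnit_iff_isUnit_det (S : Mn)).mp S.isUnit
    exact this.ne_zero
  have h1 : (S : Mn).det = (-1 : F) ^ n * (S : Mn).det := by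
    conv_lhs => rw [hS]
    rw [Matrix.det_smul, Matrix.det_transpose, Fintype.card_fin]
  have h4 : (-1 : F) ^ n = -1 := by
    rw [hnm, pow_succ, pow_mul, neg_one_sq, one_pow, one_mul]
  rw [h4, neg_one_mul] at h1
  have h3 : (2 : F) * (S : Mn).det = 0 := by linear_combination h1
  rcases mul_eq_zero.mp h3 with h | h
  · exact h2 h
  · exact hd h

/-- **involutory graph automorphisms of `PSL_n`, `n` odd**: a single class under the
inner-diagonal group, with centralizer `PGO_n(q)` -/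
theorem graph_classes_odd_dim [Fintype F] (hn : 3 ≤ n) {m : ℕ} (hnm : n = 2 * m + 1)
    (γ γ' : MulAut PSLn) (hγ : Cfsg.IsGraphAutClassPSL γ) (hγ2 : orderOf γ = 2)
    (hγ' : Cfsg.IsGraphAutClassPSL γ') (hγ'2 : orderOf γ' = 2) :
    Nonempty (↥(Cfsg.inndiagPSL n F ⊓ Subgroup.centralizer {γ}) ≃*
      Cfsg.PGO F (Cfsg.quadFormOdd m F)) ∧ Cfsg.IsConjUnder (Cfsg.inndiagPSL n F) γ γ' := by
  classical
  have hn2 : 2 ≤ n := by omega
  obtain ⟨p, hp⟩ := CharP.exists F
  have hpp : p.Prime := CharP.char_is_prime F p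
  have : Fact p.Prime := ⟨hpp⟩
  obtain ⟨S, rfl⟩ := exists_gB_of_graphAutClass hγ
  obtain ⟨S', rfl⟩ := exists_gB_of_graphAutClass hγ'
  rw [orderOf_gB_eq_two_iff p hn, gB_sq_eq_one_iff hn2] at hγ2 hγ'2
  obtain ⟨c, hc⟩ := hγ2
  obtain ⟨c', hc'⟩ := hγ'2
  have hcc := mul_self_eq_one_of_eq_smul_transpose (by omega) S c hc
  have hcc' := mul_self_eq_one_of_eq_smul_transpose (by omega) S' c' hc'
  by_cases hq : Odd (Fintype.card F)
  · -- odd `q`
    have h2 : (2 : F) ≠ 0 := Cfsg.Agent.Lib.Helper5.two_ne_zero_of_odd_card hq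
    have hsym : ∀ (T : GLn) (d : F), (T : Mn) = d • (T : Mn)ᵀ → d * d = 1 →
        (T : Mn)ᵀ = (T : Mn) := by
      intro T d hd hdd
      rcases mul_self_eq_one_iff.mp hdd with h | h
      · rw [h, one_smul] at hd
        exact hd.symm
      · rw [h] at hd
        exact (not_skew_of_odd h2 hnm T hd).elim
    have hSt := hsym S c hc hcc
    have hS't := hsym S' c' hc' hcc'
    have hcp : Fintype.card (Unit ⊕ (Fin m ⊕ Fin m)) = n := by
      rw [Fintype.card_sum, Fintype.card_sum, Fintype.card_fin, Fintype.card_unit]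
      omega
    obtain ⟨eo⟩ : Nonempty (Unit ⊕ (Fin m ⊕ Fin m) ≃ Fin n) := ⟨Fintype.equivFinOfCardEq hcp⟩
    have h1 := odd_class hq hnm hn2 eo S hSt
    have h3 := odd_class hq hnm hn2 eo S' hS't
    refine ⟨?_, isConjUnder_trans _ h1 (isConjUnder_symm _ h3)⟩
    obtain ⟨e0⟩ := cent_equiv_of_isConjUnder _ h1
    obtain ⟨e1⟩ := cent_rep_quad hn2 h2 (oddForm m F) (oddForm_nondegenerate h2 m) eo
    rw [coe_oddForm] at e1
    exact ⟨e0.trans e1⟩
  · -- even `q`
    have hch : CharP F 2 := by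
      apply ringChar.of_eq
      rw [FiniteField.even_card_iff_char_two]
      have := Nat.not_odd_iff_even.mp hq
      exact Nat.even_iff.mp this
    have hsym : ∀ (T : GLn) (d : F), (T : Mn) = d • (T : Mn)ᵀ → d * d = 1 →
        (T : Mn)ᵀ = (T : Mn) := by
      intro T d hd hdd
      rw [char_two_eq_one_of_mul_self d hdd, one_smul] at hd
      exact hd.symm
    have hSt := hsym S c hc hcc
    have hS't := hsym S' c' hc' hcc'
    exact ⟨odd_cent_char_two hnm hn2 S hSt, odd_conj_char_two hnm hn2 S S' hSt hS't⟩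

end main3

end Cfsg.Agent.Lib.Helper5.PslGraph
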