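import Mathlib
import Cfsg.Prelude.Def_LieTypeDatum
import Cfsg.Agent.Lib.Helper5.PslGraph.SumSq

set_option autoImplicit false

/-! Explicit changes of variables taking the sum of squares to the standard forms. -/

namespace Cfsg.Agent.Lib.Helper5.PslGraph

open Cfsg Matrix

section maps
variable {F : Type*} [Field F]

/-- `(x, y) ↦ (x + i y, x - i y)` -/
def mapOne (ι₀ : Type) (i0 : F) : (ι₀ ⊕ ι₀ → F) →ₗ[F] (ι₀ ⊕ ι₀ → F) where
  toFun y := Sum.elim (fun i => y (Sum.inl i) + i0 * y (Sum.inr i))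
    (fun i => y (Sum.inl i) - i0 * y (Sum.inr i))
  map_add' y z := by
    funext j
    rcases j with i | i
    · simp only [Sum.elim_inl, Pi.add_apply]
      ring
    · simp only [Sum.elim_inr, Pi.add_apply]
      ring
  map_smul' c y := by
    funext j
    rcases j with i | i
    · simp only [Sum.elim_inl, Pi.smul_apply, smul_eq_mul, RingHom.id_apply]
      ring
    · simp only [Sum.elim_inr, Pi.smul_apply, smul_eq_mul, RingHom.id_apply]
      ring

theorem plusOn_mapOne (ι₀ : Type) [Fintype ι₀] (i0 : F) (hi : i0 * i0 = -1) (y : ι₀ ⊕ ι₀ → F) :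
    plusOn ι₀ (mapOne ι₀ i0 y) = sumSq (ι₀ ⊕ ι₀) y := by
  unfold plusOn sumSq
  rw [Fintype.sum_sum_type, ← Finset.sum_add_distrib]
  apply Finset.sum_congr rfl
  intro i _
  show (y (Sum.inl i) + i0 * y (Sum.inr i)) * (y (Sum.inl i) - i0 * y (Sum.inr i)) = _
  linear_combination (-(y (Sum.inr i) * y (Sum.inr i))) * hi

/-- the four-dimensional change of variables -/
def mapTwo (ι₀ : Type) (a b : F) :
    ((ι₀ ⊕ ι₀) ⊕ (ι₀ ⊕ ι₀) → F) →ₗ[F] ((ι₀ ⊕ ι₀) ⊕ (ι₀ ⊕ ι₀) → F) where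
  toFun y := Sum.elim
    (Sum.elim (fun i => y (Sum.inl (Sum.inl i)) -
        (a * y (Sum.inr (Sum.inl i)) + b * y (Sum.inr (Sum.inr i))))
      (fun i => y (Sum.inl (Sum.inr i)) -
        (-b * y (Sum.inr (Sum.inl i)) + a * y (Sum.inr (Sum.inr i)))))
    (Sum.elim (fun i => y (Sum.inl (Sum.inl i)) +
        (a * y (Sum.inr (Sum.inl i)) + b * y (Sum.inr (Sum.inr i))))
      (fun i => y (Sum.inl (Sum.inr i)) +
        (-b * y (Sum.inr (Sum.inl i)) + a * y (Sum.inr (Sum.inr i)))))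
  map_add' y z := by
    funext j
    rcases j with (i | i) | (i | i)
    · simp only [Sum.elim_inl, Pi.add_apply]
      ring
    · simp only [Sum.elim_inl, Sum.elim_inr, Pi.add_apply]
      ring
    · simp only [Sum.elim_inl, Sum.elim_inr, Pi.add_apply]
      ring
    · simp only [Sum.elim_inr, Pi.add_apply]
      ring
  map_smul' c y := by
    funext j
    rcases j with (i | i) | (i | i)
    · simp only [Sum.elim_inl, Pi.smul_apply, smul_eq_mul, RingHom.id_apply]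
      ring
    · simp only [Sum.elim_inl, Sum.elim_inr, Pi.smul_apply, smul_eq_mul, RingHom.id_apply]
      ring
    · simp only [Sum.elim_inl, Sum.elim_inr, Pi.smul_apply, smul_eq_mul, RingHom.id_apply]
      ring
    · simp only [Sum.elim_inr, Pi.smul_apply, smul_eq_mul, RingHom.id_apply]
      ring

theorem plusOn_mapTwo (ι₀ : Type) [Fintype ι₀] (a b : F) (hab : a * a + b * b = -1)
    (y : (ι₀ ⊕ ι₀) ⊕ (ι₀ ⊕ ι₀) → F) :
    plusOn (ι₀ ⊕ ι₀) (mapTwo ι₀ a b y) = sumSq ((ι₀ ⊕ ι₀) ⊕ (ι₀ ⊕ ι₀)) y := by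
  unfold plusOn sumSq
  rw [Fintype.sum_sum_type, Fintype.sum_sum_type, Fintype.sum_sum_type, Fintype.sum_sum_type,
    ← Finset.sum_add_distrib, ← Finset.sum_add_distrib, ← Finset.sum_add_distrib,
    ← Finset.sum_add_distrib]
  apply Finset.sum_congr rfl
  intro i _
  show (y (Sum.inl (Sum.inl i)) - (a * y (Sum.inr (Sum.inl i)) + b * y (Sum.inr (Sum.inr i)))) *
      (y (Sum.inl (Sum.inl i)) + (a * y (Sum.inr (Sum.inl i)) + b * y (Sum.inr (Sum.inr i)))) +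
    (y (Sum.inl (Sum.inr i)) - (-b * y (Sum.inr (Sum.inl i)) + a * y (Sum.inr (Sum.inr i)))) *
      (y (Sum.inl (Sum.inr i)) + (-b * y (Sum.inr (Sum.inl i)) + a * y (Sum.inr (Sum.inr i)))) = _
  linear_combination (-(y (Sum.inr (Sum.inl i)) * y (Sum.inr (Sum.inl i)) +
    y (Sum.inr (Sum.inr i)) * y (Sum.inr (Sum.inr i)))) * hab

/-- the change of variables for the minus type -/
def mapThree (ι₀ : Type) (a b : F) :
    (((ι₀ ⊕ ι₀) ⊕ (ι₀ ⊕ ι₀)) ⊕ Fin 2 → F) →ₗ[F] (((ι₀ ⊕ ι₀) ⊕ (ι₀ ⊕ ι₀)) ⊕ Fin 2 → F) where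
  toFun y := Sum.elim (mapTwo ι₀ a b (fun j => y (Sum.inl j))) (fun t => y (Sum.inr t))
  map_add' y z := by
    funext j
    rcases j with j | t
    · simp only [Sum.elim_inl, Pi.add_apply]
      have : (fun j => y (Sum.inl j) + z (Sum.inl j)) =
          (fun j => y (Sum.inl j)) + fun j => z (Sum.inl j) := rfl
      rw [this, map_add]
      rfl
    · simp only [Sum.elim_inr, Pi.add_apply]
  map_smul' c y := by
    funext j
    rcases j with j | t
    · simp only [Sum.elim_inl, Pi.smul_apply, RingHom.id_apply]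
      have : (fun j => c • y (Sum.inl j)) = c • fun j => y (Sum.inl j) := rfl
      rw [this, map_smul]
      rfl
    · simp only [Sum.elim_inr, Pi.smul_apply, RingHom.id_apply]

theorem minusOn_mapThree (ι₀ : Type) [Fintype ι₀] (a b : F) (hab : a * a + b * b = -1)
    (y : ((ι₀ ⊕ ι₀) ⊕ (ι₀ ⊕ ι₀)) ⊕ Fin 2 → F) :
    minusOn (ι₀ ⊕ ι₀) (mapThree ι₀ a b y) = sumSq (((ι₀ ⊕ ι₀) ⊕ (ι₀ ⊕ ι₀)) ⊕ Fin 2) y := by
  have h1 := plusOn_mapTwo ι₀ a b hab (fun j => y (Sum.inl j))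
  unfold minusOn
  unfold plusOn at h1
  show (∑ i, mapTwo ι₀ a b (fun j => y (Sum.inl j)) (Sum.inl i) *
      mapTwo ι₀ a b (fun j => y (Sum.inl j)) (Sum.inr i)) +
    (y (Sum.inr 0) * y (Sum.inr 0) + y (Sum.inr 1) * y (Sum.inr 1)) = _
  rw [h1]
  unfold sumSq
  rw [Fintype.sum_sum_type (fun j => y j * y j), Fin.sum_univ_two]

end maps

section types
variable {F : Type*} [Field F]

theorem sumSq_reindex {ι₁ ι₂ : Type} [Fintype ι₁] [Fintype ι₂] (e : ι₁ ≃ ι₂) (x : ι₁ → F) :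
    sumSq ι₂ (x ∘ e.symm) = sumSq ι₁ x := by
  unfold sumSq
  exact Equiv.sum_comp e.symm (fun i => x i * x i)

theorem plusOn_reindex {ι₁ ι₂ : Type} [Fintype ι₁] [Fintype ι₂] (e₀ : ι₁ ≃ ι₂)
    (x : ι₁ ⊕ ι₁ → F) : plusOn ι₂ (x ∘ (Equiv.sumCongr e₀ e₀).symm) = plusOn ι₁ x := by
  unfold plusOn
  exact Equiv.sum_comp e₀.symm (fun i => x (Sum.inl i) * x (Sum.inr i))

theorem minusOn_reindex {ι₁ ι₂ : Type} [Fintype ι₁] [Fintype ι₂] (e₀ : ι₁ ≃ ι₂)
    (x : (ι₁ ⊕ ι₁) ⊕ Fin 2 → F) :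
    minusOn ι₂ (x ∘ (Equiv.sumCongr (Equiv.sumCongr e₀ e₀) (Equiv.refl (Fin 2))).symm) =
      minusOn ι₁ x := by
  unfold minusOn
  congr 1
  exact Equiv.sum_comp e₀.symm (fun i => x (Sum.inl (Sum.inl i)) * x (Sum.inl (Sum.inr i)))

/-- when `-1` is a square the sum of squares is of plus type -/
theorem pgo_sumSq_plus_of_sq (h2 : (2 : F) ≠ 0) (n m : ℕ) (hnm : n = 2 * m) (i0 : F)
    (hi : i0 * i0 = -1) :
    Nonempty (PGO F (sumSq (F := F) (Fin n)) ≃* PGO F (quadFormPlus m F)) := by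
  have hcard : Fintype.card (Fin n) = Fintype.card (Fin m ⊕ Fin m) := by
    rw [Fintype.card_sum, Fintype.card_fin, Fintype.card_fin]
    omega
  obtain ⟨e1⟩ := pgo_congr_reindex (Fintype.equivOfCardEq hcard) (sumSq (F := F) (Fin n))
    (sumSq (F := F) (Fin m ⊕ Fin m)) (sumSq_reindex _)
  obtain ⟨e2⟩ := pgo_congr_linearMap (mapOne (Fin m) i0) (sumSq (F := F) (Fin m ⊕ Fin m))
    (plusOn (F := F) (Fin m)) (sumSq_nondeg h2 _) 1 one_ne_zero
    (by intro x; rw [plusOn_mapOne _ _ hi, one_mul])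
  exact ⟨e1.trans e2⟩

/-- in dimension divisible by four the sum of squares is of plus type -/
theorem pgo_sumSq_plus_of_even (h2 : (2 : F) ≠ 0) (n m k : ℕ) (hnm : n = 2 * m) (hmk : m = 2 * k)
    (a b : F) (hab : a * a + b * b = -1) :
    Nonempty (PGO F (sumSq (F := F) (Fin n)) ≃* PGO F (quadFormPlus m F)) := by
  have hcard : Fintype.card (Fin n) =
      Fintype.card ((Fin k ⊕ Fin k) ⊕ (Fin k ⊕ Fin k)) := by
    simp only [Fintype.card_sum, Fintype.card_fin]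
    omega
  have hcard0 : Fintype.card (Fin k ⊕ Fin k) = Fintype.card (Fin m) := by
    simp only [Fintype.card_sum, Fintype.card_fin]
    omega
  obtain ⟨e1⟩ := pgo_congr_reindex (Fintype.equivOfCardEq hcard) (sumSq (F := F) (Fin n))
    (sumSq (F := F) ((Fin k ⊕ Fin k) ⊕ (Fin k ⊕ Fin k))) (sumSq_reindex _)
  obtain ⟨e2⟩ := pgo_congr_linearMap (mapTwo (Fin k) a b)
    (sumSq (F := F) ((Fin k ⊕ Fin k) ⊕ (Fin k ⊕ Fin k)))
    (plusOn (F := F) (Fin k ⊕ Fin k)) (sumSq_nondeg h2 _) 1 one_ne_zero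
    (by intro x; rw [plusOn_mapTwo _ _ _ hab, one_mul])
  obtain ⟨e3⟩ := pgo_congr_reindex
    (Equiv.sumCongr (Fintype.equivOfCardEq hcard0) (Fintype.equivOfCardEq hcard0))
    (plusOn (F := F) (Fin k ⊕ Fin k)) (plusOn (F := F) (Fin m)) (plusOn_reindex _)
  exact ⟨(e1.trans e2).trans e3⟩

/-- in dimension `≡ 2 (mod 4)` the sum of squares is similar to `Σ xᵢyᵢ + z₁² + z₂²` -/
theorem pgo_sumSq_minus (h2 : (2 : F) ≠ 0) (n m k : ℕ) (hnm : n = 2 * m) (hmk : m = 2 * k + 1)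
    (a b : F) (hab : a * a + b * b = -1) :
    Nonempty (PGO F (sumSq (F := F) (Fin n)) ≃* PGO F (quadFormMinus (m - 1) F 0 1)) := by
  have hcard : Fintype.card (Fin n) =
      Fintype.card (((Fin k ⊕ Fin k) ⊕ (Fin k ⊕ Fin k)) ⊕ Fin 2) := by
    simp only [Fintype.card_sum, Fintype.card_fin]
    omega
  have hcard0 : Fintype.card (Fin k ⊕ Fin k) = Fintype.card (Fin (m - 1)) := by
    simp only [Fintype.card_sum, Fintype.card_fin]
    omega
  obtain ⟨e1⟩ := pgo_congr_reindex (Fintype.equivOfCardEq hcard) (sumSq (F := F) (Fin n))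
    (sumSq (F := F) (((Fin k ⊕ Fin k) ⊕ (Fin k ⊕ Fin k)) ⊕ Fin 2)) (sumSq_reindex _)
  obtain ⟨e2⟩ := pgo_congr_linearMap (mapThree (Fin k) a b)
    (sumSq (F := F) (((Fin k ⊕ Fin k) ⊕ (Fin k ⊕ Fin k)) ⊕ Fin 2))
    (minusOn (F := F) (Fin k ⊕ Fin k)) (sumSq_nondeg h2 _) 1 one_ne_zero
    (by intro x; rw [minusOn_mapThree _ _ _ hab, one_mul])
  obtain ⟨e3⟩ := pgo_congr_reindex
    (Equiv.sumCongr (Equiv.sumCongr (Fintype.equivOfCardEq hcard0) (Fintype.equivOfCardEq hcard0))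
      (Equiv.refl (Fin 2)))
    (minusOn (F := F) (Fin k ⊕ Fin k)) (minusOn (F := F) (Fin (m - 1))) (minusOn_reindex _)
  rw [quadFormMinus_eq]
  exact ⟨(e1.trans e2).trans e3⟩

end types

end Cfsg.Agent.Lib.Helper5.PslGraph
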