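import Mathlib
import Cfsg.Prelude.Def_LieTypeDatum
import Cfsg.Agent.Lib.Helper5.OrthCard

set_option autoImplicit false

/-! Cardinalities of projective similitude groups through the multiplier character. -/

namespace Cfsg.Agent.Lib.Helper5.PslGraph

open Cfsg Matrix

section abstract
variable {F : Type*} [Field F] {ι : Type} [Fintype ι] [DecidableEq ι]

theorem card_scalars [Finite F] [Nonempty ι] : Nat.card (Geo.scalars ι F) = Nat.card F - 1 := by
  unfold Geo.scalars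
  have hinj : Function.Injective (Units.map (Matrix.scalar ι : F →+* Matrix ι ι F).toMonoidHom) := by
    intro a b hab
    have h1 := congrArg (fun g : (Matrix ι ι F)ˣ => (g : Matrix ι ι F)) hab
    simp only [Units.coe_map, RingHom.toMonoidHom_eq_coe, MonoidHom.coe_coe] at h1
    exact Units.ext (Matrix.scalar_inj.mp h1)
  rw [← Nat.card_units]
  exact (Nat.card_congr (MonoidHom.ofInjective hinj).toEquiv).symm

theorem card_projQuot_mul [Finite F] [Nonempty ι] (H : Subgroup (GL ι F))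
    (hZ : Geo.scalars ι F ≤ H) : Nat.card (projQuot H) * (Nat.card F - 1) = Nat.card H := by
  rw [Subgroup.card_eq_card_quotient_mul_card_subgroup ((Geo.scalars ι F).subgroupOf H),
    Nat.card_congr (Subgroup.subgroupOfEquivOfLe hZ).toEquiv, card_scalars]

theorem card_of_mult [Finite F] (H K : Subgroup (GL ι F)) (μ : ↥H →* Fˣ)
    (hμ : Function.Surjective μ) (hK : ∀ g : ↥H, μ g = 1 ↔ (g : GL ι F) ∈ K) (hKH : K ≤ H) :
    Nat.card H = Nat.card K * (Nat.card F - 1) := by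
  have hker : μ.ker = K.subgroupOf H := by
    ext g
    rw [MonoidHom.mem_ker, Subgroup.mem_subgroupOf]
    exact hK g
  rw [Subgroup.card_eq_card_quotient_mul_card_subgroup μ.ker,
    Nat.card_congr (QuotientGroup.quotientKerEquivOfSurjective μ hμ).toEquiv, hker,
    Nat.card_congr (Subgroup.subgroupOfEquivOfLe hKH).toEquiv, Nat.card_units, mul_comm]

/-- the projective similitude group has the order of the isometry group -/
theorem card_projQuot_eq [Finite F] [Nonempty ι] (H K : Subgroup (GL ι F))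
    (hZ : Geo.scalars ι F ≤ H) (μ : ↥H →* Fˣ)
    (hμ : Function.Surjective μ) (hK : ∀ g : ↥H, μ g = 1 ↔ (g : GL ι F) ∈ K) (hKH : K ≤ H) :
    Nat.card (projQuot H) = Nat.card K := by
  have h1 := card_projQuot_mul H hZ
  rw [card_of_mult H K μ hμ hK hKH] at h1
  have h2 : 0 < Nat.card F - 1 := by
    have := Finite.one_lt_card (α := F)
    omega
  exact Nat.eq_of_mul_eq_mul_right h2 h1

end abstract

section mult1
variable {F : Type*} [Field F] {ι : Type} [Fintype ι] [DecidableEq ι]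

/-- the multiplier of a similitude of a one-argument form -/
noncomputable def qMultFun (Q : (ι → F) → F) (g : ↥(Geo.quadSimilarityGroup (F := F) Q)) : Fˣ :=
  Classical.choose g.2

theorem qMultFun_spec (Q : (ι → F) → F) (g : ↥(Geo.quadSimilarityGroup (F := F) Q))
    (v : ι → F) : Q (((g : GL ι F) : Matrix ι ι F) *ᵥ v) = (qMultFun Q g : F) * Q v :=
  Classical.choose_spec g.2 v

theorem qMultFun_eq (Q : (ι → F) → F) (w₀ : ι → F) (hw₀ : Q w₀ = 1)
    (g : ↥(Geo.quadSimilarityGroup (F := F) Q)) :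
    (qMultFun Q g : F) = Q (((g : GL ι F) : Matrix ι ι F) *ᵥ w₀) := by
  rw [qMultFun_spec Q, hw₀, mul_one]

/-- the multiplier character -/
noncomputable def qMult (Q : (ι → F) → F) (w₀ : ι → F) (hw₀ : Q w₀ = 1) :
    ↥(Geo.quadSimilarityGroup (F := F) Q) →* Fˣ :=
  MonoidHom.mk' (qMultFun Q) (by
    intro g h
    apply Units.ext
    rw [Units.val_mul, qMultFun_eq Q w₀ hw₀ (g * h), Subgroup.coe_mul, Units.val_mul,
      ← Matrix.mulVec_mulVec, qMultFun_spec Q, qMultFun_eq Q w₀ hw₀ h])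

theorem qMult_apply (Q : (ι → F) → F) (w₀ : ι → F) (hw₀ : Q w₀ = 1)
    (g : ↥(Geo.quadSimilarityGroup (F := F) Q)) : qMult Q w₀ hw₀ g = qMultFun Q g := rfl

theorem qMult_eq_one_iff (Q : (ι → F) → F) (w₀ : ι → F) (hw₀ : Q w₀ = 1)
    (g : ↥(Geo.quadSimilarityGroup (F := F) Q)) :
    qMult Q w₀ hw₀ g = 1 ↔ (g : GL ι F) ∈ isometryGroup F Q := by
  rw [qMult_apply, Cfsg.Agent.Lib.Helper5.OrthCard.mem_isometryGroup_iff]
  constructor
  · intro h v
    rw [qMultFun_spec Q, h, Units.val_one, one_mul]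
  · intro h
    apply Units.ext
    rw [qMultFun_eq Q w₀ hw₀, h, hw₀, Units.val_one]

theorem qMult_surjective (Q : (ι → F) → F) (w₀ : ι → F) (hw₀ : Q w₀ = 1)
    (hs : ∀ ν : F, ν ≠ 0 → ∃ g : GL ι F, ∀ v, Q ((g : Matrix ι ι F) *ᵥ v) = ν * Q v) :
    Function.Surjective (qMult Q w₀ hw₀) := by
  intro c
  obtain ⟨g, hg⟩ := hs (c : F) c.ne_zero
  refine ⟨⟨g, ⟨c, hg⟩⟩, ?_⟩
  apply Units.ext
  rw [qMult_apply, qMultFun_eq Q w₀ hw₀]
  show Q ((g : Matrix ι ι F) *ᵥ w₀) = (c : F)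
  rw [hg, hw₀, mul_one]

theorem isometryGroup_le_quadSim (Q : (ι → F) → F) :
    isometryGroup F Q ≤ Geo.quadSimilarityGroup (F := F) Q := by
  intro g hg
  rw [Cfsg.Agent.Lib.Helper5.OrthCard.mem_isometryGroup_iff] at hg
  exact ⟨1, fun v => by rw [hg, Units.val_one, one_mul]⟩

theorem scalars_le_quadSim (Q : (ι → F) → F) (hQ : ∀ (c : F) (v : ι → F), Q (c • v) = c * c * Q v) :
    Geo.scalars ι F ≤ Geo.quadSimilarityGroup (F := F) Q := by
  intro g hg
  rw [Geo.mem_scalars_iff] at hg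
  obtain ⟨c, hc⟩ := hg
  refine ⟨c * c, fun v => ?_⟩
  rw [hc, Matrix.smul_mulVec, Matrix.one_mulVec, hQ, Units.val_mul]

/-- **order of the projective similitude group of a quadratic form** -/
theorem card_PGO_eq [Finite F] [Nonempty ι] (Q : (ι → F) → F) (w₀ : ι → F) (hw₀ : Q w₀ = 1)
    (hQ : ∀ (c : F) (v : ι → F), Q (c • v) = c * c * Q v)
    (hs : ∀ ν : F, ν ≠ 0 → ∃ g : GL ι F, ∀ v, Q ((g : Matrix ι ι F) *ᵥ v) = ν * Q v) :
    Nat.card (Cfsg.PGO F Q) = Nat.card (isometryGroup F Q) :=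
  card_projQuot_eq _ _ (scalars_le_quadSim Q hQ) (qMult Q w₀ hw₀)
    (qMult_surjective Q w₀ hw₀ hs) (qMult_eq_one_iff Q w₀ hw₀) (isometryGroup_le_quadSim Q)

end mult1

section mult2
variable {F : Type*} [Field F] {ι : Type} [Fintype ι] [DecidableEq ι]

/-- the multiplier of a similitude of a two-argument form -/
noncomputable def bMultFun (f : (ι → F) → (ι → F) → F)
    (g : ↥(Geo.similarityGroup (F := F) f)) : Fˣ :=
  Classical.choose g.2

theorem bMultFun_spec (f : (ι → F) → (ι → F) → F) (g : ↥(Geo.similarityGroup (F := F) f))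
    (u v : ι → F) : f (((g : GL ι F) : Matrix ι ι F) *ᵥ u) (((g : GL ι F) : Matrix ι ι F) *ᵥ v)
      = (bMultFun f g : F) * f u v :=
  Classical.choose_spec g.2 u v

theorem bMultFun_eq (f : (ι → F) → (ι → F) → F) (u₀ v₀ : ι → F) (h₀ : f u₀ v₀ = 1)
    (g : ↥(Geo.similarityGroup (F := F) f)) :
    (bMultFun f g : F) = f (((g : GL ι F) : Matrix ι ι F) *ᵥ u₀)
      (((g : GL ι F) : Matrix ι ι F) *ᵥ v₀) := by
  rw [bMultFun_spec f, h₀, mul_one]

/-- the multiplier character -/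
noncomputable def bMult (f : (ι → F) → (ι → F) → F) (u₀ v₀ : ι → F) (h₀ : f u₀ v₀ = 1) :
    ↥(Geo.similarityGroup (F := F) f) →* Fˣ :=
  MonoidHom.mk' (bMultFun f) (by
    intro g h
    apply Units.ext
    rw [Units.val_mul, bMultFun_eq f u₀ v₀ h₀ (g * h), Subgroup.coe_mul, Units.val_mul,
      ← Matrix.mulVec_mulVec, ← Matrix.mulVec_mulVec, bMultFun_spec f, bMultFun_eq f u₀ v₀ h₀ h])

theorem bMult_apply (f : (ι → F) → (ι → F) → F) (u₀ v₀ : ι → F) (h₀ : f u₀ v₀ = 1)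
    (g : ↥(Geo.similarityGroup (F := F) f)) : bMult f u₀ v₀ h₀ g = bMultFun f g := rfl

theorem bMult_eq_one_iff (f : (ι → F) → (ι → F) → F) (u₀ v₀ : ι → F) (h₀ : f u₀ v₀ = 1)
    (g : ↥(Geo.similarityGroup (F := F) f)) :
    bMult f u₀ v₀ h₀ g = 1 ↔ ∀ u v, f (((g : GL ι F) : Matrix ι ι F) *ᵥ u)
      (((g : GL ι F) : Matrix ι ι F) *ᵥ v) = f u v := by
  rw [bMult_apply]
  constructor
  · intro h u v
    rw [bMultFun_spec f, h, Units.val_one, one_mul]
  · intro h
    apply Units.ext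
    rw [bMultFun_eq f u₀ v₀ h₀, h, h₀, Units.val_one]

theorem bMult_surjective (f : (ι → F) → (ι → F) → F) (u₀ v₀ : ι → F) (h₀ : f u₀ v₀ = 1)
    (hs : ∀ ν : F, ν ≠ 0 → ∃ g : GL ι F, ∀ u v,
      f ((g : Matrix ι ι F) *ᵥ u) ((g : Matrix ι ι F) *ᵥ v) = ν * f u v) :
    Function.Surjective (bMult f u₀ v₀ h₀) := by
  intro c
  obtain ⟨g, hg⟩ := hs (c : F) c.ne_zero
  refine ⟨⟨g, ⟨c, hg⟩⟩, ?_⟩
  apply Units.ext
  rw [bMult_apply, bMultFun_eq f u₀ v₀ h₀]
  show f ((g : Matrix ι ι F) *ᵥ u₀) ((g : Matrix ι ι F) *ᵥ v₀) = (c : F)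
  rw [hg, h₀, mul_one]

end mult2

end Cfsg.Agent.Lib.Helper5.PslGraph
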