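import Mathlib
import Cfsg.Prelude.Def_LieTypeDatum
import Cfsg.Agent.Lib.Helper5.PslGraph.GraphAut
import Cfsg.Agent.Lib.Helper9.APSL26
import Cfsg.Agent.Lib.Helper9.APSL27

set_option autoImplicit false

/-! The number of `PSL`-classes in the `PGL`-class of a graph automorphism `gB S`: the index of the
subgroup generated by the determinants of the similitudes of `S` and the `n`-th powers. -/

namespace Cfsg.Agent.Lib.Helper5.PslGraph

open Cfsg Matrix Cfsg.Agent.Lib.Helper9.APSL

section splitcount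
variable {F : Type*} [Field F] {n : ℕ}

local notation "Mn" => Matrix (Fin n) (Fin n) F
local notation "GLn" => GL (Fin n) F
local notation "PSLn" => Matrix.ProjectiveSpecialLinearGroup (Fin n) F

/-- the determinants of the similitudes of `S` -/
noncomputable def simDetGroup (S : GLn) : Subgroup Fˣ :=
  (Geo.similarityGroup (F := F) (bf (S : Mn))).map Matrix.GeneralLinearGroup.det

theorem mem_simDetGroup_iff (hn : 0 < n) (S : GLn) (d : Fˣ) :
    d ∈ simDetGroup S ↔ ∃ (T : GLn) (c : F), (T : Mn)ᵀ * (S : Mn) * (T : Mn) = c • (S : Mn) ∧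
      Matrix.GeneralLinearGroup.det T = d := by
  unfold simDetGroup
  rw [Subgroup.mem_map]
  constructor
  · rintro ⟨T, hT, rfl⟩
    obtain ⟨c, hc⟩ := (mem_similarityGroup_bf_iff hn S T).mp hT
    exact ⟨T, c, hc, rfl⟩
  · rintro ⟨T, c, hc, rfl⟩
    exact ⟨T, (mem_similarityGroup_bf_iff hn S T).mpr ⟨c, hc⟩, rfl⟩

theorem comap_cent_gB (hn : 2 ≤ n) (S : GLn) :
    (Subgroup.centralizer {gB S} ⊔ Cfsg.Inn PSLn).comap cG
      = (simDetGroup S ⊔ (powMonoidHom n : Fˣ →* Fˣ).range).comap
        Matrix.GeneralLinearGroup.det := by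
  have hn0 : 0 < n := by omega
  ext g
  rw [Subgroup.mem_comap, Subgroup.mem_comap, Subgroup.mem_sup_of_normal_right]
  constructor
  · rintro ⟨c, hc, k, hk, e⟩
    have hcr : c ∈ (cG (F := F) (n := n)).range := by
      have : c = cG g * k⁻¹ := by rw [← e, mul_inv_cancel_right]
      rw [this]
      exact Subgroup.mul_mem _ ⟨g, rfl⟩ (Subgroup.inv_mem _ (inn_le_range_cG hk))
    obtain ⟨h, rfl⟩ := hcr
    have hh : h ∈ Geo.similarityGroup (F := F) (bf (S : Mn)) := by
      rw [mem_similarityGroup_bf_iff hn0]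
      exact (cG_mem_cent_gB_iff hn h S).mp hc
    have hk' : cG (h⁻¹ * g) ∈ Cfsg.Inn PSLn := by
      have : cG (h⁻¹ * g) = k := by rw [map_mul, map_inv, ← e, inv_mul_cancel_left]
      rw [this]
      exact hk
    have h1 : h⁻¹ * g ∈ (psiG (F := F) (n := n)).ker := by
      rw [MonoidHom.mem_ker]
      unfold psiG
      rw [MonoidHom.comp_apply, QuotientGroup.mk'_apply, QuotientGroup.eq_one_iff]
      exact hk'
    rw [psiG_ker hn, Subgroup.mem_comap, map_mul, map_inv] at h1
    have h2 : Matrix.GeneralLinearGroup.det g = Matrix.GeneralLinearGroup.det h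
        * ((Matrix.GeneralLinearGroup.det h)⁻¹ * Matrix.GeneralLinearGroup.det g) := by
      rw [mul_inv_cancel_left]
    rw [h2]
    exact Subgroup.mul_mem_sup (Subgroup.mem_map_of_mem _ hh) h1
  · intro hg
    obtain ⟨a, ha, b, hb, e⟩ := Subgroup.mem_sup.mp hg
    obtain ⟨h, hh, hdet⟩ := Subgroup.mem_map.mp ha
    refine ⟨cG h, ?_, cG (h⁻¹ * g), ?_, ?_⟩
    · rw [cG_mem_cent_gB_iff hn]
      exact (mem_similarityGroup_bf_iff hn0 S h).mp hh
    · have h1 : h⁻¹ * g ∈ (psiG (F := F) (n := n)).ker := by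
        rw [psiG_ker hn, Subgroup.mem_comap, map_mul, map_inv, hdet, ← e, inv_mul_cancel_left]
        exact hb
      rw [MonoidHom.mem_ker] at h1
      unfold psiG at h1
      rw [MonoidHom.comp_apply, QuotientGroup.mk'_apply, QuotientGroup.eq_one_iff] at h1
      exact h1
    · rw [← map_mul, mul_inv_cancel_left]

/-- **the number of classes** into which the inner-diagonal class of `gB S` splits -/
theorem splitClassCount_gB (hn : 2 ≤ n) (S : GLn) :
    Cfsg.splitClassCount (Cfsg.inndiagPSL n F) (Cfsg.Inn PSLn) (gB S)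
      = (simDetGroup S ⊔ (powMonoidHom n : Fˣ →* Fˣ).range).index := by
  haveI : Nonempty (Fin n) := ⟨⟨0, by omega⟩⟩
  rw [inndiagPSL_eq, splitClassCount_range, comap_cent_gB hn,
    Subgroup.index_comap_of_surjective _ Matrix.GeneralLinearGroup.det_surjective]

end splitcount

end Cfsg.Agent.Lib.Helper5.PslGraph
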