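import Mathlib
import Cfsg.Prelude.Def_LieTypeDatum
import Cfsg.Agent.Lib.Helper5.PslGraph.SplitCount
import Cfsg.Agent.Lib.Helper5.PslGraph.GraphClass
import Cfsg.Agent.Lib.Helper5.PslGraph.GraphMain
import Cfsg.Agent.Lib.Helper5.PslGraph.CharTwo
import Cfsg.Agent.Lib.Helper5.Refl

set_option autoImplicit false

/-! Determinants of similitudes of a bilinear form given by a matrix: general facts. -/

namespace Cfsg.Agent.Lib.Helper5.PslGraph

open Cfsg Matrix Cfsg.Agent.Lib.Helper9.APSL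

section simdetM
variable {F : Type*} [Field F] {ι : Type} [Fintype ι] [DecidableEq ι]

/-- determinants of the similitudes of the bilinear form of a matrix on any index type -/
noncomputable def simDetM (G : Matrix ι ι F) : Subgroup Fˣ :=
  (Geo.similarityGroup (F := F) (bf G)).map Matrix.GeneralLinearGroup.det

theorem mem_sim_bf_iff (G : Matrix ι ι F) (g : GL ι F) :
    g ∈ Geo.similarityGroup (F := F) (bf G) ↔
      ∃ c : Fˣ, (g : Matrix ι ι F)ᵀ * G * (g : Matrix ι ι F) = (c : F) • G := by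
  constructor
  · rintro ⟨c, hc⟩
    refine ⟨c, ?_⟩
    apply bf_ext
    intro u v
    rw [← bf_mulVec, hc, bf_smul]
  · rintro ⟨c, hc⟩
    refine ⟨c, fun u v => ?_⟩
    rw [bf_mulVec, hc, bf_smul]

theorem mem_simDetM_iff (G : Matrix ι ι F) (d : Fˣ) :
    d ∈ simDetM G ↔ ∃ (T : GL ι F) (c : Fˣ),
      (T : Matrix ι ι F)ᵀ * G * (T : Matrix ι ι F) = (c : F) • G ∧
        Matrix.GeneralLinearGroup.det T = d := by
  unfold simDetM
  rw [Subgroup.mem_map]
  constructor
  · rintro ⟨T, hT, rfl⟩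
    obtain ⟨c, hc⟩ := (mem_sim_bf_iff G T).mp hT
    exact ⟨T, c, hc, rfl⟩
  · rintro ⟨T, c, hc, rfl⟩
    exact ⟨T, (mem_sim_bf_iff G T).mpr ⟨c, hc⟩, rfl⟩

/-- matrix form of membership: any matrix similitude with unit determinant and unit multiplier -/
theorem mem_simDetM_of_mat (G T : Matrix ι ι F) (c d : Fˣ)
    (hT : Tᵀ * G * T = (c : F) • G) (hd : T.det = (d : F)) : d ∈ simDetM G := by
  rw [mem_simDetM_iff]
  refine ⟨Matrix.GeneralLinearGroup.mkOfDetNeZero T (by rw [hd]; exact d.ne_zero), c, hT, ?_⟩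
  apply Units.ext
  rw [Matrix.GeneralLinearGroup.val_det_apply]
  exact hd

theorem simDetM_reindex_le {κ : Type} [Fintype κ] [DecidableEq κ] (e : ι ≃ κ)
    (G : Matrix ι ι F) : simDetM G ≤ simDetM (Matrix.reindex e e G) := by
  intro d hd
  obtain ⟨T, c, hT, hdet⟩ := (mem_simDetM_iff G d).mp hd
  apply mem_simDetM_of_mat _ (Matrix.reindex e e (T : Matrix ι ι F)) c d
  · rw [Matrix.reindex_apply, Matrix.reindex_apply, Matrix.transpose_submatrix,
      Matrix.submatrix_mul_equiv, Matrix.submatrix_mul_equiv, hT]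
    rfl
  · rw [Matrix.det_reindex_self, ← hdet, Matrix.GeneralLinearGroup.val_det_apply]

theorem simDetM_reindex {κ : Type} [Fintype κ] [DecidableEq κ] (e : ι ≃ κ)
    (G : Matrix ι ι F) : simDetM (Matrix.reindex e e G) = simDetM G := by
  apply le_antisymm
  · have h := simDetM_reindex_le e.symm (Matrix.reindex e e G)
    have h2 : Matrix.reindex e.symm e.symm (Matrix.reindex e e G) = G := by
      ext i j
      simp [Matrix.reindex_apply]
    rw [h2] at h
    exact h
  · exact simDetM_reindex_le e G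

/-- the square of the determinant of a similitude -/
theorem det_mul_self_of_sim (G T : Matrix ι ι F) (c : F) (hG : G.det ≠ 0)
    (h : Tᵀ * G * T = c • G) : T.det * T.det = c ^ Fintype.card ι := by
  have h1 := congrArg Matrix.det h
  rw [Matrix.det_mul, Matrix.det_mul, Matrix.det_transpose, Matrix.det_smul] at h1
  apply mul_right_cancel₀ hG
  linear_combination h1

end simdetM

section general
variable {F : Type*} [Field F] {n : ℕ}

local notation "Mn" => Matrix (Fin n) (Fin n) F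
local notation "GLn" => GL (Fin n) F
local notation "PSLn" => Matrix.ProjectiveSpecialLinearGroup (Fin n) F

theorem simDetGroup_eq_simDetM (S : GLn) : simDetGroup S = simDetM (S : Mn) := rfl

theorem simDetGroup_repGL {ι : Type} [Fintype ι] [DecidableEq ι] (e : ι ≃ Fin n)
    (G : Matrix ι ι F) (hG : G.det ≠ 0) : simDetGroup (repGL e G hG) = simDetM G := by
  rw [simDetGroup_eq_simDetM, repGL_coe, simDetM_reindex]

/-- odd dimension: determinants of similitudes are `n`-th powers -/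
theorem simDetGroup_le_pow_of_odd {k : ℕ} (hnk : n = 2 * k + 1) (S : GLn) :
    simDetGroup S ≤ (powMonoidHom n : Fˣ →* Fˣ).range := by
  intro d hd
  rw [simDetGroup_eq_simDetM, mem_simDetM_iff] at hd
  obtain ⟨T, c, hT, hdet⟩ := hd
  have h1 := det_mul_self_of_sim (S : Mn) (T : Mn) (c : F)
    (Matrix.GeneralLinearGroup.det_ne_zero S) hT
  rw [Fintype.card_fin, ← Matrix.GeneralLinearGroup.val_det_apply, hdet] at h1
  have h2 : d * d = c ^ n := by
    apply Units.ext
    rw [Units.val_mul, Units.val_pow_eq_pow_val]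
    exact h1
  rw [hnk] at h2
  refine ⟨d * (c ^ k)⁻¹, ?_⟩
  have hX : ((c ^ k)⁻¹) ^ (2 * k + 1) = ((c ^ (2 * k + 1)) ^ k)⁻¹ := by
    rw [inv_pow, ← pow_mul, ← pow_mul, mul_comm]
  have hd : d ^ (2 * k + 1) = (c ^ (2 * k + 1)) ^ k * d := by
    rw [pow_succ, pow_mul, pow_two, h2]
  rw [powMonoidHom_apply, hnk, mul_pow, hX, hd, mul_comm _ d, mul_assoc, mul_inv_cancel, mul_one]

/-- characteristic two: determinants of similitudes are `n`-th powers -/
theorem simDetGroup_le_pow_of_char_two [Fintype F] [CharP F 2] (S : GLn) :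
    simDetGroup S ≤ (powMonoidHom n : Fˣ →* Fˣ).range := by
  intro d hd
  rw [simDetGroup_eq_simDetM, mem_simDetM_iff] at hd
  obtain ⟨T, c, hT, hdet⟩ := hd
  have h1 := det_mul_self_of_sim (S : Mn) (T : Mn) (c : F)
    (Matrix.GeneralLinearGroup.det_ne_zero S) hT
  rw [Fintype.card_fin, ← Matrix.GeneralLinearGroup.val_det_apply, hdet] at h1
  obtain ⟨l, hl⟩ := exists_mul_self_char_two (c : F)
  have hl0 : l ≠ 0 := by
    rintro rfl
    rw [mul_zero] at hl
    exact c.ne_zero hl.symm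
  refine ⟨Units.mk0 l hl0, ?_⟩
  apply Units.ext
  rw [powMonoidHom_apply, Units.val_pow_eq_pow_val, Units.val_mk0]
  apply char_two_eq_of_mul_self_eq
  rw [h1, ← hl, mul_pow]

/-- congruent matrices (up to a scalar) have the same similitude determinants -/
theorem simDetGroup_le_of_congr (hn : 0 < n) (S S' T : GLn) (c : F)
    (hc : (T : Mn)ᵀ * (S' : Mn) * (T : Mn) = c • (S : Mn)) :
    simDetGroup S' ≤ simDetGroup S := by
  have hc0 : c ≠ 0 := by
    rintro rfl
    rw [zero_smul] at hc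
    have h1 := congrArg Matrix.det hc
    rw [Matrix.det_mul, Matrix.det_mul, Matrix.det_transpose] at h1
    have hT : (T : Mn).det ≠ 0 := Matrix.GeneralLinearGroup.det_ne_zero T
    have hS' : (S' : Mn).det ≠ 0 := Matrix.GeneralLinearGroup.det_ne_zero S'
    have : Nonempty (Fin n) := ⟨⟨0, hn⟩⟩
    rw [Matrix.det_zero] at h1
    exact mul_ne_zero (mul_ne_zero hT hS') hT h1
  intro d hd
  rw [simDetGroup_eq_simDetM, mem_simDetM_iff] at hd ⊢
  obtain ⟨U, μ, hU, hdet⟩ := hd
  refine ⟨T⁻¹ * U * T, μ, ?_, ?_⟩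
  · have h3 : ((T⁻¹ * U * T : GLn) : Mn)ᵀ * (c • (S : Mn)) * ((T⁻¹ * U * T : GLn) : Mn)
        = c • ((μ : F) • (S : Mn)) := by
      rw [← hc, Units.val_mul, Units.val_mul, Matrix.transpose_mul, Matrix.transpose_mul]
      calc (T : Mn)ᵀ * ((U : Mn)ᵀ * ((T⁻¹ : GLn) : Mn)ᵀ) * ((T : Mn)ᵀ * (S' : Mn) * (T : Mn))
            * (((T⁻¹ : GLn) : Mn) * (U : Mn) * (T : Mn))
          = (T : Mn)ᵀ * ((U : Mn)ᵀ * ((((T⁻¹ : GLn) : Mn)ᵀ * (T : Mn)ᵀ) * (S' : Mn) *
              ((T : Mn) * ((T⁻¹ : GLn) : Mn))) * (U : Mn)) * (T : Mn) := by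
            simp only [Matrix.mul_assoc]
        _ = (T : Mn)ᵀ * ((U : Mn)ᵀ * (S' : Mn) * (U : Mn)) * (T : Mn) := by
            rw [← Matrix.transpose_mul, mul_inv_coe, Matrix.transpose_one, Matrix.one_mul,
              Matrix.mul_one]
        _ = (μ : F) • ((T : Mn)ᵀ * (S' : Mn) * (T : Mn)) := by
            rw [hU, Matrix.mul_smul, Matrix.smul_mul]
        _ = c • ((μ : F) • (S : Mn)) := by
            rw [hc, smul_comm]
    rw [Matrix.mul_smul, Matrix.smul_mul] at h3
    have h4 := congrArg (fun X => c⁻¹ • X) h3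
    simp only [smul_smul, inv_mul_cancel₀ hc0, one_smul] at h4
    rw [← mul_assoc, inv_mul_cancel₀ hc0, one_mul] at h4
    exact h4
  · rw [map_mul, map_mul, map_inv, ← hdet, mul_comm, ← mul_assoc, mul_inv_cancel, one_mul]

theorem simDetGroup_eq_of_isConjUnder (hn : 2 ≤ n) (S S' : GLn)
    (h : IsConjUnder (Cfsg.inndiagPSL n F) (gB S) (gB S')) :
    simDetGroup S = simDetGroup S' := by
  have hn0 : 0 < n := by omega
  apply le_antisymm
  · obtain ⟨T, c, hc⟩ := (isConjUnder_gB_iff hn S' S).mp (isConjUnder_symm _ h)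
    exact simDetGroup_le_of_congr hn0 S' S T c hc
  · obtain ⟨T, c, hc⟩ := (isConjUnder_gB_iff hn S S').mp h
    exact simDetGroup_le_of_congr hn0 S S' T c hc

/-- a symmetric form has an isometry of determinant `-1` -/
theorem neg_one_mem_simDetGroup (hn : 0 < n) (h2 : (2 : F) ≠ 0) (S : GLn)
    (hS : (S : Mn)ᵀ = (S : Mn)) : (-1 : Fˣ) ∈ simDetGroup S := by
  obtain ⟨Q, hQv, hQnd⟩ := exists_quadForm_of_symm h2 S hS
  obtain ⟨v, hv⟩ : ∃ v, Q v ≠ 0 := by
    by_contra hcon
    push Not at hcon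
    have h0 : (S : Mn) = 0 := by
      apply bf_ext_diag h2 _ _ hS (Matrix.transpose_zero)
      intro w
      rw [← hQv, hcon]
      unfold bf
      rw [Matrix.zero_mulVec, dotProduct_zero]
    have hdet : (S : Mn).det ≠ 0 := Matrix.GeneralLinearGroup.det_ne_zero S
    have : Nonempty (Fin n) := ⟨⟨0, hn⟩⟩
    rw [h0, Matrix.det_zero] at hdet
    exact hdet rfl
  rw [simDetGroup_eq_simDetM]
  apply mem_simDetM_of_mat _ (reflectionMatrix (⇑Q) v) 1 (-1)
  · rw [Units.val_one, one_smul]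
    apply bf_ext_diag h2 _ _ _ hS
    · intro w
      rw [← bf_mulVec, ← hQv, ← hQv, Cfsg.Agent.Lib.Helper5.Refl.reflection_preserves Q v hv]
    · rw [Matrix.transpose_mul, Matrix.transpose_mul, Matrix.transpose_transpose, hS,
        Matrix.mul_assoc]
  · rw [Cfsg.Agent.Lib.Helper5.Refl.reflection_det Q v hv]
    simp

/-- even dimension: the determinant of a similitude with multiplier `c` is `± c ^ m` -/
theorem det_eq_or_of_even {m : ℕ} (hnm : n = 2 * m) (S T : GLn) (c : Fˣ)
    (hT : (T : Mn)ᵀ * (S : Mn) * (T : Mn) = (c : F) • (S : Mn)) :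
    Matrix.GeneralLinearGroup.det T = c ^ m ∨ Matrix.GeneralLinearGroup.det T = -1 * c ^ m := by
  have h1 := det_mul_self_of_sim (S : Mn) (T : Mn) (c : F)
    (Matrix.GeneralLinearGroup.det_ne_zero S) hT
  rw [Fintype.card_fin, ← Matrix.GeneralLinearGroup.val_det_apply] at h1
  have h1' : (c : F) ^ n = (c : F) ^ m * (c : F) ^ m := by
    rw [← pow_add, hnm, two_mul]
  rw [h1'] at h1
  have h3 : (((Matrix.GeneralLinearGroup.det T : Fˣ) : F) - (c : F) ^ m) *
      (((Matrix.GeneralLinearGroup.det T : Fˣ) : F) + (c : F) ^ m) = 0 := by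
    linear_combination h1
  rcases mul_eq_zero.mp h3 with h | h
  · left
    apply Units.ext
    rw [Units.val_pow_eq_pow_val]
    exact sub_eq_zero.mp h
  · right
    apply Units.ext
    rw [Units.val_mul, Units.val_neg, Units.val_one, Units.val_pow_eq_pow_val]
    linear_combination h

theorem simDetGroup_le_of_even {m : ℕ} (hnm : n = 2 * m) (S : GLn) :
    simDetGroup S ≤ Subgroup.zpowers (-1 : Fˣ) ⊔ (powMonoidHom m : Fˣ →* Fˣ).range := by
  intro d hd
  rw [simDetGroup_eq_simDetM, mem_simDetM_iff] at hd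
  obtain ⟨T, c, hT, hdet⟩ := hd
  rcases det_eq_or_of_even hnm S T c hT with h | h
  · rw [← hdet, h]
    exact Subgroup.mem_sup_right ⟨c, rfl⟩
  · rw [← hdet, h]
    exact Subgroup.mul_mem_sup (Subgroup.mem_zpowers _) ⟨c, rfl⟩

/-- the `m`-th power of a multiplier is a similitude determinant, when `-1` is -/
theorem pow_mult_mem {m : ℕ} (hnm : n = 2 * m) (S T : GLn) (c : Fˣ)
    (hneg : (-1 : Fˣ) ∈ simDetGroup S)
    (hT : (T : Mn)ᵀ * (S : Mn) * (T : Mn) = (c : F) • (S : Mn)) : c ^ m ∈ simDetGroup S := by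
  have hd : Matrix.GeneralLinearGroup.det T ∈ simDetGroup S := by
    rw [simDetGroup_eq_simDetM, mem_simDetM_iff]
    exact ⟨T, c, hT, rfl⟩
  rcases det_eq_or_of_even hnm S T c hT with h | h
  · rw [← h]
    exact hd
  · have h5 : c ^ m = -1 * Matrix.GeneralLinearGroup.det T := by
      rw [h, ← mul_assoc, neg_mul_neg, one_mul, one_mul]
    rw [h5]
    exact Subgroup.mul_mem _ hneg hd

/-- **symmetric type in even dimension**: the subgroup generated by the similitude determinants
and the `n`-th powers -/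
theorem sup_eq_of_sym [Fintype F] (hq : Odd (Fintype.card F)) {m : ℕ} (hnm : n = 2 * m) (S : GLn)
    (hneg : (-1 : Fˣ) ∈ simDetGroup S)
    (hns : ∃ (T : GLn) (c : Fˣ), (T : Mn)ᵀ * (S : Mn) * (T : Mn) = (c : F) • (S : Mn) ∧
      ¬ IsSquare (c : F)) :
    simDetGroup S ⊔ (powMonoidHom n : Fˣ →* Fˣ).range =
      Subgroup.zpowers (-1 : Fˣ) ⊔ (powMonoidHom m : Fˣ →* Fˣ).range := by
  obtain ⟨T, c, hT, hc⟩ := hns
  apply le_antisymm
  · apply sup_le (simDetGroup_le_of_even hnm S)
    rintro _ ⟨x, rfl⟩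
    apply Subgroup.mem_sup_right
    refine ⟨x * x, ?_⟩
    rw [powMonoidHom_apply, powMonoidHom_apply, hnm, ← pow_two, ← pow_mul]
  · apply sup_le
    · rw [Subgroup.zpowers_le]
      exact Subgroup.mem_sup_left hneg
    · rintro _ ⟨x, rfl⟩
      rw [powMonoidHom_apply]
      by_cases hx : IsSquare (x : F)
      · obtain ⟨y, hy⟩ := hx
        have hy0 : y ≠ 0 := by
          rintro rfl
          rw [mul_zero] at hy
          exact x.ne_zero hy
        apply Subgroup.mem_sup_right
        refine ⟨Units.mk0 y hy0, ?_⟩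
        rw [powMonoidHom_apply, hnm, pow_mul, pow_two]
        congr 1
        apply Units.ext
        rw [Units.val_mul, Units.val_mk0, hy]
      · have h5 := (Cfsg.Agent.Lib.Helper5.isSquare_mul_nonsquare_iff hq (x : F) (c : F)
          x.ne_zero hc).mpr hx
        obtain ⟨y, hy⟩ := h5
        have hy0 : y ≠ 0 := by
          rintro rfl
          rw [mul_zero] at hy
          exact (mul_ne_zero x.ne_zero c.ne_zero) hy
        have h6 : x = Units.mk0 y hy0 * Units.mk0 y hy0 * c⁻¹ := by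
          rw [eq_mul_inv_iff_mul_eq]
          apply Units.ext
          rw [Units.val_mul, Units.val_mul, Units.val_mk0, hy]
        have h7 : x ^ m = (c ^ m)⁻¹ * (Units.mk0 y hy0) ^ n := by
          rw [h6, mul_pow, ← pow_two, ← pow_mul, ← hnm, inv_pow, mul_comm]
        rw [h7]
        exact Subgroup.mul_mem_sup (Subgroup.inv_mem _ (pow_mult_mem hnm S T c hneg hT))
          ⟨Units.mk0 y hy0, rfl⟩

end general

end Cfsg.Agent.Lib.Helper5.PslGraph
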