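import Mathlib
import Cfsg.Prelude.Def_LieTypeDatum
import Cfsg.Agent.Lib.Helper5.PslGraph.SimDet
import Cfsg.Agent.Lib.Helper5.OAut.SimInst
import Cfsg.Agent.Lib.Helper5.OParab.UnipMinusEven
import Cfsg.Agent.S2615

set_option autoImplicit false

/-! Determinants of similitudes for the three standard representatives. -/

namespace Cfsg.Agent.Lib.Helper5.PslGraph

open Cfsg Matrix Cfsg.Agent.Lib.Helper9.APSL

section transport
variable {F : Type*} [Field F] {n : ℕ} {ι : Type} [Fintype ι] [DecidableEq ι]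

local notation "Mn" => Matrix (Fin n) (Fin n) F
local notation "GLn" => GL (Fin n) F

/-- a similitude of a quadratic map is a similitude of its Gram matrix -/
theorem sim_mat_of_quad (G : Matrix ι ι F) (Q : (ι → F) → F)
    (hGQ : ∀ u v, bf G u v = QuadraticMap.polar Q u v) (g : Matrix ι ι F) (ν : F)
    (hg : ∀ v, Q (g *ᵥ v) = ν * Q v) : gᵀ * G * g = ν • G := by
  apply bf_ext
  intro u v
  rw [← bf_mulVec, bf_smul, hGQ, hGQ]
  unfold QuadraticMap.polar
  rw [← Matrix.mulVec_add, hg, hg, hg]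
  ring

/-- transport of a similitude to the reindexed representative -/
theorem exists_sim_repGL (e : ι ≃ Fin n) (G : Matrix ι ι F) (hG : G.det ≠ 0) (T : GL ι F)
    (c : F) (hT : (T : Matrix ι ι F)ᵀ * G * (T : Matrix ι ι F) = c • G) :
    ∃ T' : GLn, (T' : Mn)ᵀ * (repGL e G hG : Mn) * (T' : Mn) = c • (repGL e G hG : Mn) := by
  refine ⟨Matrix.GeneralLinearGroup.mkOfDetNeZero (Matrix.reindex e e (T : Matrix ι ι F))
    (by rw [Matrix.det_reindex_self]; exact Matrix.GeneralLinearGroup.det_ne_zero T), ?_⟩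
  show (Matrix.reindex e e (T : Matrix ι ι F))ᵀ * (repGL e G hG : Mn) *
    (Matrix.reindex e e (T : Matrix ι ι F)) = c • (repGL e G hG : Mn)
  rw [repGL_coe, Matrix.reindex_apply, Matrix.reindex_apply, Matrix.transpose_submatrix,
    Matrix.submatrix_mul_equiv, Matrix.submatrix_mul_equiv, hT]
  rfl

end transport

section reps
variable {F : Type*} [Field F] {n : ℕ}

local notation "Mn" => Matrix (Fin n) (Fin n) F
local notation "GLn" => GL (Fin n) F

/-- plus type: a similitude with nonsquare multiplier -/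
theorem exists_nonsquare_sim_plus [Fintype F] (h2 : (2 : F) ≠ 0) (m : ℕ)
    (e : Fin m ⊕ Fin m ≃ Fin n) :
    ∃ (T : GLn) (c : Fˣ), (T : Mn)ᵀ * (repGL e (gramPlus m F) (det_gramPlus_ne_zero m) : Mn)
      * (T : Mn) = (c : F) • (repGL e (gramPlus m F) (det_gramPlus_ne_zero m) : Mn) ∧
        ¬ IsSquare (c : F) := by
  obtain ⟨ν, hν0, hν⟩ := Cfsg.Agent.Lib.Helper5.SpinorNorm.exists_nonsquare (F := F) h2
  obtain ⟨g, hg⟩ := Cfsg.Agent.Lib.Helper5.OAut.exists_sim_plus (F := F) m ν hν0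
  have h1 := sim_mat_of_quad (gramPlus m F) (Cfsg.quadFormPlus m F) (bf_gramPlus m)
    (g : Matrix (Fin m ⊕ Fin m) (Fin m ⊕ Fin m) F) ν (by
      intro v
      rw [← Cfsg.Agent.Lib.Helper5.plusForm_apply, ← Cfsg.Agent.Lib.Helper5.plusForm_apply]
      exact hg v)
  obtain ⟨T', hT'⟩ := exists_sim_repGL e (gramPlus m F) (det_gramPlus_ne_zero m) g ν h1
  exact ⟨T', Units.mk0 ν hν0, hT', hν⟩

/-- minus type: a similitude with nonsquare multiplier -/
theorem exists_nonsquare_sim_minus [Fintype F] (hodd : Odd (Fintype.card F)) (k : ℕ) (a b : F)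
    (hab : ∀ x y : F, x ^ 2 + a * x * y + b * y ^ 2 = 0 → x = 0 ∧ y = 0)
    (e : (Fin k ⊕ Fin k) ⊕ Fin 2 ≃ Fin n) (hdet : (Cfsg.Agent.S2621.gramMinus k a b).det ≠ 0) :
    ∃ (T : GLn) (c : Fˣ), (T : Mn)ᵀ * (repGL e (Cfsg.Agent.S2621.gramMinus k a b) hdet : Mn)
      * (T : Mn) = (c : F) • (repGL e (Cfsg.Agent.S2621.gramMinus k a b) hdet : Mn) ∧
        ¬ IsSquare (c : F) := by
  have h2 : (2 : F) ≠ 0 := Cfsg.Agent.Lib.Helper5.two_ne_zero_of_odd_card hodd
  have hodd' : Fintype.card F % 2 = 1 := Nat.odd_iff.mp hodd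
  obtain ⟨ν, hν0, hν⟩ := Cfsg.Agent.Lib.Helper5.SpinorNorm.exists_nonsquare (F := F) h2
  obtain ⟨s, u, hsu⟩ := Cfsg.Agent.Lib.Helper5.OParab.exists_qBin_eq hodd' h2 hab ν hν0
  have hsu' : s * s + a * (s * u) + b * (u * u) = ν := by
    rw [← hsu, Cfsg.Agent.Lib.Helper5.QuadSign.qBin_apply]
    simp only [Matrix.cons_val_zero, Matrix.cons_val_one]
    ring
  obtain ⟨g, hg⟩ := Cfsg.Agent.Lib.Helper5.OAut.exists_sim_minus k a b s u
    (by rw [hsu']; exact hν0)
  rw [hsu', Cfsg.Agent.S2615.minus_eq] at hg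
  have h1 := sim_mat_of_quad (Cfsg.Agent.S2621.gramMinus k a b) (Cfsg.quadFormMinus k F a b)
    (bf_gramMinus k a b) (g : Matrix ((Fin k ⊕ Fin k) ⊕ Fin 2) ((Fin k ⊕ Fin k) ⊕ Fin 2) F) ν hg
  obtain ⟨T', hT'⟩ := exists_sim_repGL e (Cfsg.Agent.S2621.gramMinus k a b) hdet g ν h1
  exact ⟨T', Units.mk0 ν hν0, hT', hν⟩

/-- the diagonal similitude of the symplectic form -/
theorem diag_sim_J (m : ℕ) (x : F) :
    (Matrix.fromBlocks (x • (1 : Matrix (Fin m) (Fin m) F)) 0 0 1)ᵀ * Matrix.J (Fin m) F *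
      Matrix.fromBlocks (x • (1 : Matrix (Fin m) (Fin m) F)) 0 0 1 = x • Matrix.J (Fin m) F := by
  unfold Matrix.J
  rw [Matrix.fromBlocks_transpose, Matrix.fromBlocks_multiply, Matrix.fromBlocks_multiply,
    Matrix.fromBlocks_smul]
  simp

theorem det_diag_sim (m : ℕ) (x : F) :
    (Matrix.fromBlocks (x • (1 : Matrix (Fin m) (Fin m) F)) 0 0
      (1 : Matrix (Fin m) (Fin m) F)).det = x ^ m := by
  rw [Matrix.det_fromBlocks_zero₂₁, Matrix.det_one, mul_one, Matrix.det_smul, Matrix.det_one,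
    mul_one, Fintype.card_fin]

/-- **symplectic type**: the determinants of similitudes are the `m`-th powers -/
theorem simDetM_J (m : ℕ) :
    simDetM (Matrix.J (Fin m) F) = (powMonoidHom m : Fˣ →* Fˣ).range := by
  apply le_antisymm
  · intro d hd
    rw [mem_simDetM_iff] at hd
    obtain ⟨T, c, hT, hdet⟩ := hd
    refine ⟨c, ?_⟩
    rw [powMonoidHom_apply, ← hdet]
    obtain ⟨D, hD⟩ : ∃ D : Matrix (Fin m ⊕ Fin m) (Fin m ⊕ Fin m) F,
        D = Matrix.fromBlocks (((c⁻¹ : Fˣ) : F) • (1 : Matrix (Fin m) (Fin m) F)) 0 0 1 :=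
      ⟨_, rfl⟩
    have hmem : (T : Matrix (Fin m ⊕ Fin m) (Fin m ⊕ Fin m) F) * D ∈
        Matrix.symplecticGroup (Fin m) F := by
      rw [SymplecticGroup.mem_iff', Matrix.transpose_mul]
      calc Dᵀ * (T : Matrix (Fin m ⊕ Fin m) (Fin m ⊕ Fin m) F)ᵀ * Matrix.J (Fin m) F *
            ((T : Matrix (Fin m ⊕ Fin m) (Fin m ⊕ Fin m) F) * D)
          = Dᵀ * ((T : Matrix (Fin m ⊕ Fin m) (Fin m ⊕ Fin m) F)ᵀ * Matrix.J (Fin m) F *
              (T : Matrix (Fin m ⊕ Fin m) (Fin m ⊕ Fin m) F)) * D := by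
            simp only [Matrix.mul_assoc]
        _ = (c : F) • (Dᵀ * Matrix.J (Fin m) F * D) := by
            rw [hT, Matrix.mul_smul, Matrix.smul_mul]
        _ = Matrix.J (Fin m) F := by
            rw [hD, diag_sim_J, smul_smul, ← Units.val_mul, mul_inv_cancel, Units.val_one,
              one_smul]
    have h1 := SymplecticGroup.det_eq_one hmem
    rw [Matrix.det_mul, hD, det_diag_sim] at h1
    apply Units.ext
    rw [Matrix.GeneralLinearGroup.val_det_apply, Units.val_pow_eq_pow_val]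
    have h3 : (((c⁻¹ : Fˣ) : F)) ^ m * (c : F) ^ m = 1 := by
      rw [← mul_pow, ← Units.val_mul, inv_mul_cancel, Units.val_one, one_pow]
    symm
    calc (T : Matrix (Fin m ⊕ Fin m) (Fin m ⊕ Fin m) F).det
        = (T : Matrix (Fin m ⊕ Fin m) (Fin m ⊕ Fin m) F).det *
            ((((c⁻¹ : Fˣ) : F)) ^ m * (c : F) ^ m) := by rw [h3, mul_one]
      _ = (c : F) ^ m := by rw [← mul_assoc, h1, one_mul]
  · rintro _ ⟨x, rfl⟩
    rw [powMonoidHom_apply]
    apply mem_simDetM_of_mat _ (Matrix.fromBlocks ((x : F) • (1 : Matrix (Fin m) (Fin m) F)) 0 0 1)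
      x (x ^ m)
    · exact diag_sim_J m (x : F)
    · rw [det_diag_sim, Units.val_pow_eq_pow_val]

end reps

end Cfsg.Agent.Lib.Helper5.PslGraph
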