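import Mathlib
import Cfsg.Prelude.Def_LieTypeDatum
import Cfsg.Agent.Lib.Helper5.PslGraph.CardPG
import Cfsg.Agent.Lib.Helper5.PslGraph.SimDetReps
import Cfsg.Agent.S0245
import Cfsg.Agent.S0287
import Cfsg.Agent.S0288

set_option autoImplicit false

/-! Orders of `PGSp`, `PGO⁺`, `PGO⁻`; they are different. -/

namespace Cfsg.Agent.Lib.Helper5.PslGraph

open Cfsg Matrix

section symp
variable {F : Type*} [Field F] (m : ℕ)

local notation "M2" => Matrix (Fin m ⊕ Fin m) (Fin m ⊕ Fin m) F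

theorem sympForm_eq_bf (u v : Fin m ⊕ Fin m → F) :
    sympForm m F u v = bf (Matrix.J (Fin m) F) u v := rfl

theorem spToGL_injective : Function.Injective (spToGL (F := F) m) := by
  intro a b hab
  apply Subtype.ext
  have h1 := congrArg (fun g : GL (Fin m ⊕ Fin m) F => (g : M2)) hab
  simp only [spToGL_coe] at h1
  exact h1

/-- **order of the projective conformal symplectic group** -/
theorem card_PGSp_eq [Finite F] (hm : 1 ≤ m) :
    Nat.card (Cfsg.PGSp m F) = Nat.card ↥(Matrix.symplecticGroup (Fin m) F) := by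
  have : Nonempty (Fin m ⊕ Fin m) := ⟨Sum.inl ⟨0, hm⟩⟩
  show Nat.card (projQuot (Geo.similarityGroup (F := F) (sympForm m F))) = _
  have hZ : Geo.scalars (Fin m ⊕ Fin m) F ≤ Geo.similarityGroup (F := F) (sympForm m F) := by
    intro g hg
    rw [Geo.mem_scalars_iff] at hg
    obtain ⟨c, hc⟩ := hg
    refine ⟨c * c, fun u v => ?_⟩
    rw [hc, Matrix.smul_mulVec, Matrix.smul_mulVec, Matrix.one_mulVec, Matrix.one_mulVec,
      Cfsg.Agent.Lib.Helper5.SympTv.sympForm_smul_left,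
      Cfsg.Agent.Lib.Helper5.SympTv.sympForm_smul_right, Units.val_mul, mul_assoc]
  have hs : ∀ ν : F, ν ≠ 0 → ∃ g : GL (Fin m ⊕ Fin m) F, ∀ u v,
      sympForm m F ((g : M2) *ᵥ u) ((g : M2) *ᵥ v) = ν * sympForm m F u v := by
    intro ν hν
    refine ⟨Matrix.GeneralLinearGroup.mkOfDetNeZero
      (Matrix.fromBlocks (ν • (1 : Matrix (Fin m) (Fin m) F)) 0 0 1)
      (by rw [det_diag_sim]; exact pow_ne_zero _ hν), fun u v => ?_⟩
    show sympForm m F ((Matrix.fromBlocks (ν • (1 : Matrix (Fin m) (Fin m) F)) 0 0 1) *ᵥ u)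
      ((Matrix.fromBlocks (ν • (1 : Matrix (Fin m) (Fin m) F)) 0 0 1) *ᵥ v) = ν * sympForm m F u v
    rw [sympForm_eq_bf, sympForm_eq_bf, bf_mulVec, diag_sim_J, bf_smul]
  have h1 := card_projQuot_eq (Geo.similarityGroup (F := F) (sympForm m F))
    (spToGL (F := F) m).range hZ
    (bMult (sympForm m F) _ _ (sympForm_pair m hm))
    (bMult_surjective (sympForm m F) _ _ (sympForm_pair m hm) hs)
    (by
      intro g
      rw [bMult_eq_one_iff]
      constructor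
      · intro h
        have hmem : ((g : GL (Fin m ⊕ Fin m) F) : M2) ∈ Matrix.symplecticGroup (Fin m) F :=
          (Cfsg.Agent.Lib.Helper5.SympBridge.mem_symplectic_iff m _).mpr h
        exact ⟨⟨_, hmem⟩, Units.ext rfl⟩
      · rintro ⟨h, hh⟩ u v
        rw [← hh, spToGL_coe]
        exact Cfsg.Agent.Lib.Helper5.SympTv.sympForm_mulVec m h.2 u v)
    (by
      rintro _ ⟨h, rfl⟩
      exact spToGL_mem_GSp m h)
  rw [h1]
  exact (Nat.card_congr (MonoidHom.ofInjective (spToGL_injective m)).toEquiv).symm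

end symp

section orth
variable {F : Type*} [Field F]

theorem quadFormPlus_smul (m : ℕ) (c : F) (v : Fin m ⊕ Fin m → F) :
    Cfsg.quadFormPlus m F (c • v) = c * c * Cfsg.quadFormPlus m F v := by
  rw [← Cfsg.Agent.Lib.Helper5.plusForm_apply, ← Cfsg.Agent.Lib.Helper5.plusForm_apply,
    QuadraticMap.map_smul, smul_eq_mul]

theorem quadFormMinus_smul (k : ℕ) (a b c : F) (v : (Fin k ⊕ Fin k) ⊕ Fin 2 → F) :
    Cfsg.quadFormMinus k F a b (c • v) = c * c * Cfsg.quadFormMinus k F a b v := by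
  rw [← Cfsg.Agent.S2615.minus_eq, QuadraticMap.map_smul, smul_eq_mul]

/-- **order of `PGO⁺`** -/
theorem card_PGO_plus [Finite F] (m : ℕ) (hm : 1 ≤ m) :
    Nat.card (Cfsg.PGO F (Cfsg.quadFormPlus m F)) =
      Nat.card (isometryGroup F (Cfsg.quadFormPlus m F)) := by
  have : Nonempty (Fin m ⊕ Fin m) := ⟨Sum.inl ⟨0, hm⟩⟩
  have hw : Cfsg.quadFormPlus m F
      (Pi.single (Sum.inl ⟨0, hm⟩) 1 + Pi.single (Sum.inr ⟨0, hm⟩) 1) = 1 := by
    unfold Cfsg.quadFormPlus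
    rw [Finset.sum_eq_single ⟨0, hm⟩]
    · simp
    · intro b _ hb
      simp [hb]
    · intro h
      exact absurd (Finset.mem_univ _) h
  apply card_PGO_eq _ _ hw (quadFormPlus_smul m)
  intro ν hν
  obtain ⟨g, hg⟩ := Cfsg.Agent.Lib.Helper5.OAut.exists_sim_plus (F := F) m ν hν
  refine ⟨g, fun v => ?_⟩
  rw [← Cfsg.Agent.Lib.Helper5.plusForm_apply, ← Cfsg.Agent.Lib.Helper5.plusForm_apply]
  exact hg v

/-- **order of `PGO⁻`** -/
theorem card_PGO_minus [Fintype F] (hodd : Odd (Fintype.card F)) (k : ℕ) (a b : F)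
    (hab : ∀ x y : F, x ^ 2 + a * x * y + b * y ^ 2 = 0 → x = 0 ∧ y = 0) :
    Nat.card (Cfsg.PGO F (Cfsg.quadFormMinus k F a b)) =
      Nat.card (isometryGroup F (Cfsg.quadFormMinus k F a b)) := by
  have h2 : (2 : F) ≠ 0 := Cfsg.Agent.Lib.Helper5.two_ne_zero_of_odd_card hodd
  have hodd' : Fintype.card F % 2 = 1 := Nat.odd_iff.mp hodd
  have hw : Cfsg.quadFormMinus k F a b (Pi.single (Sum.inr 0) 1) = 1 := by
    unfold Cfsg.quadFormMinus
    simp
  apply card_PGO_eq _ _ hw (quadFormMinus_smul k a b)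
  intro ν hν
  obtain ⟨s, u, hsu⟩ := Cfsg.Agent.Lib.Helper5.OParab.exists_qBin_eq hodd' h2 hab ν hν
  have hsu' : s * s + a * (s * u) + b * (u * u) = ν := by
    rw [← hsu, Cfsg.Agent.Lib.Helper5.QuadSign.qBin_apply]
    simp only [Matrix.cons_val_zero, Matrix.cons_val_one]
    ring
  obtain ⟨g, hg⟩ := Cfsg.Agent.Lib.Helper5.OAut.exists_sim_minus k a b s u
    (by rw [hsu']; exact hν)
  rw [hsu', Cfsg.Agent.S2615.minus_eq] at hg
  exact ⟨g, hg⟩

end orth

section numeric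

theorem card_sp_ne_card_orth (q m : ℕ) (hq : 3 ≤ q) (hm : 2 ≤ m) (s : ℕ) (hs : s ≤ q ^ m + 1) :
    q ^ (m ^ 2) * ∏ i ∈ Finset.range m, (q ^ (2 * (i + 1)) - 1) ≠
      2 * q ^ (m * (m - 1)) * s * ∏ i ∈ Finset.range (m - 1), (q ^ (2 * (i + 1)) - 1) := by
  obtain ⟨k, rfl⟩ : ∃ k, m = k + 1 := ⟨m - 1, by omega⟩
  rw [Nat.add_sub_cancel, Finset.prod_range_succ]
  obtain ⟨P, hP⟩ : ∃ P, P = ∏ i ∈ Finset.range k, (q ^ (2 * (i + 1)) - 1) := ⟨_, rfl⟩
  rw [← hP]
  have hP0 : 0 < P := by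
    rw [hP]
    apply Finset.prod_pos
    intro i _
    have : 1 < q ^ (2 * (i + 1)) := Nat.one_lt_pow (by omega) (by omega)
    omega
  obtain ⟨A, hA⟩ : ∃ A, A = q ^ ((k + 1) * k) := ⟨_, rfl⟩
  have hA0 : 0 < A := by
    rw [hA]
    exact pow_pos (by omega) _
  obtain ⟨x, hx⟩ : ∃ x, x = q ^ (k + 1) := ⟨_, rfl⟩
  have hx9 : 9 ≤ x := by
    rw [hx]
    calc 9 = 3 ^ 2 := by norm_num
      _ ≤ q ^ 2 := Nat.pow_le_pow_left hq 2
      _ ≤ q ^ (k + 1) := Nat.pow_le_pow_right (by omega) (by omega)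
  have h1 : q ^ ((k + 1) ^ 2) = A * x := by
    rw [hA, hx, ← pow_add]
    congr 1
    ring
  have h2 : q ^ (2 * (k + 1)) = x * x := by
    rw [hx, ← pow_add]
    congr 1
    ring
  rw [h1, h2, ← hA]
  rw [← hx] at hs
  obtain ⟨z, rfl⟩ : ∃ z, x = z + 1 := ⟨x - 1, by omega⟩
  have h3 : (z + 1) * (z + 1) - 1 = z * (z + 2) := by
    apply Nat.sub_eq_of_eq_add
    ring
  rw [h3]
  apply ne_of_gt
  have h4 : 2 * s < (z + 1) * (z * (z + 2)) := by
    have h5 : 2 * s ≤ 2 * (z + 2) := by omega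
    have h6 : 2 * (z + 2) < (z + 1) * z * (z + 2) := by
      apply Nat.mul_lt_mul_of_pos_right _ (by omega)
      nlinarith
    calc 2 * s ≤ 2 * (z + 2) := h5
      _ < (z + 1) * z * (z + 2) := h6
      _ = (z + 1) * (z * (z + 2)) := by ring
  calc 2 * A * s * P = (A * P) * (2 * s) := by ring
    _ < (A * P) * ((z + 1) * (z * (z + 2))) :=
        Nat.mul_lt_mul_of_pos_left h4 (Nat.mul_pos hA0 hP0)
    _ = A * (z + 1) * (P * (z * (z + 2))) := by ring

end numeric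

section notequiv
variable {F : Type*} [Field F] [Fintype F]

theorem three_le_card_of_odd (hodd : Odd (Fintype.card F)) : 3 ≤ Fintype.card F := by
  have h1 : 1 < Fintype.card F := Fintype.one_lt_card
  obtain ⟨t, ht⟩ := hodd
  omega

theorem not_equiv_PGO_plus_PGSp (hodd : Odd (Fintype.card F)) (m : ℕ) (hm : 2 ≤ m) :
    ¬ Nonempty (Cfsg.PGO F (Cfsg.quadFormPlus m F) ≃* Cfsg.PGSp m F) := by
  rintro ⟨e⟩
  have h1 := Nat.card_congr e.toEquiv
  rw [card_PGO_plus m (by omega), Cfsg.Agent.S0287.result rfl m (by omega),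
    card_PGSp_eq m (by omega), Cfsg.Agent.S0245.result rfl m] at h1
  refine card_sp_ne_card_orth (Fintype.card F) m (three_le_card_of_odd hodd) hm
    (Fintype.card F ^ m - 1) (by omega) h1.symm

theorem not_equiv_PGO_minus_PGSp (hodd : Odd (Fintype.card F)) (m : ℕ) (hm : 2 ≤ m) (a b : F)
    (hab : ∀ x y : F, x ^ 2 + a * x * y + b * y ^ 2 = 0 → x = 0 ∧ y = 0) :
    ¬ Nonempty (Cfsg.PGO F (Cfsg.quadFormMinus (m - 1) F a b) ≃* Cfsg.PGSp m F) := by
  rintro ⟨e⟩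
  have h1 := Nat.card_congr e.toEquiv
  rw [card_PGO_minus hodd (m - 1) a b hab, Cfsg.Agent.S0288.result rfl m (by omega) a b hab,
    card_PGSp_eq m (by omega), Cfsg.Agent.S0245.result rfl m] at h1
  refine card_sp_ne_card_orth (Fintype.card F) m (three_le_card_of_odd hodd) hm
    (Fintype.card F ^ m + 1) le_rfl h1.symm

end notequiv

end Cfsg.Agent.Lib.Helper5.PslGraph
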