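import Mathlib
import Cfsg.Prelude.Def_LieTypeDatum
import Cfsg.Agent.Lib.Helper5.PslGraph.SimDetReps

set_option autoImplicit false

/-! Multipliers and determinants of similitudes of symmetric and skew matrices. -/

namespace Cfsg.Agent.Lib.Helper5.PslGraph

open Cfsg Matrix Cfsg.Agent.Lib.Helper9.APSL

section sympdet
variable {F : Type*} [Field F]

/-- the determinant of a similitude of the standard symplectic form -/
theorem det_of_sim_J (m : ℕ) (V : Matrix (Fin m ⊕ Fin m) (Fin m ⊕ Fin m) F) (c : Fˣ)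
    (hV : Vᵀ * Matrix.J (Fin m) F * V = (c : F) • Matrix.J (Fin m) F) : V.det = (c : F) ^ m := by
  obtain ⟨D, hD⟩ : ∃ D : Matrix (Fin m ⊕ Fin m) (Fin m ⊕ Fin m) F,
      D = Matrix.fromBlocks (((c⁻¹ : Fˣ) : F) • (1 : Matrix (Fin m) (Fin m) F)) 0 0 1 :=
    ⟨_, rfl⟩
  have hmem : V * D ∈ Matrix.symplecticGroup (Fin m) F := by
    rw [SymplecticGroup.mem_iff', Matrix.transpose_mul]
    calc Dᵀ * Vᵀ * Matrix.J (Fin m) F * (V * D)
        = Dᵀ * (Vᵀ * Matrix.J (Fin m) F * V) * D := by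
          simp only [Matrix.mul_assoc]
      _ = (c : F) • (Dᵀ * Matrix.J (Fin m) F * D) := by
          rw [hV, Matrix.mul_smul, Matrix.smul_mul]
      _ = Matrix.J (Fin m) F := by
          rw [hD, diag_sim_J, smul_smul, ← Units.val_mul, mul_inv_cancel, Units.val_one,
            one_smul]
  have h1 := SymplecticGroup.det_eq_one hmem
  rw [Matrix.det_mul, hD, det_diag_sim] at h1
  have h3 : (((c⁻¹ : Fˣ) : F)) ^ m * (c : F) ^ m = 1 := by
    rw [← mul_pow, ← Units.val_mul, inv_mul_cancel, Units.val_one, one_pow]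
  calc V.det = V.det * ((((c⁻¹ : Fˣ) : F)) ^ m * (c : F) ^ m) := by rw [h3, mul_one]
    _ = (c : F) ^ m := by rw [← mul_assoc, h1, one_mul]

end sympdet

section transport
variable {F : Type*} [Field F] {n : ℕ}

local notation "Mn" => Matrix (Fin n) (Fin n) F
local notation "GLn" => GL (Fin n) F

/-- similitudes transported along a congruence -/
theorem sim_congr (hn : 0 < n) (S S' R : GLn) (c₁ : F)
    (hR : (R : Mn)ᵀ * (S' : Mn) * (R : Mn) = c₁ • (S : Mn)) (U : GLn) (μ : F)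
    (hU : (U : Mn)ᵀ * (S' : Mn) * (U : Mn) = μ • (S' : Mn)) :
    ((R⁻¹ * U * R : GLn) : Mn)ᵀ * (S : Mn) * ((R⁻¹ * U * R : GLn) : Mn) = μ • (S : Mn) := by
  have hc0 : c₁ ≠ 0 := by
    rintro rfl
    rw [zero_smul] at hR
    have h1 := congrArg Matrix.det hR
    rw [Matrix.det_mul, Matrix.det_mul, Matrix.det_transpose] at h1
    have hT : (R : Mn).det ≠ 0 := Matrix.GeneralLinearGroup.det_ne_zero R
    have hS' : (S' : Mn).det ≠ 0 := Matrix.GeneralLinearGroup.det_ne_zero S'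
    have : Nonempty (Fin n) := ⟨⟨0, hn⟩⟩
    rw [Matrix.det_zero] at h1
    exact mul_ne_zero (mul_ne_zero hT hS') hT h1
  have h3 : ((R⁻¹ * U * R : GLn) : Mn)ᵀ * (c₁ • (S : Mn)) * ((R⁻¹ * U * R : GLn) : Mn)
      = c₁ • (μ • (S : Mn)) := by
    rw [← hR, Units.val_mul, Units.val_mul, Matrix.transpose_mul, Matrix.transpose_mul]
    calc (R : Mn)ᵀ * ((U : Mn)ᵀ * ((R⁻¹ : GLn) : Mn)ᵀ) * ((R : Mn)ᵀ * (S' : Mn) * (R : Mn))
          * (((R⁻¹ : GLn) : Mn) * (U : Mn) * (R : Mn))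
        = (R : Mn)ᵀ * ((U : Mn)ᵀ * ((((R⁻¹ : GLn) : Mn)ᵀ * (R : Mn)ᵀ) * (S' : Mn) *
            ((R : Mn) * ((R⁻¹ : GLn) : Mn))) * (U : Mn)) * (R : Mn) := by
          simp only [Matrix.mul_assoc]
      _ = (R : Mn)ᵀ * ((U : Mn)ᵀ * (S' : Mn) * (U : Mn)) * (R : Mn) := by
          rw [← Matrix.transpose_mul, mul_inv_coe, Matrix.transpose_one, Matrix.one_mul,
            Matrix.mul_one]
      _ = μ • ((R : Mn)ᵀ * (S' : Mn) * (R : Mn)) := by
          rw [hU, Matrix.mul_smul, Matrix.smul_mul]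
      _ = c₁ • (μ • (S : Mn)) := by
          rw [hR, smul_comm]
  rw [Matrix.mul_smul, Matrix.smul_mul] at h3
  have h4 := congrArg (fun X => c₁⁻¹ • X) h3
  simp only [smul_smul, inv_mul_cancel₀ hc0, one_smul] at h4
  rw [← mul_assoc, inv_mul_cancel₀ hc0, one_mul] at h4
  exact h4

theorem det_conj (R U : GLn) :
    ((R⁻¹ * U * R : GLn) : Mn).det = (U : Mn).det := by
  rw [← Matrix.GeneralLinearGroup.val_det_apply, ← Matrix.GeneralLinearGroup.val_det_apply,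
    map_mul, map_mul, map_inv, mul_comm, ← mul_assoc, mul_inv_cancel, one_mul]

/-- a similitude of a reindexed matrix, transported back -/
theorem sim_reindex_symm {ι : Type} [Fintype ι] [DecidableEq ι] (e : ι ≃ Fin n)
    (G : Matrix ι ι F) (U : Mn) (c : F)
    (hU : Uᵀ * Matrix.reindex e e G * U = c • Matrix.reindex e e G) :
    (Matrix.reindex e.symm e.symm U)ᵀ * G * (Matrix.reindex e.symm e.symm U) = c • G := by
  have h1 := congrArg (Matrix.reindex e.symm e.symm) hU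
  simp only [Matrix.reindex_apply, Equiv.symm_symm] at h1
  rw [← Matrix.submatrix_mul_equiv _ _ _ e, ← Matrix.submatrix_mul_equiv _ _ _ e] at h1
  simp only [Matrix.submatrix_submatrix, Equiv.symm_comp_self, Matrix.submatrix_id_id,
    Matrix.transpose_submatrix, Matrix.submatrix_smul, Pi.smul_apply] at h1
  simp only [Matrix.reindex_apply, Equiv.symm_symm, Matrix.transpose_submatrix]
  exact h1

end transport

section mults
variable {F : Type*} [Field F] {n : ℕ}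

local notation "Mn" => Matrix (Fin n) (Fin n) F
local notation "GLn" => GL (Fin n) F

/-- the determinant of a similitude of a skew matrix -/
theorem det_eq_pow_of_skew (h2 : (2 : F) ≠ 0) {m : ℕ} (hnm : n = 2 * m) (hn : 2 ≤ n)
    (S : GLn) (hS : (S : Mn)ᵀ = -(S : Mn)) (T : GLn) (c : Fˣ)
    (hT : (T : Mn)ᵀ * (S : Mn) * (T : Mn) = (c : F) • (S : Mn)) :
    (T : Mn).det = (c : F) ^ m := by
  have hn0 : 0 < n := by omega
  have hcp : Fintype.card (Fin m ⊕ Fin m) = n := by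
    rw [Fintype.card_sum, Fintype.card_fin]
    omega
  obtain ⟨ep⟩ : Nonempty (Fin m ⊕ Fin m ≃ Fin n) := ⟨Fintype.equivFinOfCardEq hcp⟩
  have hJ : (Matrix.J (Fin m) F).det ≠ 0 := by
    intro h
    have := Matrix.J_det_mul_J_det (Fin m) F
    rw [h, zero_mul] at this
    exact zero_ne_one this
  have h1 := isConjUnder_symm _ (skew_class h2 hnm hn ep hJ S hS)
  obtain ⟨R, c₁, hR⟩ := (isConjUnder_gB_iff hn _ _).mp h1
  have h3 := sim_congr hn0 (repGL ep (Matrix.J (Fin m) F) hJ) S R c₁ hR T (c : F) hT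
  rw [repGL_coe] at h3
  have h4 := sim_reindex_symm ep (Matrix.J (Fin m) F) _ (c : F) h3
  have h5 := det_of_sim_J m _ c h4
  rw [Matrix.reindex_apply, Matrix.det_submatrix_equiv_self, det_conj] at h5
  exact h5

/-- `c` is the multiplier of a similitude of `S` -/
def IsMult (S : GLn) (c : Fˣ) : Prop :=
  ∃ T : GLn, (T : Mn)ᵀ * (S : Mn) * (T : Mn) = (c : F) • (S : Mn)

theorem isMult_sq (S : GLn) (l : Fˣ) : IsMult S (l * l) := by
  refine ⟨Matrix.GeneralLinearGroup.scalar (Fin n) l, ?_⟩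
  have h1 : ((Matrix.GeneralLinearGroup.scalar (Fin n) l : GLn) : Mn) = (l : F) • (1 : Mn) := by
    rw [Matrix.GeneralLinearGroup.coe_scalar, Matrix.scalar_apply, Matrix.smul_one_eq_diagonal]
  rw [h1, Matrix.transpose_smul, Matrix.transpose_one, Matrix.smul_mul, Matrix.one_mul,
    Matrix.mul_smul, Matrix.mul_one, smul_smul, Units.val_mul]

theorem isMult_mul (S : GLn) (c c' : Fˣ) (h : IsMult S c) (h' : IsMult S c') :
    IsMult S (c * c') := by
  obtain ⟨T, hT⟩ := h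
  obtain ⟨T', hT'⟩ := h'
  refine ⟨T * T', ?_⟩
  rw [Units.val_mul, Matrix.transpose_mul]
  calc (T' : Mn)ᵀ * (T : Mn)ᵀ * (S : Mn) * ((T : Mn) * (T' : Mn))
      = (T' : Mn)ᵀ * ((T : Mn)ᵀ * (S : Mn) * (T : Mn)) * (T' : Mn) := by
        simp only [Matrix.mul_assoc]
    _ = ((c * c' : Fˣ) : F) • (S : Mn) := by
        rw [hT, Matrix.mul_smul, Matrix.smul_mul, hT', smul_smul, Units.val_mul]

theorem isMult_congr (hn : 0 < n) (S S' R : GLn) (c₁ : F)
    (hR : (R : Mn)ᵀ * (S' : Mn) * (R : Mn) = c₁ • (S : Mn)) (c : Fˣ) (h : IsMult S' c) :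
    IsMult S c := by
  obtain ⟨U, hU⟩ := h
  exact ⟨R⁻¹ * U * R, sim_congr hn S S' R c₁ hR U (c : F) hU⟩

theorem isMult_of_isConjUnder (hn : 2 ≤ n) (S S' : GLn)
    (h : IsConjUnder (Cfsg.inndiagPSL n F) (gB S) (gB S')) (c : Fˣ) (hc : IsMult S' c) :
    IsMult S c := by
  obtain ⟨R, c₁, hR⟩ := (isConjUnder_gB_iff hn S S').mp h
  exact isMult_congr (by omega) S S' R c₁ hR c hc

theorem isMult_all [Fintype F] (hq : Odd (Fintype.card F)) (S : GLn) (c₀ : Fˣ)
    (h : IsMult S c₀) (hns : ¬ IsSquare (c₀ : F)) (c : Fˣ) : IsMult S c := by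
  by_cases hx : IsSquare (c : F)
  · obtain ⟨y, hy⟩ := hx
    have hy0 : y ≠ 0 := by
      rintro rfl
      rw [mul_zero] at hy
      exact c.ne_zero hy
    have h1 : c = Units.mk0 y hy0 * Units.mk0 y hy0 := by
      apply Units.ext
      rw [Units.val_mul, Units.val_mk0, hy]
    rw [h1]
    exact isMult_sq S _
  · have h5 := (Cfsg.Agent.Lib.Helper5.isSquare_mul_nonsquare_iff hq (c : F) (c₀ : F)
      c.ne_zero hns).mpr hx
    obtain ⟨y, hy⟩ := h5
    have hy0 : y ≠ 0 := by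
      rintro rfl
      rw [mul_zero] at hy
      exact (mul_ne_zero c.ne_zero c₀.ne_zero) hy
    have hc0 : ((c₀⁻¹ : Fˣ) : F) ≠ 0 := (c₀⁻¹).ne_zero
    have h6 : c = c₀ * ((Units.mk0 y hy0 * c₀⁻¹) * (Units.mk0 y hy0 * c₀⁻¹)) := by
      have h7 : Units.mk0 y hy0 * Units.mk0 y hy0 = c * c₀ := by
        apply Units.ext
        rw [Units.val_mul, Units.val_mk0, Units.val_mul, hy]
      calc c = (c * c₀) * c₀⁻¹ := by rw [mul_inv_cancel_right]
        _ = Units.mk0 y hy0 * Units.mk0 y hy0 * c₀⁻¹ := by rw [h7]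
        _ = c₀ * ((Units.mk0 y hy0 * c₀⁻¹) * (Units.mk0 y hy0 * c₀⁻¹)) := by
            rw [mul_mul_mul_comm, mul_left_comm, mul_inv_cancel_left]
    rw [h6]
    exact isMult_mul S _ _ h (isMult_sq S _)

/-- every scalar is a multiplier of a skew matrix -/
theorem isMult_of_skew (h2 : (2 : F) ≠ 0) {m : ℕ} (hnm : n = 2 * m) (hn : 2 ≤ n)
    (S : GLn) (hS : (S : Mn)ᵀ = -(S : Mn)) (c : Fˣ) : IsMult S c := by
  have hcp : Fintype.card (Fin m ⊕ Fin m) = n := by
    rw [Fintype.card_sum, Fintype.card_fin]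
    omega
  obtain ⟨ep⟩ : Nonempty (Fin m ⊕ Fin m ≃ Fin n) := ⟨Fintype.equivFinOfCardEq hcp⟩
  have hJ : (Matrix.J (Fin m) F).det ≠ 0 := by
    intro h
    have := Matrix.J_det_mul_J_det (Fin m) F
    rw [h, zero_mul] at this
    exact zero_ne_one this
  apply isMult_of_isConjUnder hn S _ (skew_class h2 hnm hn ep hJ S hS)
  obtain ⟨T', hT'⟩ := exists_sim_repGL ep (Matrix.J (Fin m) F) hJ
    (Matrix.GeneralLinearGroup.mkOfDetNeZero
      (Matrix.fromBlocks ((c : F) • (1 : Matrix (Fin m) (Fin m) F)) 0 0 1)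
      (by rw [det_diag_sim]; exact pow_ne_zero _ c.ne_zero)) (c : F) (diag_sim_J m (c : F))
  exact ⟨T', hT'⟩

/-- every scalar is a multiplier of a symmetric matrix of even size over a finite field of odd
order -/
theorem isMult_of_sym [Fintype F] (hodd : Odd (Fintype.card F)) {m : ℕ} (hm : 1 ≤ m)
    (hnm : n = 2 * m) (S : GLn) (hS : (S : Mn)ᵀ = (S : Mn)) (c : Fˣ) : IsMult S c := by
  have h2 : (2 : F) ≠ 0 := Cfsg.Agent.Lib.Helper5.two_ne_zero_of_odd_card hodd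
  have h4 : (4 : F) ≠ 0 := by
    have : (4 : F) = 2 * 2 := by norm_num
    rw [this]
    exact mul_ne_zero h2 h2
  have hn : 2 ≤ n := by omega
  have hchar : ringChar F ≠ 2 := by
    intro h
    have h3 : (2 : F) = 0 := by
      have := ringChar.Nat.cast_ringChar (R := F)
      rw [h] at this
      exact_mod_cast this
    exact h2 h3
  obtain ⟨d, hd⟩ := FiniteField.exists_nonsquare hchar
  obtain ⟨ζ₀, hζd⟩ : ∃ ζ₀ : F, 1 - 4 * ζ₀ = d := ⟨(1 - d) / 4, by field_simp; ring⟩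
  have hζ₀ : ∀ t : F, t ^ 2 + t + ζ₀ ≠ 0 := by
    intro t ht
    apply hd
    refine ⟨2 * t + 1, ?_⟩
    rw [← hζd]
    linear_combination (-4 : F) * ht
  have hd0 : d ≠ 0 := by
    rintro rfl
    exact hd ⟨0, by ring⟩
  have hab : ∀ z₁ z₂ : F, z₁ ^ 2 + 1 * z₁ * z₂ + ζ₀ * z₂ ^ 2 = 0 → z₁ = 0 ∧ z₂ = 0 := by
    intro z₁ z₂ hz
    by_cases hz2 : z₂ = 0
    · subst hz2
      simp at hz
      exact ⟨hz, rfl⟩
    · exfalso
      apply hζ₀ (z₁ / z₂)
      field_simp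
      linear_combination hz
  have hcp : Fintype.card (Fin m ⊕ Fin m) = n := by
    rw [Fintype.card_sum, Fintype.card_fin]
    omega
  have hcm : Fintype.card ((Fin (m - 1) ⊕ Fin (m - 1)) ⊕ Fin 2) = n := by
    rw [Fintype.card_sum, Fintype.card_sum, Fintype.card_fin, Fintype.card_fin]
    omega
  obtain ⟨ep⟩ : Nonempty (Fin m ⊕ Fin m ≃ Fin n) := ⟨Fintype.equivFinOfCardEq hcp⟩
  obtain ⟨em⟩ : Nonempty ((Fin (m - 1) ⊕ Fin (m - 1)) ⊕ Fin 2 ≃ Fin n) :=
    ⟨Fintype.equivFinOfCardEq hcm⟩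
  have hdetm_eq : (Cfsg.Agent.S2621.gramMinus (m - 1) (1 : F) ζ₀).det = (-1) ^ m * d := by
    rw [Cfsg.Agent.S2621.det_gramMinus, ← hζd]
    obtain ⟨k, rfl⟩ : ∃ k, m = k + 1 := ⟨m - 1, by omega⟩
    rw [Nat.add_sub_cancel, pow_succ]
    ring
  have hdetm : (Cfsg.Agent.S2621.gramMinus (m - 1) (1 : F) ζ₀).det ≠ 0 := by
    rw [hdetm_eq]
    exact mul_ne_zero (pow_ne_zero _ (neg_ne_zero.mpr one_ne_zero)) hd0
  rcases sym_class hodd hm hnm ep em ζ₀ hζ₀ hdetm S hS with h5 | h5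
  · apply isMult_of_isConjUnder hn S _ h5
    obtain ⟨T, c₀, hT, hc₀⟩ := exists_nonsquare_sim_plus h2 m ep
    exact isMult_all hodd _ c₀ ⟨T, hT⟩ hc₀ c
  · apply isMult_of_isConjUnder hn S _ h5
    obtain ⟨T, c₀, hT, hc₀⟩ := exists_nonsquare_sim_minus hodd (m - 1) 1 ζ₀ hab em hdetm
    exact isMult_all hodd _ c₀ ⟨T, hT⟩ hc₀ c

/-- a symmetric matrix has an isometry of determinant `-1` -/
theorem exists_isometry_det_neg_one (hn : 0 < n) (h2 : (2 : F) ≠ 0) (S : GLn)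
    (hS : (S : Mn)ᵀ = (S : Mn)) :
    ∃ T : GLn, (T : Mn)ᵀ * (S : Mn) * (T : Mn) = (S : Mn) ∧ (T : Mn).det = -1 := by
  obtain ⟨Q, hQv, hQnd⟩ := exists_quadForm_of_symm h2 S hS
  obtain ⟨v, hv⟩ : ∃ v, Q v ≠ 0 := by
    by_contra hcon
    push Not at hcon
    have h0 : (S : Mn) = 0 := by
      apply bf_ext_diag h2 _ _ hS (Matrix.transpose_zero)
      intro w
      rw [← hQv, hcon]
      unfold bf
      rw [Matrix.zero_mulVec, dotProduct_zero]
    have hdet : (S : Mn).det ≠ 0 := Matrix.GeneralLinearGroup.det_ne_zero S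
    have : Nonempty (Fin n) := ⟨⟨0, hn⟩⟩
    rw [h0, Matrix.det_zero] at hdet
    exact hdet rfl
  have hdet : (reflectionMatrix (⇑Q) v).det = -1 :=
    Cfsg.Agent.Lib.Helper5.Refl.reflection_det Q v hv
  refine ⟨Matrix.GeneralLinearGroup.mkOfDetNeZero (reflectionMatrix (⇑Q) v)
    (by rw [hdet]; exact neg_ne_zero.mpr one_ne_zero), ?_, hdet⟩
  show (reflectionMatrix (⇑Q) v)ᵀ * (S : Mn) * reflectionMatrix (⇑Q) v = (S : Mn)
  apply bf_ext_diag h2 _ _ _ hS
  · intro w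
    rw [← bf_mulVec, ← hQv, ← hQv, Cfsg.Agent.Lib.Helper5.Refl.reflection_preserves Q v hv]
  · rw [Matrix.transpose_mul, Matrix.transpose_mul, Matrix.transpose_transpose, hS,
      Matrix.mul_assoc]

end mults

end Cfsg.Agent.Lib.Helper5.PslGraph
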