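import Mathlib
import Cfsg.Prelude.Def_LieTypeDatum
import Cfsg.Agent.Lib.Helper5.PslGraph.SimDetReps
import Cfsg.Agent.Lib.Helper5.PslGraph.CardPGReps
import Cfsg.Agent.Lib.Helper5.PslGraph.CharTwoMain
import Cfsg.Agent.Lib.Helper5.PslGraph.OddDim
import Cfsg.Agent.Lib.Helper9.APSL15

set_option autoImplicit false

/-! The number of `PSL`-classes in the inner-diagonal class of an involutory graph automorphism. -/

namespace Cfsg.Agent.Lib.Helper5.PslGraph

open Cfsg Matrix Cfsg.Agent.Lib.Helper9.APSL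

section indexlemmas
variable {F : Type*} [Field F] [Fintype F]

theorem index_pow_range (n : ℕ) :
    (powMonoidHom n : Fˣ →* Fˣ).range.index = Nat.gcd n (Fintype.card F - 1) := by
  have h := index_sup_pow (⊥ : Subgroup Fˣ) n
  rw [bot_sup_eq, Subgroup.card_bot, Nat.div_one, Nat.card_units, Nat.card_eq_fintype_card] at h
  exact h

theorem index_neg_one_sup_pow (h2 : (2 : F) ≠ 0) (m : ℕ) :
    (Subgroup.zpowers (-1 : Fˣ) ⊔ (powMonoidHom m : Fˣ →* Fˣ).range).index =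
      Nat.gcd m ((Fintype.card F - 1) / 2) := by
  have h := index_sup_pow (Subgroup.zpowers (-1 : Fˣ)) m
  have h1 : orderOf (-1 : Fˣ) = 2 := by
    have : Fact (Nat.Prime 2) := ⟨Nat.prime_two⟩
    apply orderOf_eq_prime
    · rw [pow_two, neg_mul_neg, one_mul]
    · intro h3
      have h4 := congrArg (fun u : Fˣ => (u : F)) h3
      simp only [Units.val_neg, Units.val_one] at h4
      apply h2
      linear_combination -h4
  rw [Nat.card_zpowers, h1, Nat.card_units, Nat.card_eq_fintype_card] at h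
  exact h

end indexlemmas

section main
variable {F : Type*} [Field F] {n : ℕ}

local notation "Mn" => Matrix (Fin n) (Fin n) F
local notation "GLn" => GL (Fin n) F
local notation "PSLn" => Matrix.ProjectiveSpecialLinearGroup (Fin n) F

/-- odd dimension or characteristic two: the class count is `gcd(n, q - 1)` -/
theorem split_count_of_le [Fintype F] (hn : 2 ≤ n) (S : GLn)
    (hle : simDetGroup S ≤ (powMonoidHom n : Fˣ →* Fˣ).range) :
    Cfsg.splitClassCount (Cfsg.inndiagPSL n F) (Cfsg.Inn PSLn) (gB S) =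
      Nat.gcd n (Fintype.card F - 1) := by
  rw [splitClassCount_gB hn, sup_eq_right.mpr hle, index_pow_range]

/-- symplectic type: the class count is `gcd(m, q - 1)` -/
theorem split_count_skew [Fintype F] (h2 : (2 : F) ≠ 0) {m : ℕ} (hnm : n = 2 * m) (hn : 2 ≤ n)
    (S : GLn) (hS : (S : Mn)ᵀ = -(S : Mn)) :
    Cfsg.splitClassCount (Cfsg.inndiagPSL n F) (Cfsg.Inn PSLn) (gB S) =
      Nat.gcd m (Fintype.card F - 1) := by
  have hcp : Fintype.card (Fin m ⊕ Fin m) = n := by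
    rw [Fintype.card_sum, Fintype.card_fin]
    omega
  obtain ⟨ep⟩ : Nonempty (Fin m ⊕ Fin m ≃ Fin n) := ⟨Fintype.equivFinOfCardEq hcp⟩
  have hJ : (Matrix.J (Fin m) F).det ≠ 0 := by
    intro h
    have := Matrix.J_det_mul_J_det (Fin m) F
    rw [h, zero_mul] at this
    exact zero_ne_one this
  have h1 := skew_class h2 hnm hn ep hJ S hS
  rw [splitClassCount_gB hn, simDetGroup_eq_of_isConjUnder hn _ _ h1, simDetGroup_repGL,
    simDetM_J]
  have hle : (powMonoidHom n : Fˣ →* Fˣ).range ≤ (powMonoidHom m : Fˣ →* Fˣ).range := by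
    rintro _ ⟨x, rfl⟩
    refine ⟨x * x, ?_⟩
    rw [powMonoidHom_apply, powMonoidHom_apply, hnm, ← pow_two, ← pow_mul]
  rw [sup_eq_left.mpr hle, index_pow_range]

theorem skew_cent [Fintype F] (h2 : (2 : F) ≠ 0) {m : ℕ} (hnm : n = 2 * m) (hn : 2 ≤ n)
    (S : GLn) (hS : (S : Mn)ᵀ = -(S : Mn)) :
    Nonempty (↥(Cfsg.inndiagPSL n F ⊓ Subgroup.centralizer {gB S}) ≃* Cfsg.PGSp m F) := by
  have hcp : Fintype.card (Fin m ⊕ Fin m) = n := by
    rw [Fintype.card_sum, Fintype.card_fin]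
    omega
  obtain ⟨ep⟩ : Nonempty (Fin m ⊕ Fin m ≃ Fin n) := ⟨Fintype.equivFinOfCardEq hcp⟩
  have hJ : (Matrix.J (Fin m) F).det ≠ 0 := by
    intro h
    have := Matrix.J_det_mul_J_det (Fin m) F
    rw [h, zero_mul] at this
    exact zero_ne_one this
  have h1 := skew_class h2 hnm hn ep hJ S hS
  obtain ⟨e1⟩ := cent_equiv_of_isConjUnder _ h1
  obtain ⟨e2⟩ := cent_rep_symp hn m ep hJ
  exact ⟨e1.trans e2⟩

/-- orthogonal types: the class count is `gcd(m, (q - 1) / 2)`, and the centralizer is not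
`PGSp` -/
theorem split_count_sym [Fintype F] (hodd : Odd (Fintype.card F)) {m : ℕ} (hm : 2 ≤ m)
    (hnm : n = 2 * m) (S : GLn) (hS : (S : Mn)ᵀ = (S : Mn)) :
    Cfsg.splitClassCount (Cfsg.inndiagPSL n F) (Cfsg.Inn PSLn) (gB S) =
        Nat.gcd m ((Fintype.card F - 1) / 2) ∧
      ¬ Nonempty (↥(Cfsg.inndiagPSL n F ⊓ Subgroup.centralizer {gB S}) ≃* Cfsg.PGSp m F) := by
  have h2 : (2 : F) ≠ 0 := Cfsg.Agent.Lib.Helper5.two_ne_zero_of_odd_card hodd
  have h4 : (4 : F) ≠ 0 := by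
    have : (4 : F) = 2 * 2 := by norm_num
    rw [this]
    exact mul_ne_zero h2 h2
  have hn : 2 ≤ n := by omega
  have hn0 : 0 < n := by omega
  have hchar : ringChar F ≠ 2 := by
    intro h
    have h3 : (2 : F) = 0 := by
      have := ringChar.Nat.cast_ringChar (R := F)
      rw [h] at this
      exact_mod_cast this
    exact h2 h3
  obtain ⟨d, hd⟩ := FiniteField.exists_nonsquare hchar
  obtain ⟨ζ₀, hζd⟩ : ∃ ζ₀ : F, 1 - 4 * ζ₀ = d := ⟨(1 - d) / 4, by field_simp; ring⟩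
  have hζ₀ : ∀ t : F, t ^ 2 + t + ζ₀ ≠ 0 := by
    intro t ht
    apply hd
    refine ⟨2 * t + 1, ?_⟩
    rw [← hζd]
    linear_combination (-4 : F) * ht
  have hd0 : d ≠ 0 := by
    rintro rfl
    exact hd ⟨0, by ring⟩
  have hab : ∀ z₁ z₂ : F, z₁ ^ 2 + 1 * z₁ * z₂ + ζ₀ * z₂ ^ 2 = 0 → z₁ = 0 ∧ z₂ = 0 := by
    intro z₁ z₂ hz
    by_cases hz2 : z₂ = 0
    · subst hz2
      simp at hz
      exact ⟨hz, rfl⟩
    · exfalso
      apply hζ₀ (z₁ / z₂)
      field_simp
      linear_combination hz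
  have hcp : Fintype.card (Fin m ⊕ Fin m) = n := by
    rw [Fintype.card_sum, Fintype.card_fin]
    omega
  have hcm : Fintype.card ((Fin (m - 1) ⊕ Fin (m - 1)) ⊕ Fin 2) = n := by
    rw [Fintype.card_sum, Fintype.card_sum, Fintype.card_fin, Fintype.card_fin]
    omega
  obtain ⟨ep⟩ : Nonempty (Fin m ⊕ Fin m ≃ Fin n) := ⟨Fintype.equivFinOfCardEq hcp⟩
  obtain ⟨em⟩ : Nonempty ((Fin (m - 1) ⊕ Fin (m - 1)) ⊕ Fin 2 ≃ Fin n) :=
    ⟨Fintype.equivFinOfCardEq hcm⟩
  have hdetm_eq : (Cfsg.Agent.S2621.gramMinus (m - 1) (1 : F) ζ₀).det = (-1) ^ m * d := by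
    rw [Cfsg.Agent.S2621.det_gramMinus, ← hζd]
    obtain ⟨k, rfl⟩ : ∃ k, m = k + 1 := ⟨m - 1, by omega⟩
    rw [Nat.add_sub_cancel, pow_succ]
    ring
  have hdetm : (Cfsg.Agent.S2621.gramMinus (m - 1) (1 : F) ζ₀).det ≠ 0 := by
    rw [hdetm_eq]
    exact mul_ne_zero (pow_ne_zero _ (neg_ne_zero.mpr one_ne_zero)) hd0
  rcases sym_class hodd (by omega : 1 ≤ m) hnm ep em ζ₀ hζ₀ hdetm S hS with h5 | h5
  · constructor
    · rw [splitClassCount_gB hn, simDetGroup_eq_of_isConjUnder hn _ _ h5,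
        sup_eq_of_sym hodd hnm _
          (neg_one_mem_simDetGroup hn0 h2 _ (repGL_transpose ep _ _ (gramPlus_transpose m)))
          (exists_nonsquare_sim_plus h2 m ep), index_neg_one_sup_pow h2]
    · rintro ⟨e⟩
      obtain ⟨e1⟩ := cent_equiv_of_isConjUnder _ h5
      obtain ⟨e2⟩ := cent_rep_plus hn h2 m ep
      exact not_equiv_PGO_plus_PGSp hodd m hm ⟨(e2.symm.trans e1.symm).trans e⟩
  · constructor
    · rw [splitClassCount_gB hn, simDetGroup_eq_of_isConjUnder hn _ _ h5,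
        sup_eq_of_sym hodd hnm _
          (neg_one_mem_simDetGroup hn0 h2 _ (repGL_transpose em _ _ (gramMinus_transpose _ _ _)))
          (exists_nonsquare_sim_minus hodd (m - 1) 1 ζ₀ hab em hdetm), index_neg_one_sup_pow h2]
    · rintro ⟨e⟩
      obtain ⟨e1⟩ := cent_equiv_of_isConjUnder _ h5
      obtain ⟨e2⟩ := cent_rep_minus hn h2 (m - 1) 1 ζ₀ em hdetm
      exact not_equiv_PGO_minus_PGSp hodd m hm 1 ζ₀ hab ⟨(e2.symm.trans e1.symm).trans e⟩

/-- **class splitting of involutory graph automorphisms of `PSL_n(q)`** -/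
theorem psl_graph_split [Fintype F] {p f : ℕ} [Fact p.Prime] (hF : Fintype.card F = p ^ f)
    (hn : 3 ≤ n) (γ : MulAut PSLn) (hγ : Cfsg.IsGraphAutClassPSL γ) (hγ2 : orderOf γ = 2) :
    ((Even n ∧ Odd p ∧ Nonempty (↥(Cfsg.inndiagPSL n F ⊓ Subgroup.centralizer {γ}) ≃*
        Cfsg.PGSp (n / 2) F)) →
      Cfsg.splitClassCount (Cfsg.inndiagPSL n F) (Cfsg.Inn PSLn) γ = Nat.gcd (n / 2) (p ^ f - 1)) ∧
    ((Even n ∧ Odd p ∧ ¬ Nonempty (↥(Cfsg.inndiagPSL n F ⊓ Subgroup.centralizer {γ}) ≃*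
        Cfsg.PGSp (n / 2) F)) →
      Cfsg.splitClassCount (Cfsg.inndiagPSL n F) (Cfsg.Inn PSLn) γ = Nat.gcd n (p ^ f - 1) / 2) ∧
    (¬ (Even n ∧ Odd p) →
      Cfsg.splitClassCount (Cfsg.inndiagPSL n F) (Cfsg.Inn PSLn) γ = Nat.gcd n (p ^ f - 1)) := by
  classical
  haveI : CharP F p := charP_of_card p f hF
  have hn2 : 2 ≤ n := by omega
  have hn0 : 0 < n := by omega
  obtain ⟨S, rfl⟩ := exists_gB_of_graphAutClass hγ
  rw [orderOf_gB_eq_two_iff p hn, gB_sq_eq_one_iff hn2] at hγ2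
  obtain ⟨c, hc⟩ := hγ2
  rw [← hF]
  -- the even/odd case data
  have key : Even n → Odd p → ∃ m, 2 ≤ m ∧ n = 2 * m ∧ n / 2 = m ∧ Odd (Fintype.card F) ∧
      (2 : F) ≠ 0 ∧ (((S : Mn)ᵀ = (S : Mn)) ∨ ((S : Mn)ᵀ = -(S : Mn))) := by
    intro hev hp
    obtain ⟨m, hm⟩ := hev
    have hodd : Odd (Fintype.card F) := by
      rw [hF]
      exact hp.pow
    have h2 : (2 : F) ≠ 0 := Cfsg.Agent.Lib.Helper5.two_ne_zero_of_odd_card hodd
    refine ⟨m, by omega, by omega, by omega, hodd, h2, ?_⟩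
    have hc2 := mul_self_eq_one_of_eq_smul_transpose hn0 S c hc
    have hc' : c = 1 ∨ c = -1 := by
      have h5 : (c - 1) * (c + 1) = 0 := by linear_combination hc2
      rcases mul_eq_zero.mp h5 with h6 | h6
      · left
        exact sub_eq_zero.mp h6
      · right
        exact eq_neg_of_add_eq_zero_left h6
    rcases hc' with hc1 | hc1
    · left
      rw [hc1, one_smul] at hc
      exact hc.symm
    · right
      rw [hc1, neg_smul, one_smul] at hc
      conv_rhs => rw [hc]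
      rw [neg_neg]
  refine ⟨?_, ?_, ?_⟩
  · rintro ⟨hev, hp, hiso⟩
    obtain ⟨m, hm, hnm, hdiv, hodd, h2, hS | hS⟩ := key hev hp
    · exfalso
      rw [hdiv] at hiso
      exact (split_count_sym hodd hm hnm S hS).2 hiso
    · rw [hdiv]
      exact split_count_skew h2 hnm hn2 S hS
  · rintro ⟨hev, hp, hiso⟩
    obtain ⟨m, hm, hnm, hdiv, hodd, h2, hS | hS⟩ := key hev hp
    · rw [(split_count_sym hodd hm hnm S hS).1]
      obtain ⟨t, ht⟩ := hodd
      have h5 : Fintype.card F - 1 = 2 * t := by omega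
      rw [h5, hnm, Nat.gcd_mul_left, Nat.mul_div_cancel_left _ (by norm_num : 0 < 2),
        Nat.mul_div_cancel_left _ (by norm_num : 0 < 2)]
    · exfalso
      rw [hdiv] at hiso
      exact hiso (skew_cent h2 hnm hn2 S hS)
  · intro hne
    apply split_count_of_le hn2
    by_cases hev : Even n
    · have hp : ¬ Odd p := fun hp => hne ⟨hev, hp⟩
      have hp2 : p = 2 := by
        rcases (Fact.out : p.Prime).eq_two_or_odd' with h | h
        · exact h
        · exact absurd h hp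
      subst hp2
      exact simDetGroup_le_pow_of_char_two S
    · rw [Nat.not_even_iff_odd] at hev
      obtain ⟨k, hk⟩ := hev
      exact simDetGroup_le_pow_of_odd hk S

end main

end Cfsg.Agent.Lib.Helper5.PslGraph
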